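import Cfsg.Prelude.Def_Amalgam
import Cfsg.Prelude.Def_Transfer
import Cfsg.Agent.H48.Local
import Cfsg.Agent.Cores.PCore

/-!
`p`-th powers of central elements of a Sylow subgroup: weak closure from the normalizer of the value of a
conjugacy functor, when quadratic elements exist outside `O_p` (the setting of S1974).
-/

set_option autoImplicit false
set_option linter.style.haveILetI false

namespace Cfsg.Agent.H49

open Subgroup
open Cfsg.Agent.H48
open scoped commutatorElement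

variable {G : Type*} [Group G] [Finite G] {p : ℕ} [Fact p.Prime]

theorem pCoreOf_isPGroup (H : Subgroup G) : IsPGroup p (pCoreOf p H) :=
  (Cores.pCore_isPGroup (p := p) (G := H)).map _

theorem pCoreOf_le (H : Subgroup G) : pCoreOf p H ≤ H := map_subtype_le _

theorem le_normalizer_pCoreOf (H : Subgroup G) : H ≤ normalizer (pCoreOf p H : Set G) := by
  haveI : ((pCoreOf p H).subgroupOf H).Normal := by
    rw [pCoreOf, Subgroup.subgroupOf, Subgroup.comap_map_eq_self_of_injective H.subtype_injective]; infer_instance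
  exact (normal_subgroupOf_iff_le_normalizer (pCoreOf_le H)).mp inferInstance

theorem le_pCoreOf {H N : Subgroup G} (hle : N ≤ H) (hN : IsPGroup p N)
    (hnorm : H ≤ normalizer (N : Set G)) : N ≤ pCoreOf p H := by
  haveI : (N.subgroupOf H).Normal := normal_subgroupOf_of_le_normalizer hnorm
  have := Cores.le_pCore (p := p) (N := N.subgroupOf H) hN.comap_subtype
  intro x hx
  exact ⟨⟨x, hle hx⟩, this hx, rfl⟩

theorem pCoreOf_le_sylowIn {H R : Subgroup G} (hR : IsSylowIn p R H) : pCoreOf p H ≤ R := by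
  obtain ⟨Q, hQ, hle⟩ := exists_isSylowIn_ge (pCoreOf_isPGroup (p := p) H) (pCoreOf_le H)
  obtain ⟨x, hx, rfl⟩ := hQ.exists_conj hR
  have := cj_mono (g := x) hle
  rwa [cj_eq_of_mem_normalizer (le_normalizer_pCoreOf H hx)] at this

theorem isSylowIn_inf {H R K : Subgroup G} (hR : IsSylowIn p R H) (hK : K ≤ H)
    (hn : H ≤ normalizer (K : Set G)) : IsSylowIn p (R ⊓ K) K := by
  have hp : IsPGroup p ↥(R ⊓ K) := hR.isPGroup.to_le inf_le_left
  obtain ⟨Q, hQ, hle⟩ := exists_isSylowIn_ge hp (inf_le_right : R ⊓ K ≤ K)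
  obtain ⟨x, hx, hxQ⟩ := hR.exists_cj_le hQ.isPGroup (hQ.le.trans hK)
  refine hQ.of_card inf_le_right hp ?_
  rw [← card_cj x Q]
  refine Subgroup.card_le_of_le (le_inf hxQ ?_)
  exact (cj_mono hQ.le).trans (cj_eq_of_mem_normalizer (hn hx)).le

/-- Frattini argument: `H ≤ F` when a normal subgroup and the normalizer of its Sylow subgroup are. -/
theorem le_of_frattini {H R K F : Subgroup G} (hR : IsSylowIn p R H) (hK : K ≤ H)
    (hn : H ≤ normalizer (K : Set G)) (hKF : K ≤ F)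
    (hNF : H ⊓ normalizer ((R ⊓ K : Subgroup G) : Set G) ≤ F) : H ≤ F := by
  intro h hh
  have hQ := isSylowIn_inf hR hK hn
  have hQ' : IsSylowIn p (cj h (R ⊓ K)) K := by
    have := hQ.cj h
    rwa [cj_eq_of_mem_normalizer (hn hh)] at this
  obtain ⟨k, hk, he⟩ := hQ'.exists_conj hQ
  rw [cj_cj] at he
  have : k * h ∈ F := hNF ⟨mul_mem (hK hk) hh, mem_normalizer_of_cj_eq he⟩
  simpa using mul_mem (inv_mem (hKF hk)) this

/-- The local statement: a set of `p`-th powers of elements central in a Sylow subgroup `R` of `H`, inside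
`O_p(H)`, is fixed by `H` if it is fixed by `N_H(W(R))`. -/
theorem local_fix (W : Subgroup G → Subgroup G)
    (hloc : ∀ (H T : Subgroup G), T ≤ H → IsPGroup p ↥T → ¬ p ∣ T.relIndex H →
      ¬ H ≤ normalizer ((W T : Subgroup G) : Set G) → ∃ g : G, g ∈ T ∧ g ∉ pCoreOf p H ∧
        ⁅⁅pCoreOf p H ⊓ centralizer ((pCoreOf p H : Subgroup G) : Set G), zpowers g⁆, zpowers g⁆ = ⊥)
    (A : Set G) (F : Subgroup G) (hF : centralizer A ≤ F) :
    ∀ (H R : Subgroup G), IsSylowIn p R H → A ⊆ (pCoreOf p H : Set G) →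
      (∀ a ∈ A, ∃ z ∈ R, z ^ p = a ∧ ∀ r ∈ R, r * z = z * r) →
      H ⊓ normalizer ((W R : Subgroup G) : Set G) ≤ F → H ≤ F := by
  intro H
  induction H using WellFoundedLT.induction with
  | _ H ih =>
  intro R hR hA hAz hM
  by_cases hW : H ≤ normalizer ((W R : Subgroup G) : Set G)
  · rwa [inf_eq_left.mpr hW] at hM
  set V := pCoreOf p H with hV
  have hVR : V ≤ R := pCoreOf_le_sylowIn hR
  have step : ∀ K : Subgroup G, K ≤ H → H ≤ normalizer (K : Set G) → K ≤ centralizer A →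
      ¬ R ⊓ K ≤ V → H ≤ F := by
    intro K hKH hKn hKA hnot
    refine le_of_frattini hR hKH hKn (hKA.trans hF) ?_
    have hRN : R ≤ normalizer ((R ⊓ K : Subgroup G) : Set G) :=
      (le_inf le_normalizer (hR.le.trans hKn)).trans inf_normalizer_le_normalizer_inf
    have hlt : H ⊓ normalizer ((R ⊓ K : Subgroup G) : Set G) < H := by
      refine lt_of_le_of_ne inf_le_left fun h => hnot ?_
      exact le_pCoreOf (inf_le_left.trans hR.le) (hR.isPGroup.to_le inf_le_left) (inf_eq_left.mp h)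
    set N := H ⊓ normalizer ((R ⊓ K : Subgroup G) : Set G) with hN
    have hRleN : R ≤ N := le_inf hR.le hRN
    have hRN' : IsSylowIn p R N := by
      refine ⟨hRleN, hR.isPGroup, fun hd => hR.ndvd ?_⟩
      exact hd.trans (Dvd.intro _ (relIndex_mul_relIndex R N H hRleN hlt.le))
    refine ih N hlt R hRN' (hA.trans ?_) hAz ((inf_le_inf_right _ hlt.le).trans hM)
    exact le_pCoreOf (hVR.trans hRleN) (pCoreOf_isPGroup H)
      (hlt.le.trans (le_normalizer_pCoreOf H))
  -- the centralizer of `V`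
  have hnormC : H ≤ normalizer ((H ⊓ centralizer (V : Set G) : Subgroup G) : Set G) := by
    rw [le_normalizer_iff]
    rintro h hh x ⟨hx1, hx2⟩
    refine ⟨H.mul_mem (H.mul_mem hh hx1) (H.inv_mem hh), mem_centralizer_iff.mpr fun v hv => ?_⟩
    have hv' : h⁻¹ * v * h ∈ V := (mem_normalizer_iff''.mp (le_normalizer_pCoreOf H hh) v).mp hv
    calc v * (h * x * h⁻¹) = h * (h⁻¹ * v * h * x) * h⁻¹ := by group
      _ = h * (x * (h⁻¹ * v * h)) * h⁻¹ := by rw [mem_centralizer_iff.mp hx2 _ hv']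
      _ = h * x * h⁻¹ * v := by group
  by_cases hC : R ⊓ (H ⊓ centralizer (V : Set G)) ≤ V
  swap
  · exact step _ inf_le_left hnormC (inf_le_right.trans (centralizer_le hA)) hC
  -- `Z(R) ≤ Z(V)`
  have hzV : ∀ z ∈ R, (∀ r ∈ R, r * z = z * r) → z ∈ V ⊓ centralizer (V : Set G) := fun z hz hzc => by
    have h1 : z ∈ centralizer (V : Set G) := mem_centralizer_iff.mpr fun v hv => hzc v (hVR hv)
    exact ⟨hC ⟨hz, hR.le hz, h1⟩, h1⟩
  obtain ⟨g₀, hg₀T, hg₀V, hq₀⟩ := hloc H R hR.le hR.isPGroup hR.ndvd hW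
  -- a quadratic element whose `p`-th power lies in `V`
  obtain ⟨g, hgR, hgV, hgp, hq⟩ : ∃ g, g ∈ R ∧ g ∉ V ∧ g ^ p ∈ V ∧
      ⁅⁅V ⊓ centralizer (V : Set G), zpowers g⁆, zpowers g⁆ = ⊥ := by
    classical
    obtain ⟨k, hk⟩ := hR.isPGroup ⟨g₀, hg₀T⟩
    have hk' : g₀ ^ p ^ k = 1 := by simpa using congrArg Subtype.val hk
    have hex : ∃ n, g₀ ^ p ^ n ∈ V := ⟨k, hk' ▸ one_mem V⟩
    obtain ⟨m, hm⟩ : ∃ m, Nat.find hex = m + 1 := by
      refine Nat.exists_eq_succ_of_ne_zero fun h0 => hg₀V ?_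
      have := Nat.find_spec hex
      rwa [h0, pow_zero, pow_one] at this
    refine ⟨g₀ ^ p ^ m, pow_mem hg₀T _, Nat.find_min hex (by omega), ?_, ?_⟩
    · have := Nat.find_spec hex
      rw [hm, pow_succ, pow_mul] at this
      exact this
    · have hle : zpowers (g₀ ^ p ^ m) ≤ zpowers g₀ := zpowers_le.mpr (pow_mem (mem_zpowers g₀) _)
      exact le_bot_iff.mp (hq₀ ▸ commutator_mono (commutator_mono le_rfl hle) hle)
  -- `g` centralizes `p`-th powers of `Z(V)`
  set Zp : Set G := (fun z : G => z ^ p) '' (V ⊓ centralizer (V : Set G) : Subgroup G) with hZp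
  have hgZ : g ∈ centralizer Zp := by
    refine mem_centralizer_iff.mpr ?_
    rintro _ ⟨z, hz, rfl⟩
    have hgH : g ∈ H := hR.le hgR
    set c := ⁅g, z⁆ with hc
    have hc1 : c ∈ ⁅V ⊓ centralizer (V : Set G), zpowers g⁆ := by
      rw [commutator_comm]; exact commutator_mem_commutator (mem_zpowers g) hz
    have hgc : Commute g c := by
      refine (commutatorElement_eq_one_iff_commute.mp (mem_bot.mp ?_)).symm
      exact hq.le (commutator_mem_commutator hc1 (mem_zpowers g))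
    have hzc : Commute z c := by
      have hzV' : g * z * g⁻¹ ∈ V := (mem_normalizer_iff.mp (le_normalizer_pCoreOf H hgH) z).mp hz.1
      have : c ∈ V := by rw [hc, commutatorElement_def]; exact mul_mem hzV' (inv_mem hz.1)
      exact (mem_centralizer_iff.mp hz.2 c this).symm
    have e1 : g * z * g⁻¹ = c * z := by simp [hc, commutatorElement_def]
    have hpow : ∀ k : ℕ, g ^ k * z * (g ^ k)⁻¹ = c ^ k * z := by
      intro k
      induction k with
      | zero => simp
      | succ k ihk =>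
        calc g ^ (k + 1) * z * (g ^ (k + 1))⁻¹ = g * (g ^ k * z * (g ^ k)⁻¹) * g⁻¹ := by
              rw [pow_succ']; group
          _ = g * (c ^ k * z) * g⁻¹ := by rw [ihk]
          _ = c ^ k * (g * z * g⁻¹) := by rw [← mul_assoc, (hgc.pow_right k).eq]; group
          _ = c ^ (k + 1) * z := by rw [e1, ← mul_assoc, ← pow_succ]
    have hcp : c ^ p = 1 := by
      have h1 : g ^ p * z * (g ^ p)⁻¹ = z := by
        rw [(mem_centralizer_iff.mp hz.2 _ hgp), mul_inv_cancel_right]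
      exact mul_eq_right.mp ((hpow p).symm.trans h1)
    have : g * z ^ p * g⁻¹ = z ^ p := by
      rw [← conj_pow, e1, hzc.symm.mul_pow, hcp, one_mul]
    exact (mul_inv_eq_iff_eq_mul.mp this).symm
  refine step (H ⊓ centralizer Zp) inf_le_left ?_ ?_ fun hle => hgV (hle ⟨hgR, hR.le hgR, hgZ⟩)
  · rw [le_normalizer_iff]
    rintro h hh x ⟨hx1, hx2⟩
    refine ⟨H.mul_mem (H.mul_mem hh hx1) (H.inv_mem hh), mem_centralizer_iff.mpr ?_⟩
    rintro _ ⟨z, hz, rfl⟩
    have hz' : h⁻¹ * z * h ∈ V ⊓ centralizer (V : Set G) := by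
      refine ⟨(mem_normalizer_iff''.mp (le_normalizer_pCoreOf H hh) z).mp hz.1,
        mem_centralizer_iff.mpr fun v hv => ?_⟩
      have hv' : h * v * h⁻¹ ∈ V := (mem_normalizer_iff.mp (le_normalizer_pCoreOf H hh) v).mp hv
      calc v * (h⁻¹ * z * h) = h⁻¹ * (h * v * h⁻¹ * z) * h := by group
        _ = h⁻¹ * (z * (h * v * h⁻¹)) * h := by rw [mem_centralizer_iff.mp hz.2 _ hv']
        _ = h⁻¹ * z * h * v := by group
    have e : h⁻¹ * z ^ p * h = (h⁻¹ * z * h) ^ p := by
      simpa using (conj_pow (a := h⁻¹) (b := z) (i := p)).symm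
    have h1 := mem_centralizer_iff.mp hx2 _ (⟨_, hz', e.symm⟩ : h⁻¹ * z ^ p * h ∈ Zp)
    show z ^ p * (h * x * h⁻¹) = h * x * h⁻¹ * z ^ p
    calc z ^ p * (h * x * h⁻¹) = h * (h⁻¹ * z ^ p * h * x) * h⁻¹ := by group
      _ = h * (x * (h⁻¹ * z ^ p * h)) * h⁻¹ := by rw [h1]
      _ = h * x * h⁻¹ * z ^ p := by group
  · intro x hx
    refine mem_centralizer_iff.mpr fun a ha => ?_
    obtain ⟨z, hz, rfl, hzc⟩ := hAz a ha
    exact mem_centralizer_iff.mp hx.2 _ ⟨z, hzV z hz hzc, rfl⟩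

/-- Global statement: a set of `p`-th powers of elements of `Z(S)`, fixed (in the sense of `F`) by
`N_G(W(S))`, is fixed by every element conjugating it into `S`. -/
theorem global_fix (P : Sylow p G) (W : Subgroup G → Subgroup G) (hW : IsConjugacyFunctor p W)
    (hWZ : ∀ Q : Subgroup G, IsPGroup p Q → Q ⊓ centralizer (Q : Set G) ≤ W Q)
    (hloc : ∀ (H T : Subgroup G), T ≤ H → IsPGroup p ↥T → ¬ p ∣ T.relIndex H →
      ¬ H ≤ normalizer ((W T : Subgroup G) : Set G) → ∃ g : G, g ∈ T ∧ g ∉ pCoreOf p H ∧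
        ⁅⁅pCoreOf p H ⊓ centralizer ((pCoreOf p H : Subgroup G) : Set G), zpowers g⁆, zpowers g⁆ = ⊥)
    (A : Set G) (F : Subgroup G) (hF : centralizer A ≤ F) (hFA : ∀ f ∈ F, rimg A f = A)
    (hA : ∀ a ∈ A, ∃ z ∈ (P : Subgroup G) ⊓ centralizer ((P : Subgroup G) : Set G), z ^ p = a)
    (hN : normalizer ((W (P : Subgroup G) : Subgroup G) : Set G) ≤ F) :
    ∀ g : G, rimg A g ⊆ (P : Subgroup G) → g ∈ F := by
  have hS := P.isPGroup'
  set S : Subgroup G := (P : Subgroup G) with hSdef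
  have hzR : ∀ T : Subgroup G, T ≤ S → ∀ a ∈ A, ∃ z ∈ S ⊓ normalizer (T : Set G), z ^ p = a ∧
      ∀ r ∈ S ⊓ normalizer (T : Set G), r * z = z * r := fun T hT a ha => by
    obtain ⟨z, hz, rfl⟩ := hA a ha
    exact ⟨z, ⟨hz.1, centralizer_le_normalizer _ (centralizer_le hT hz.2)⟩, rfl,
      fun r hr => mem_centralizer_iff.mp hz.2 r hr.1⟩
  have key : ∀ T : Subgroup G, T ≠ ⊥ → IsWellPlaced p W S T → A ⊆ (T : Set G) →
      normalizer (T : Set G) ≤ F := by
    intro T hne hT
    refine wellPlaced_induction hS hW (fun T => A ⊆ (T : Set G) → normalizer (T : Set G) ≤ F)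
      (fun T _ hT ih hAT => ?_) T hne hT
    have hR := IsWellPlaced.isSylowIn hS hT
    have hM : normalizer ((W (S ⊓ normalizer (T : Set G)) : Subgroup G) : Set G) ≤ F := by
      by_cases hRS : S ⊓ normalizer (T : Set G) = S
      · rw [hRS]; exact hN
      · refine ih hRS fun a ha => ?_
        obtain ⟨z, hz, rfl, hzc⟩ := hzR T hT.1 a ha
        exact hWZ _ (hS.to_le inf_le_left) ⟨pow_mem hz p,
          pow_mem (mem_centralizer_iff.mpr hzc) p⟩
    exact local_fix W hloc A F hF (normalizer (T : Set G)) _ hR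
      (hAT.trans (SetLike.coe_subset_coe.mpr (le_pCoreOf le_normalizer (hS.to_le hT.1) le_rfl)))
      (hzR T hT.1) (inf_le_right.trans hM)
  intro g hg
  have hAS : A ⊆ (S : Set G) := fun a ha => by
    obtain ⟨z, hz, rfl⟩ := hA a ha
    exact pow_mem hz.1 p
  have hchain := chain_wellPlaced P hW A g hAS hg
  suffices h : ∀ (B : Set G) (x : G), Chain {T : Subgroup G | IsWellPlaced p W S T} B x → B = A →
      x ∈ F from h A g hchain rfl
  intro B x hc
  induction hc with
  | nil B => exact fun _ => one_mem F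
  | cons B T y k hT hy hB h ih =>
    intro hBA
    subst hBA
    have hyF : y ∈ F := by
      by_cases hne : T = ⊥
      · refine hF (mem_centralizer_iff.mpr fun a ha => ?_)
        rw [mem_bot.mp (hne ▸ hB ha : a ∈ (⊥ : Subgroup G))]; simp
      · exact key T hne hT hB hy
    exact mul_mem hyF (ih (hFA y hyF))

end Cfsg.Agent.H49

namespace Cfsg.Agent.H49

open Subgroup
open Cfsg.Agent.H48

/-- Both forms of the conclusion, for elements and for subgroups. -/
theorem weakly_closed_powers {G : Type*} [Group G] [Finite G] {p : ℕ} [Fact p.Prime]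
    (S : Sylow p G) (W : Subgroup G → Subgroup G) (hW : IsConjugacyFunctor p W)
    (hWZ : ∀ Q : Subgroup G, IsPGroup p Q → Q ⊓ centralizer (Q : Set G) ≤ W Q)
    (hloc : ∀ (H T : Subgroup G), T ≤ H → IsPGroup p ↥T → ¬ p ∣ T.relIndex H →
      ¬ H ≤ normalizer ((W T : Subgroup G) : Set G) → ∃ g : G, g ∈ T ∧ g ∉ pCoreOf p H ∧
        ⁅⁅pCoreOf p H ⊓ centralizer ((pCoreOf p H : Subgroup G) : Set G), zpowers g⁆, zpowers g⁆ = ⊥)
    (Z : Subgroup G) (hZ : Z = Subgroup.closure ((fun z : G => z ^ p) ''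
      (((S : Subgroup G) ⊓ centralizer ((S : Subgroup G) : Set G) : Subgroup G) : Set G))) :
    (∀ x ∈ Z ⊓ centralizer ((normalizer ((W (S : Subgroup G) : Subgroup G) : Set G) : Subgroup G) : Set G),
      ∀ g : G, g * x * g⁻¹ ∈ (S : Subgroup G) → g * x * g⁻¹ = x) ∧
    ∀ A : Subgroup G, A ≤ Z →
      normalizer ((W (S : Subgroup G) : Subgroup G) : Set G) ≤ normalizer ((A : Subgroup G) : Set G) →
      IsWeaklyClosed A (S : Subgroup G) := by
  have hmem : ∀ a ∈ Z, ∃ z ∈ (S : Subgroup G) ⊓ centralizer ((S : Subgroup G) : Set G), z ^ p = a := by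
    intro a ha
    rw [hZ] at ha
    induction ha using Subgroup.closure_induction with
    | mem a ha =>
      obtain ⟨z, hz, rfl⟩ := ha
      exact ⟨z, hz, rfl⟩
    | one => exact ⟨1, one_mem _, one_pow p⟩
    | mul a b _ _ ha hb =>
      obtain ⟨z, hz, rfl⟩ := ha
      obtain ⟨w, hw, rfl⟩ := hb
      have hzw : Commute z w := mem_centralizer_iff.mp hw.2 z hz.1
      exact ⟨z * w, mul_mem hz hw, hzw.mul_pow p⟩
    | inv a _ ha =>
      obtain ⟨z, hz, rfl⟩ := ha
      exact ⟨z⁻¹, inv_mem hz, inv_pow z p⟩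
  constructor
  · rintro x ⟨hxZ, hxC⟩ g hg
    have h := global_fix S W hW hWZ hloc {x} (centralizer {x}) le_rfl
      (fun f hf => by
        simp only [rimg, Set.image_singleton]
        rw [mul_assoc, ← mem_centralizer_singleton_iff.mp hf, inv_mul_cancel_left])
      (fun a ha => by rw [Set.mem_singleton_iff] at ha; subst ha; exact hmem _ hxZ)
      (fun n hn => mem_centralizer_singleton_iff.mpr (mem_centralizer_iff.mp hxC n hn)) g⁻¹
      (by rintro _ ⟨a, ha, rfl⟩; rw [Set.mem_singleton_iff] at ha; subst ha; simpa using SetLike.mem_coe.mpr hg)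
    rw [mul_inv_eq_iff_eq_mul]
    exact mem_centralizer_singleton_iff.mp (inv_inv g ▸ inv_mem h)
  · intro A hAZ hN
    have hAS : A ≤ (S : Subgroup G) := fun a ha => by
      obtain ⟨z, hz, rfl⟩ := hmem a (hAZ ha)
      exact pow_mem hz.1 p
    refine ⟨hAS, fun g hg => ?_⟩
    have h := global_fix S W hW hWZ hloc (A : Set G) (normalizer (A : Set G))
      (centralizer_le_normalizer _) (fun f hf => by
        rw [rimg_coe, cj_eq_of_mem_normalizer (inv_mem hf)])
      (fun a ha => hmem a (hAZ ha)) hN g⁻¹ (by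
        rw [rimg_coe, inv_inv]; exact hg)
    exact cj_eq_of_mem_normalizer (inv_inv g ▸ inv_mem h)

end Cfsg.Agent.H49
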