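import Cfsg.Prelude.Def_LocalEven
import Mathlib

/-!
Chief factors inside a normal `p`-subgroup: existence, elementary facts, elements centralizing all
chief factors below a normal subgroup (stability), Clifford complements.
-/

set_option autoImplicit false
set_option linter.style.haveILetI false

namespace Cfsg.Agent.H49

open Subgroup
open scoped commutatorElement

variable {G : Type*} [Group G]

/-- `B` centralizes every chief factor of `G` below the normal subgroup `R`. -/
def CentralBelow (B R : Subgroup G) : Prop :=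
  ∀ U V : Subgroup G, IsChiefFactor U V → U ≤ R → ⁅U, B⁆ ≤ V

theorem CentralBelow.mono {B R R' : Subgroup G} (h : CentralBelow B R) (hle : R' ≤ R) :
    CentralBelow B R' := fun U V hc hU => h U V hc (hU.trans hle)

theorem exists_chief_below [Finite G] (R : Subgroup G) [R.Normal] (E₀ : Subgroup G) [E₀.Normal]
    (hlt : E₀ < R) : ∃ E : Subgroup G, E₀ ≤ E ∧ IsChiefFactor R E := by
  obtain ⟨E, ⟨hn, h0, hER⟩, hmax⟩ := Set.Finite.exists_maximal
    (s := {E : Subgroup G | E.Normal ∧ E₀ ≤ E ∧ E < R}) (Set.toFinite _) ⟨E₀, ‹_›, le_rfl, hlt⟩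
  refine ⟨E, h0, hER, ‹_›, hn, fun M hM hEM hMR => ?_⟩
  rcases eq_or_lt_of_le hMR with h | h
  · exact Or.inr h
  · exact Or.inl (le_antisymm (hmax ⟨hM, h0.trans hEM, h⟩ hEM) hEM)

theorem exists_chief [Finite G] (R : Subgroup G) [R.Normal] (hR : R ≠ ⊥) :
    ∃ E : Subgroup G, IsChiefFactor R E := by
  obtain ⟨E, -, h⟩ := exists_chief_below R ⊥ (bot_lt_iff_ne_bot.mpr hR)
  exact ⟨E, h⟩

/-- Commutators modulo a normal subgroup. -/
theorem commutator_le_iff_map {A B E : Subgroup G} [E.Normal] :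
    ⁅A, B⁆ ≤ E ↔ ⁅A.map (QuotientGroup.mk' E), B.map (QuotientGroup.mk' E)⁆ = ⊥ := by
  rw [← map_commutator, Subgroup.map_eq_bot_iff, QuotientGroup.ker_mk']

theorem commutator_normalClosure_le {B R E : Subgroup G} [R.Normal] [E.Normal] (h : ⁅R, B⁆ ≤ E) :
    ⁅R, normalClosure (B : Set G)⁆ ≤ E := by
  have h' : ⁅B, R⁆ ≤ E := by rwa [commutator_comm]
  have hB : B ≤ (centralizer ((R.map (QuotientGroup.mk' E) : Subgroup _) : Set (G ⧸ E))).comap
      (QuotientGroup.mk' E) := by
    rw [← map_le_iff_le_comap, ← commutator_eq_bot_iff_le_centralizer, ← commutator_le_iff_map]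
    exact h'
  haveI : (R.map (QuotientGroup.mk' E)).Normal :=
    Subgroup.Normal.map ‹_› _ (QuotientGroup.mk'_surjective E)
  have := normalClosure_le_normal hB
  rw [← map_le_iff_le_comap, ← commutator_eq_bot_iff_le_centralizer, ← commutator_le_iff_map,
    commutator_comm] at this
  exact this

theorem CentralBelow.normalClosure {B R : Subgroup G} (h : CentralBelow B R) :
    CentralBelow (Subgroup.normalClosure (B : Set G)) R := fun U V hc hU => by
  haveI := hc.2.1
  haveI := hc.2.2.1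
  exact commutator_normalClosure_le (h U V hc hU)

theorem CentralBelow.zpowers_of_mem {B R : Subgroup G} (h : CentralBelow B R) {g : G} (hg : g ∈ B) :
    CentralBelow (zpowers g) R := fun U V hc hU =>
  (commutator_mono le_rfl (zpowers_le.mpr hg)).trans (h U V hc hU)

/-- A chief factor below a normal `p`-subgroup has `p`-th powers trivial and is abelian. -/
theorem chief_pow_mem [Finite G] {p : ℕ} [hp : Fact p.Prime] {U V : Subgroup G}
    (hc : IsChiefFactor U V) (hU : IsPGroup p U) :
    (∀ u ∈ U, u ^ p ∈ V) ∧ ⁅U, U⁆ ≤ V := by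
  haveI := hc.2.1
  haveI := hc.2.2.1
  let f := QuotientGroup.mk' V
  haveI : (U.map f).Normal := Subgroup.Normal.map ‹_› _ (QuotientGroup.mk'_surjective V)
  have hUp : IsPGroup p ↥(U.map f) := hU.map f
  have hmin : ∀ M : Subgroup (G ⧸ V), M.Normal → M ≤ U.map f → M = ⊥ ∨ M = U.map f := by
    intro M hM hMU
    have h1 : V ≤ M.comap f := fun v hv => by
      rw [Subgroup.mem_comap, QuotientGroup.mk'_apply, (QuotientGroup.eq_one_iff v).mpr hv]
      exact one_mem _
    have h2 : M.comap f ≤ U := by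
      refine (comap_mono hMU).trans ?_
      rw [comap_map_eq, QuotientGroup.ker_mk', sup_eq_left.mpr hc.1.le]
    rcases hc.2.2.2 _ (hM.comap f) h1 h2 with h | h
    · left
      rw [← map_comap_eq_self_of_surjective (QuotientGroup.mk'_surjective V) M, h,
        Subgroup.map_eq_bot_iff, QuotientGroup.ker_mk']
    · right
      rw [← map_comap_eq_self_of_surjective (QuotientGroup.mk'_surjective V) M, h]
  have hne : U.map f ≠ ⊥ := by
    intro h
    rw [Subgroup.map_eq_bot_iff, QuotientGroup.ker_mk'] at h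
    exact hc.1.not_ge h
  haveI : Nontrivial ↥(U.map f) := (nontrivial_iff_ne_bot _).mpr hne
  -- the centre of `U/V`
  have habel : ⁅U.map f, U.map f⁆ = ⊥ := by
    rcases hmin _ inferInstance (U.map f).commutator_le_self with h | h
    · exact h
    · exfalso
      haveI := hUp.isNilpotent
      have hlt := Group.IsSolvable.commutator_lt_top_of_nontrivial ↥(U.map f)
      exact hlt.ne (by
        apply Subgroup.map_injective (f := (U.map f).subtype) (U.map f).subtype_injective
        rw [commutator_def, map_commutator, ← MonoidHom.range_eq_map, range_subtype, h])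
  refine ⟨fun u hu => ?_, by rw [commutator_le_iff_map]; exact habel⟩
  let P : Subgroup (G ⧸ V) := Subgroup.closure ((fun x => x ^ p) '' (U.map f : Set (G ⧸ V)))
  have hPn : P.Normal := by
    refine ⟨fun x hx g => ?_⟩
    induction hx using Subgroup.closure_induction with
    | mem x hx =>
      obtain ⟨y, hy, rfl⟩ := hx
      exact subset_closure ⟨g * y * g⁻¹, Subgroup.Normal.conj_mem inferInstance y hy g, by
        simp [conj_pow]⟩
    | one => simp
    | mul a b _ _ ha hb =>
      have : g * (a * b) * g⁻¹ = (g * a * g⁻¹) * (g * b * g⁻¹) := by group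
      rw [this]; exact mul_mem ha hb
    | inv a _ ha =>
      have : g * a⁻¹ * g⁻¹ = (g * a * g⁻¹)⁻¹ := by group
      rw [this]; exact inv_mem ha
  have hPU : P ≤ U.map f := (closure_le _).mpr fun x ⟨y, hy, hyx⟩ => hyx ▸ pow_mem hy p
  rcases hmin P hPn hPU with h | h
  · have : (f u) ^ p ∈ P := subset_closure ⟨f u, mem_map_of_mem f hu, rfl⟩
    rw [h, Subgroup.mem_bot, ← map_pow] at this
    exact (QuotientGroup.eq_one_iff _).mp this
  · exfalso
    haveI : IsMulCommutative ↥(U.map f) := commutator_self_eq_bot_iff.mp habel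
    have hcomm : ∀ a b : ↥(U.map f), a * b = b * a := fun a b => setLike_mul_comm a.2 b.2 |> Subtype.ext
    let π : ↥(U.map f) →* ↥(U.map f) :=
      { toFun := fun a => a ^ p
        map_one' := one_pow p
        map_mul' := fun a b => (show Commute a b from hcomm a b).mul_pow p }
    have hsurj : Function.Surjective π := by
      rw [← MonoidHom.range_eq_top, eq_top_iff]
      intro x _
      have hx : (x : G ⧸ V) ∈ P := h.ge x.2
      have hle : P ≤ π.range.map (U.map f).subtype :=
        (closure_le _).mpr fun z ⟨y, hy, hyz⟩ => ⟨π ⟨y, hy⟩, ⟨⟨y, hy⟩, rfl⟩, hyz⟩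
      obtain ⟨w, hw, hwx⟩ := hle hx
      exact (Subtype.ext hwx : w = x) ▸ hw
    obtain ⟨z, hz⟩ : ∃ z : ↥(U.map f), orderOf z = p := by
      obtain ⟨n, hn0, hn⟩ := hUp.nontrivial_iff_card.mp inferInstance
      exact exists_prime_orderOf_dvd_card' p (hn ▸ dvd_pow_self p (ne_of_gt hn0))
    have hinj : Function.Injective π := Finite.injective_iff_surjective.mpr hsurj
    have : z = 1 := hinj (show z ^ p = (1 : ↥(U.map f)) ^ p by rw [← hz, pow_orderOf_eq_one, one_pow])
    rw [this, orderOf_one] at hz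
    exact hp.out.one_lt.ne hz

/-- An element of order prime to `p` centralizing the chief factors below a normal `p`-subgroup
centralizes it. -/
theorem commute_of_centralBelow [Finite G] {p : ℕ} [hp : Fact p.Prime] {g : G}
    (hg : (orderOf g).Coprime p) : ∀ (R : Subgroup G), R.Normal → IsPGroup p R →
      CentralBelow (zpowers g) R → ∀ r ∈ R, g * r = r * g := by
  intro R
  induction R using WellFoundedLT.induction with
  | _ R ih =>
    intro hRn hRp hR r hr
    by_cases hbot : R = ⊥
    · subst hbot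
      rw [Subgroup.mem_bot.mp hr]; simp
    haveI := hRn
    obtain ⟨E, hc⟩ := exists_chief R hbot
    have hEfix : ∀ e ∈ E, g * e = e * g :=
      ih E hc.1 hc.2.2.1 (hRp.to_le hc.1.le) (hR.mono hc.1.le)
    have hc1 : ⁅g, r⁆ ∈ E := by
      have := hR R E hc le_rfl
      rw [commutator_comm] at this
      exact this (commutator_mem_commutator (mem_zpowers g) hr)
    have hcg : Commute g ⁅g, r⁆ := hEfix _ hc1
    have hpow : ∀ k : ℕ, ⁅g ^ k, r⁆ = ⁅g, r⁆ ^ k := by
      intro k
      induction k with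
      | zero => simp
      | succ k ihk =>
        rw [pow_succ, commutatorElement_mul_left_eq_conj_mul, ihk,
          (hcg.pow_left k).eq, mul_inv_cancel_right, ← pow_succ']
    have h1 : ⁅g, r⁆ ^ orderOf g = 1 := by
      rw [← hpow, pow_orderOf_eq_one, commutatorElement_one_left]
    obtain ⟨m, hm⟩ := hRp ⟨⁅g, r⁆, hc.1.le hc1⟩
    have h2 : ⁅g, r⁆ ^ p ^ m = 1 := by simpa using congrArg Subtype.val hm
    have : ⁅g, r⁆ = 1 := by
      have hgcd : Nat.gcd (orderOf g) (p ^ m) = 1 := Nat.Coprime.pow_right m hg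
      have := pow_gcd_eq_one.mpr ⟨h1, h2⟩
      rwa [hgcd, pow_one] at this
    exact commutatorElement_eq_one_iff_mul_comm.mp this

/-- Clifford complement: inside a chief factor every subgroup invariant under a normal subgroup `N`
has an `N`-invariant complement. -/
theorem exists_complement [Finite G] {U V : Subgroup G} (hc : IsChiefFactor U V) (hUU : ⁅U, U⁆ ≤ V)
    (N : Subgroup G) [N.Normal] (Z : Subgroup G) (hVZ : V ≤ Z) (hZU : Z ≤ U) :
    ∃ Y : Subgroup G, V ≤ Y ∧ Y ≤ U ∧ N ≤ normalizer (Y : Set G) ∧ Z ⊔ Y = U ∧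
      (N ≤ normalizer (Z : Set G) → Z ⊓ Y = V) := by
  haveI := hc.2.1
  haveI := hc.2.2.1
  by_cases hNZ : N ≤ normalizer (Z : Set G)
  swap
  · refine ⟨U, hc.1.le, le_rfl, ?_, sup_eq_right.mpr hZU, fun h => absurd h hNZ⟩
    rw [normalizer_eq_top]; exact le_top
  have hUnorm : ∀ W : Subgroup G, V ≤ W → U ≤ normalizer (W : Set G) ∨ ¬ W ≤ U := fun W hVW => by
    by_cases hW : W ≤ U
    · left
      rw [le_normalizer_iff_commutator_le_right]
      exact (commutator_mono le_rfl hW).trans (hUU.trans hVW)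
    · exact Or.inr hW
  obtain ⟨Y, ⟨hVY, hYU, hNY, hYZ⟩, hmax⟩ := Set.Finite.exists_maximal
    (s := {Y : Subgroup G | V ≤ Y ∧ Y ≤ U ∧ N ≤ normalizer (Y : Set G) ∧ Z ⊓ Y ≤ V})
    (Set.toFinite _) ⟨V, le_rfl, hc.1.le, by rw [normalizer_eq_top]; exact le_top, inf_le_right⟩
  refine ⟨Y, hVY, hYU, hNY, ?_, fun _ => le_antisymm hYZ (le_inf hVZ hVY)⟩
  by_contra hne
  obtain ⟨W₀, ⟨hVW, hWU, hNW⟩, hmin⟩ := Set.Finite.exists_minimal
    (s := {W : Subgroup G | V < W ∧ W ≤ U ∧ N ≤ normalizer (W : Set G)}) (Set.toFinite _)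
    ⟨U, hc.1, le_rfl, by rw [normalizer_eq_top]; exact le_top⟩
  let J : Subgroup G := ⨆ g : G, W₀.map (MulAut.conj g).toMonoidHom
  have hJn : J.Normal := by
    refine ⟨fun x hx g => ?_⟩
    have : J.map (MulAut.conj g).toMonoidHom ≤ J := by
      rw [Subgroup.map_iSup]
      refine iSup_le fun h => ?_
      rw [Subgroup.map_map]
      refine le_iSup_of_le (g * h) (le_of_eq ?_)
      congr 1
      ext; simp
    exact this ⟨x, hx, rfl⟩
  have hconjle : ∀ g : G, W₀.map (MulAut.conj g).toMonoidHom ≤ U := fun g => by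
    rintro _ ⟨w, hw, rfl⟩
    exact Subgroup.Normal.conj_mem inferInstance w (hWU hw) g
  have hVconj : ∀ g : G, V ≤ W₀.map (MulAut.conj g).toMonoidHom := fun g v hv =>
    ⟨g⁻¹ * v * g, hVW.le (by simpa using Subgroup.Normal.conj_mem inferInstance v hv g⁻¹), by
      simp [mul_assoc]⟩
  have hJ : J = U := by
    rcases hc.2.2.2 J hJn ((hVconj 1).trans (le_iSup (fun g : G => W₀.map (MulAut.conj g).toMonoidHom) 1))
      (iSup_le hconjle) with h | h
    · exfalso
      refine hVW.not_ge ?_
      have := le_iSup (fun g : G => W₀.map (MulAut.conj g).toMonoidHom) 1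
      intro w hw
      exact h.le (this ⟨w, hw, by simp⟩)
    · exact h
  obtain ⟨g, hg⟩ : ∃ g : G, ¬ W₀.map (MulAut.conj g).toMonoidHom ≤ Z ⊔ Y := by
    by_contra h
    exact hne (le_antisymm (sup_le hZU hYU) (hJ.ge.trans (iSup_le (not_exists_not.mp h))))
  set W := W₀.map (MulAut.conj g).toMonoidHom with hW
  have hNconj : ∀ W' : Subgroup G, N ≤ normalizer (W' : Set G) → ∀ h : G,
      N ≤ normalizer ((W'.map (MulAut.conj h).toMonoidHom : Subgroup G) : Set G) := fun W' hW' h => by
    rw [le_normalizer_iff_commutator_le_right] at hW' ⊢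
    have hN : N.map (MulAut.conj h).toMonoidHom = N := by
      refine le_antisymm (fun _ ⟨n, hn, e⟩ => e ▸ Subgroup.Normal.conj_mem inferInstance n hn h)
        (fun n hn => ⟨h⁻¹ * n * h, ?_, by simp [mul_assoc]⟩)
      simpa using Subgroup.Normal.conj_mem inferInstance n hn h⁻¹
    conv_lhs => rw [← hN]
    rw [← map_commutator]; exact map_mono hW'
  have hNWg : N ≤ normalizer (W : Set G) := hNconj W₀ hNW g
  have hVWg : V ≤ W := hVconj g
  have hNZY : N ≤ normalizer ((Z ⊔ Y : Subgroup G) : Set G) := by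
    rw [le_normalizer_iff]
    intro n hn x hx
    have h1 : (Z ⊔ Y).map (MulAut.conj n).toMonoidHom ≤ Z ⊔ Y := by
      rw [Subgroup.map_sup]
      refine sup_le_sup ?_ ?_
      · rintro _ ⟨z, hz, rfl⟩; exact (mem_normalizer_iff.mp (hNZ hn) z).mp hz
      · rintro _ ⟨z, hz, rfl⟩; exact (mem_normalizer_iff.mp (hNY hn) z).mp hz
    exact h1 ⟨x, hx, rfl⟩
  have hWZY : W ⊓ (Z ⊔ Y) ≤ V := by
    -- pull back to `W₀` and use minimality
    let X := (W ⊓ (Z ⊔ Y)).map (MulAut.conj g⁻¹).toMonoidHom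
    have hX0 : X ≤ W₀ := by
      rintro _ ⟨x, ⟨⟨w, hw, rfl⟩, -⟩, rfl⟩
      simpa [mul_assoc] using hw
    have hVX : V ≤ X := fun v hv =>
      ⟨g * v * g⁻¹, ⟨hVWg (Subgroup.Normal.conj_mem inferInstance v hv g),
        mem_sup_left (hVZ (Subgroup.Normal.conj_mem inferInstance v hv g))⟩, by simp [mul_assoc]⟩
    by_contra hnot
    have hXV : V < X := lt_of_le_not_ge hVX fun h => hnot fun x hx => by
      have := h (⟨x, hx, rfl⟩ : (MulAut.conj g⁻¹).toMonoidHom x ∈ X)
      have := Subgroup.Normal.conj_mem (H := V) inferInstance _ this g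
      simpa [mul_assoc] using this
    have hNX : N ≤ normalizer (X : Set G) :=
      hNconj _ ((le_inf hNWg hNZY).trans inf_normalizer_le_normalizer_inf) g⁻¹
    have := hmin ⟨hXV, hX0.trans hWU, hNX⟩ hX0
    apply hg
    rintro _ ⟨w, hw, rfl⟩
    obtain ⟨x, hx, hxw⟩ := this hw
    have : (MulAut.conj g).toMonoidHom w = x := by rw [← hxw]; simp [mul_assoc]
    exact this ▸ hx.2
  have hY' : Y ⊔ W ∈ {Y : Subgroup G | V ≤ Y ∧ Y ≤ U ∧ N ≤ normalizer (Y : Set G) ∧ Z ⊓ Y ≤ V} := by
    refine ⟨hVY.trans le_sup_left, sup_le hYU (hconjle g), ?_, ?_⟩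
    · exact (le_inf hNY hNWg).trans (fun n hn => by
        rw [mem_normalizer_iff]
        have key : ∀ m : G, m ∈ normalizer (Y : Set G) → m ∈ normalizer (W : Set G) →
            ∀ x ∈ Y ⊔ W, m * x * m⁻¹ ∈ Y ⊔ W := by
          intro m hm1 hm2 x hx
          have h1 : (Y ⊔ W).map (MulAut.conj m).toMonoidHom ≤ Y ⊔ W := by
            rw [Subgroup.map_sup]
            refine sup_le_sup ?_ ?_
            · rintro _ ⟨z, hz, rfl⟩; exact (mem_normalizer_iff.mp hm1 z).mp hz
            · rintro _ ⟨z, hz, rfl⟩; exact (mem_normalizer_iff.mp hm2 z).mp hz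
          exact h1 ⟨x, hx, rfl⟩
        refine fun x => ⟨key n hn.1 hn.2 x, fun hx => ?_⟩
        have := key n⁻¹ (inv_mem hn.1) (inv_mem hn.2) _ hx
        simpa [mul_assoc] using this)
    · rintro x ⟨hxZ, hxYW⟩
      have hYn : W ≤ normalizer (Y : Set G) :=
        (hconjle g).trans ((hUnorm Y hVY).resolve_right (not_not.mpr hYU))
      replace hxYW : x ∈ ((Y ⊔ W : Subgroup G) : Set G) := hxYW
      rw [Subgroup.coe_mul_of_right_le_normalizer_left Y W hYn] at hxYW
      obtain ⟨y, hy, w, hw, rfl⟩ := Set.mem_mul.mp hxYW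
      have hwZY : w ∈ Z ⊔ Y := by
        have := mul_mem (mem_sup_right (S := Z) (inv_mem hy)) (mem_sup_left (T := Y) hxZ)
        simpa using this
      have hwV := hWZY ⟨hw, hwZY⟩
      exact hYZ ⟨hxZ, mul_mem hy (hVY hwV)⟩
  exact hg ((hmax hY' le_sup_left).trans' le_sup_right |>.trans le_sup_right)

end Cfsg.Agent.H49
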