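import Cfsg.Prelude.Def_PLocal
import Cfsg.Prelude.Def_LocalEven
import Cfsg.Agent.H49.Series
import Cfsg.Agent.Cores.PCore
import Mathlib

/-!
Degree of nilpotency of the action of an element on chief factors of a normal `p`-subgroup from the degrees on a
critical subgroup and on its centre; `O_p` of the automizer of a chief factor.
-/

set_option autoImplicit false
set_option linter.style.haveILetI false

namespace Cfsg.Agent.H49

open Subgroup
open scoped commutatorElement

variable {G : Type*} [Group G]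

theorem iter_zero (N K : Subgroup G) : iterCommutator N K 0 = N := rfl

theorem iter_succ (N K : Subgroup G) (n : ℕ) :
    iterCommutator N K (n + 1) = ⁅iterCommutator N K n, K⁆ := rfl

theorem iter_map {H : Type*} [Group H] (f : G →* H) (N K : Subgroup G) (n : ℕ) :
    (iterCommutator N K n).map f = iterCommutator (N.map f) (K.map f) n := by
  induction n with
  | zero => rfl
  | succ n ih => rw [iter_succ, iter_succ, map_commutator, ih]

theorem iter_mono {N N' : Subgroup G} (h : N ≤ N') (K : Subgroup G) (n : ℕ) :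
    iterCommutator N K n ≤ iterCommutator N' K n := by
  induction n with
  | zero => exact h
  | succ n ih => exact commutator_mono ih le_rfl

theorem iter_succ_le (N : Subgroup G) [N.Normal] (K : Subgroup G) :
    ∀ n, iterCommutator N K (n + 1) ≤ iterCommutator N K n
  | 0 => commutator_le_left N K
  | n + 1 => commutator_mono (iter_succ_le N K n) le_rfl

theorem iter_antitone (N : Subgroup G) [N.Normal] (K : Subgroup G) :
    Antitone (iterCommutator N K) := antitone_nat_of_succ_le (iter_succ_le N K)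

theorem iter_le_self (N : Subgroup G) [N.Normal] (K : Subgroup G) (n : ℕ) :
    iterCommutator N K n ≤ N := iter_antitone N K (Nat.zero_le n)

/-- If `U = U₀ V` with `U₀ ≤ U`, iterated commutators of `U` vanish mod `V` if those of `U₀` do. -/
theorem iter_le_of_sup {U U₀ V : Subgroup G} [V.Normal] (h : U₀ ⊔ V = U) (K : Subgroup G) (n : ℕ)
    (h0 : iterCommutator U₀ K n ≤ V) : iterCommutator U K n ≤ V := by
  have he : U.map (QuotientGroup.mk' V) = U₀.map (QuotientGroup.mk' V) := by
    rw [← h, Subgroup.map_sup, (Subgroup.map_eq_bot_iff V).mpr (QuotientGroup.ker_mk' V).ge, sup_bot_eq]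
  rw [← QuotientGroup.ker_mk' V, ← Subgroup.map_eq_bot_iff, iter_map, he, ← iter_map,
    Subgroup.map_eq_bot_iff, QuotientGroup.ker_mk']
  exact h0

/-- Three subgroups lemma with a target normalized by the three subgroups. -/
theorem three_subgroup_le' {A B C M : Subgroup G} (hA : A ≤ normalizer (M : Set G))
    (hB : B ≤ normalizer (M : Set G)) (hC : C ≤ normalizer (M : Set G))
    (h1 : ⁅⁅B, C⁆, A⁆ ≤ M) (h2 : ⁅⁅C, A⁆, B⁆ ≤ M) : ⁅⁅A, B⁆, C⁆ ≤ M := by
  set N := normalizer (M : Set G) with hN
  haveI : (M.subgroupOf N).Normal := normal_in_normalizer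
  let f := QuotientGroup.mk' (M.subgroupOf N)
  have key : ∀ X Y Z : Subgroup G, X ≤ N → Y ≤ N → Z ≤ N →
      (⁅⁅X, Y⁆, Z⁆ ≤ M ↔
        ⁅⁅(X.subgroupOf N).map f, (Y.subgroupOf N).map f⁆, (Z.subgroupOf N).map f⁆ = ⊥) := by
    intro X Y Z hX hY hZ
    rw [← map_commutator, ← map_commutator, Subgroup.map_eq_bot_iff, QuotientGroup.ker_mk',
      ← map_le_map_iff_of_injective N.subtype_injective, map_commutator, map_commutator,
      map_subgroupOf_eq_of_le hX, map_subgroupOf_eq_of_le hY, map_subgroupOf_eq_of_le hZ,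
      map_subgroupOf_eq_of_le le_normalizer]
  rw [key A B C hA hB hC]
  exact commutator_commutator_eq_bot_of_rotate ((key B C A hB hC hA).mp h1) ((key C A B hC hA hB).mp h2)

/-- Degree bound for the commutator pairing of two sections into a third one. -/
theorem pairing_degree (R R₁ X W K : Subgroup G) [R₁.Normal] [X.Normal] [W.Normal] (i j : ℕ)
    (hRW : ⁅R₁, W⁆ = ⊥) (hXW : ⁅X, W⁆ = ⊥) (hR0 : ⁅R, X⁆ = ⊥) (hR1 : ⁅R₁, X⁆ ≤ W)
    (hi : iterCommutator R₁ K i ≤ R) (hj : iterCommutator W K j = ⊥) :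
    ⁅R₁, iterCommutator X K (i + j - 1)⁆ = ⊥ := by
  have hC : ∀ t (Y : Subgroup G), ⁅Y, W⁆ = ⊥ →
      Y ≤ normalizer (iterCommutator W K t : Set G) := fun t Y hY =>
    ((commutator_eq_bot_iff_le_centralizer.mp hY).trans
      (centralizer_le (iter_le_self W K t))).trans (centralizer_le_normalizer _)
  have hK : ∀ t, K ≤ normalizer (iterCommutator W K t : Set G) := fun t =>
    le_normalizer_iff_commutator_le_right.mpr (by rw [commutator_comm]; exact iter_succ_le W K t)
  have claim : ∀ s k, ⁅iterCommutator R₁ K k, iterCommutator X K s⁆ ≤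
      iterCommutator W K (s + k + 1 - i) := by
    intro s
    induction s with
    | zero =>
      intro k
      by_cases hk : i ≤ k
      · rw [iter_zero]
        exact ((commutator_mono ((iter_antitone R₁ K hk).trans hi) le_rfl).trans hR0.le).trans bot_le
      · rw [iter_zero, show 0 + k + 1 - i = 0 by omega, iter_zero]
        exact (commutator_mono (iter_le_self R₁ K k) le_rfl).trans hR1
    | succ s ih =>
      intro k
      set t := s + 1 + k + 1 - i with ht
      rw [commutator_comm, iter_succ]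
      refine three_subgroup_le' (hC t _ ?_) (hK t) (hC t _ ?_) ?_ ?_
      · exact le_bot_iff.mp ((commutator_mono (iter_le_self X K s) le_rfl).trans hXW.le)
      · exact le_bot_iff.mp ((commutator_mono (iter_le_self R₁ K k) le_rfl).trans hRW.le)
      · rw [commutator_comm K, ← iter_succ]
        exact (ih (k + 1)).trans (iter_antitone W K (by omega))
      · refine (commutator_mono (ih k) le_rfl).trans ?_
        rw [← iter_succ]
        exact iter_antitone W K (by omega)
  refine le_bot_iff.mp ?_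
  have := claim (i + j - 1) 0
  rw [iter_zero] at this
  exact this.trans ((iter_antitone W K (by omega : j ≤ i + j - 1 + 0 + 1 - i)).trans hj.le)

/-- `{u : ⁅R, u⁆ ⊆ E}`. -/
def annih (R E : Subgroup G) [E.Normal] : Subgroup G :=
  (centralizer ((R.map (QuotientGroup.mk' E) : Subgroup (G ⧸ E)) : Set (G ⧸ E))).comap
    (QuotientGroup.mk' E)

instance annih_normal (R E : Subgroup G) [R.Normal] [E.Normal] : (annih R E).Normal := by
  haveI : (R.map (QuotientGroup.mk' E)).Normal :=
    Subgroup.Normal.map ‹_› _ (QuotientGroup.mk'_surjective E)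
  exact Subgroup.Normal.comap inferInstance _

theorem le_annih {R E S : Subgroup G} [E.Normal] : S ≤ annih R E ↔ ⁅R, S⁆ ≤ E := by
  rw [annih, ← map_le_iff_le_comap, ← commutator_eq_bot_iff_le_centralizer, ← map_commutator,
    commutator_comm S R, Subgroup.map_eq_bot_iff, QuotientGroup.ker_mk']

theorem commutator_annih (R E : Subgroup G) [E.Normal] : ⁅R, annih R E⁆ ≤ E := le_annih.mp le_rfl

/-- A normal subgroup whose elements have `p`-power in the centralizer of a minimal normal `p`-subgroup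
centralizes it. -/
theorem le_centralizer_of_minimal [Finite G] {p : ℕ} [hp : Fact p.Prime] {M : Subgroup G} [M.Normal]
    (hM : IsPGroup p M) (hne : M ≠ ⊥) (hmin : ∀ N : Subgroup G, N.Normal → N ≤ M → N = ⊥ ∨ N = M)
    (L : Subgroup G) [L.Normal] (hL : ∀ l ∈ L, ∃ k : ℕ, l ^ p ^ k ∈ centralizer (M : Set G)) :
    L ≤ centralizer (M : Set G) := by
  let ψ : L →* MulAut M := (MulAut.conjNormal (H := M)).comp L.subtype
  have hψ : IsPGroup p ψ.range := by
    rintro ⟨_, l, rfl⟩
    obtain ⟨k, hk⟩ := hL l l.2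
    refine ⟨k, Subtype.ext ?_⟩
    simp only [SubgroupClass.coe_pow, ← map_pow, Subgroup.coe_one]
    refine MulEquiv.ext fun m => Subtype.ext ?_
    show ((MulAut.conjNormal ((l : G) ^ p ^ k) m : M) : G) = ((1 : MulAut M) m : M)
    rw [MulAut.conjNormal_apply, MulAut.one_apply]
    have := mem_centralizer_iff.mp hk m m.2
    rw [← this, mul_inv_cancel_right]
  have hdvd : p ∣ Nat.card M := by
    rcases hM.card_eq_or_dvd with h | h
    · exact absurd (Subgroup.card_eq_one.mp h) hne
    · exact h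
  obtain ⟨b, hb, hb1⟩ := hψ.exists_fixed_point_of_prime_dvd_card_of_fixed_point M hdvd
    (a := (1 : M)) (fun φ => map_one φ.1)
  let F := M ⊓ centralizer (L : Set G)
  have hbF : (b : G) ∈ F := by
    refine ⟨b.2, mem_centralizer_iff.mpr fun l hl => ?_⟩
    have := congrArg (fun x : M => (x : G)) (hb ⟨ψ ⟨l, hl⟩, ⟨l, hl⟩, rfl⟩)
    have h2 : l * (b : G) * l⁻¹ = b := by
      simpa [ψ, MulAut.conjNormal_apply, Subgroup.smul_def, MulAut.smul_def] using this
    exact mul_inv_eq_iff_eq_mul.mp h2
  rcases hmin F inferInstance inf_le_left with h | h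
  · rw [h, Subgroup.mem_bot] at hbF
    exact absurd (Subtype.ext hbF : b = 1) (Ne.symm hb1)
  · exact le_centralizer_iff.mp (h.ge.trans inf_le_right)

/-- The image of a chief factor in the quotient by its bottom is a minimal normal subgroup. -/
theorem chief_map {U V : Subgroup G} [V.Normal] (hc : IsChiefFactor U V) :
    (U.map (QuotientGroup.mk' V)).Normal ∧ U.map (QuotientGroup.mk' V) ≠ ⊥ ∧
      ∀ N : Subgroup (G ⧸ V), N.Normal → N ≤ U.map (QuotientGroup.mk' V) →
        N = ⊥ ∨ N = U.map (QuotientGroup.mk' V) := by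
  have hs := QuotientGroup.mk'_surjective V
  refine ⟨Subgroup.Normal.map hc.2.1 _ hs, fun h => ?_, fun N hN hle => ?_⟩
  · rw [Subgroup.map_eq_bot_iff, QuotientGroup.ker_mk'] at h
    exact hc.1.not_ge h
  · have h1 : V ≤ N.comap (QuotientGroup.mk' V) := fun v hv => by
      rw [Subgroup.mem_comap, QuotientGroup.mk'_apply, (QuotientGroup.eq_one_iff v).mpr hv]
      exact one_mem _
    have h2 : N.comap (QuotientGroup.mk' V) ≤ U := by
      refine (comap_mono hle).trans ?_
      rw [comap_map_eq, QuotientGroup.ker_mk', sup_eq_left.mpr hc.1.le]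
    rcases hc.2.2.2 _ (hN.comap _) h1 h2 with h | h
    · left
      rw [← map_comap_eq_self_of_surjective hs N, h, Subgroup.map_eq_bot_iff, QuotientGroup.ker_mk']
    · right
      rw [← map_comap_eq_self_of_surjective hs N, h]

/-- A normal `p`-subgroup centralizes every chief factor inside a normal `p`-subgroup. -/
theorem pgroup_centralBelow [Finite G] {p : ℕ} [hp : Fact p.Prime] (P T : Subgroup G) [P.Normal]
    (hP : IsPGroup p P) (hT : IsPGroup p T) : CentralBelow P T := fun U V hc hU => by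
  haveI := hc.2.2.1
  obtain ⟨h1, h2, h3⟩ := chief_map hc
  haveI := h1
  haveI : (P.map (QuotientGroup.mk' V)).Normal :=
    Subgroup.Normal.map ‹_› _ (QuotientGroup.mk'_surjective V)
  rw [commutator_le_iff_map, commutator_comm, commutator_eq_bot_iff_le_centralizer]
  refine le_centralizer_of_minimal (p := p) ((hT.to_le hU).map _) h2 h3 _ fun l hl => ?_
  obtain ⟨k, hk⟩ := (hP.map (QuotientGroup.mk' V)) ⟨l, hl⟩
  refine ⟨k, ?_⟩
  rw [show l ^ p ^ k = 1 by simpa using congrArg Subtype.val hk]
  exact one_mem _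

/-- Degrees on a critical subgroup and its centre bound the degree on the whole normal subgroup. -/
theorem chief_degree [Finite G] {p : ℕ} [hp : Fact p.Prime] (P : Subgroup G) [P.Normal]
    (hP : IsPGroup p P) (Q : Subgroup G) [Q.Normal] (hQP : Q ≤ P)
    (hQ3 : ⁅P, Q⁆ ≤ Q ⊓ centralizer (Q : Set G))
    (hQ4 : P ⊓ centralizer (Q : Set G) = Q ⊓ centralizer (Q : Set G)) (K : Subgroup G) (i j : ℕ)
    (hi : 1 ≤ i)
    (hQi : ∀ U V : Subgroup G, IsChiefFactor U V → U ≤ Q → iterCommutator U K i ≤ V)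
    (hZj : ∀ U V : Subgroup G, IsChiefFactor U V → U ≤ Q ⊓ centralizer (Q : Set G) →
      iterCommutator U K j ≤ V) :
    ∀ U V : Subgroup G, IsChiefFactor U V → U ≤ P → iterCommutator U K (i + j - 1) ≤ V := by
  intro U V hc hU
  haveI := hc.2.1
  haveI := hc.2.2.1
  set Z := Q ⊓ centralizer (Q : Set G) with hZ
  haveI : Z.Normal := inferInstanceAs (Q ⊓ centralizer (Q : Set G)).Normal
  rcases hc.2.2.2 ((U ⊓ Z) ⊔ V) inferInstance le_sup_right (sup_le inf_le_left hc.1.le) with hUZ | hUZ
  swap
  · -- the factor is covered by `Z(Q)`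
    have hcZ : IsChiefFactor (U ⊓ Z) (V ⊓ Z) := by
      refine ⟨lt_of_le_of_ne (inf_le_inf_right Z hc.1.le) fun h => ?_, inferInstance, inferInstance,
        fun M hM h1 h2 => ?_⟩
      · exact hc.1.ne (le_antisymm hc.1.le (hUZ.ge.trans (sup_le (h ▸ inf_le_left) le_rfl)))
      · haveI := hM
        rcases hc.2.2.2 (M ⊔ V) inferInstance le_sup_right
          (sup_le (h2.trans inf_le_left) hc.1.le) with h | h
        · exact Or.inl (le_antisymm (le_inf (le_sup_left.trans h.le) (h2.trans inf_le_right)) h1)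
        · right
          refine le_antisymm h2 fun x hx => ?_
          have hxU : x ∈ ((M ⊔ V : Subgroup G) : Set G) := h.ge hx.1
          rw [Subgroup.coe_mul_of_right_le_normalizer_left M V
            (by rw [normalizer_eq_top]; exact le_top)] at hxU
          obtain ⟨m, hm, v, hv, rfl⟩ := Set.mem_mul.mp hxU
          refine mul_mem hm (h1 ⟨hv, ?_⟩)
          have hxZ : m * v ∈ Z := hx.2
          have hmZ : m⁻¹ ∈ Z := inv_mem (h2 hm).2
          simpa using mul_mem hmZ hxZ
    refine iter_le_of_sup hUZ K _ ?_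
    calc iterCommutator (U ⊓ Z) K (i + j - 1) ≤ iterCommutator (U ⊓ Z) K j :=
          iter_antitone _ K (by omega)
      _ ≤ V ⊓ Z := hZj _ _ hcZ inf_le_right
      _ ≤ V := inf_le_left
  -- choose the target factor inside `Z(Q)`
  have hQU : ⁅Q, U⁆ ≤ Z := by rw [commutator_comm]; exact (commutator_mono hU le_rfl).trans hQ3
  obtain ⟨W, ⟨hWn, hWZ, hWU⟩, hWmin⟩ := Set.Finite.exists_minimal
    (s := {W : Subgroup G | ∃ _ : W.Normal, W ≤ Z ∧ U ≤ (U ⊓ annih Q W) ⊔ V}) (Set.toFinite _)
    ⟨Z, inferInstance, le_rfl, le_sup_of_le_left (le_inf le_rfl (le_annih.mpr hQU))⟩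
  haveI := hWn
  have hW0 : W ≠ ⊥ := by
    rintro rfl
    refine hc.1.not_ge (hWU.trans (sup_le ?_ le_rfl))
    have h1 : U ⊓ annih Q ⊥ ≤ centralizer (Q : Set G) := by
      rw [← commutator_eq_bot_iff_le_centralizer, commutator_comm, eq_bot_iff]
      exact (commutator_mono le_rfl inf_le_right).trans (commutator_annih Q ⊥)
    calc U ⊓ annih Q ⊥ ≤ U ⊓ Z :=
          le_inf inf_le_left ((le_inf (inf_le_left.trans hU) h1).trans hQ4.le)
      _ ≤ V := le_sup_left.trans hUZ.le
  obtain ⟨E, hWE⟩ := exists_chief W hW0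
  haveI := hWE.2.2.1
  have hXE : U ⊓ annih Q E ≤ V := by
    rcases hc.2.2.2 ((U ⊓ annih Q E) ⊔ V) inferInstance le_sup_right
      (sup_le inf_le_left hc.1.le) with h | h
    · exact le_sup_left.trans h.le
    · exact absurd (hWmin ⟨inferInstance, hWE.1.le.trans hWZ, h.ge⟩ hWE.1.le) hWE.1.not_ge
  -- choose the source factor inside `Q`
  obtain ⟨R, ⟨hRn, hRQ, hRU⟩, hRmax⟩ := Set.Finite.exists_maximal
    (s := {R : Subgroup G | ∃ _ : R.Normal, R ≤ Q ∧
      U ≤ (U ⊓ annih Q W ⊓ annih R E) ⊔ V}) (Set.toFinite _)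
    ⟨⊥, inferInstance, bot_le, hWU.trans (sup_le_sup (le_inf le_rfl
      (le_annih.mpr (by rw [commutator_bot_left]; exact bot_le))) le_rfl)⟩
  haveI := hRn
  have hRlt : R < Q := lt_of_le_of_ne hRQ (by
    rintro rfl
    exact hc.1.not_ge (hRU.trans (sup_le ((le_inf (inf_le_left.trans inf_le_left) inf_le_right).trans hXE)
      le_rfl)))
  obtain ⟨R₁, ⟨hR1n, hR1lt, hR1Q⟩, hR1min⟩ := Set.Finite.exists_minimal
    (s := {M : Subgroup G | M.Normal ∧ R < M ∧ M ≤ Q}) (Set.toFinite _) ⟨Q, ‹_›, hRlt, le_rfl⟩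
  haveI := hR1n
  have hR1c : IsChiefFactor R₁ R := by
    refine ⟨hR1lt, hR1n, hRn, fun M hM h1 h2 => ?_⟩
    rcases eq_or_lt_of_le h1 with h | h
    · exact Or.inl h.symm
    · exact Or.inr (le_antisymm h2 (hR1min ⟨hM, h, h2.trans hR1Q⟩ h2))
  set X := U ⊓ annih Q W ⊓ annih R E with hX
  have hsup : X ⊔ V = U :=
    le_antisymm (sup_le (inf_le_left.trans inf_le_left) hc.1.le) hRU
  have hX1 : U ⊓ annih Q W ⊓ annih R₁ E ≤ V := by
    rcases hc.2.2.2 ((U ⊓ annih Q W ⊓ annih R₁ E) ⊔ V) inferInstance le_sup_right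
      (sup_le (inf_le_left.trans inf_le_left) hc.1.le) with h | h
    · exact le_sup_left.trans h.le
    · exact absurd (hRmax ⟨inferInstance, hR1Q, h.ge⟩ hR1lt.le) hR1lt.not_ge
  refine iter_le_of_sup hsup K _ ?_
  refine le_trans (le_inf ?_ (le_annih.mpr ?_)) hX1
  · exact (iter_le_self X K _).trans inf_le_left
  · have hs := QuotientGroup.mk'_surjective E
    haveI : (R₁.map (QuotientGroup.mk' E)).Normal := Subgroup.Normal.map ‹_› _ hs
    haveI : (X.map (QuotientGroup.mk' E)).Normal := Subgroup.Normal.map inferInstance _ hs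
    haveI : (W.map (QuotientGroup.mk' E)).Normal := Subgroup.Normal.map ‹_› _ hs
    rw [commutator_le_iff_map, iter_map]
    refine pairing_degree (R.map (QuotientGroup.mk' E)) _ _ (W.map (QuotientGroup.mk' E)) _ i j ?_ ?_ ?_ ?_ ?_ ?_
    · rw [← commutator_le_iff_map]
      have : ⁅R₁, W⁆ ≤ ⁅Q, Z⁆ := commutator_mono hR1Q hWZ
      refine this.trans (le_of_eq_of_le ?_ bot_le)
      rw [commutator_comm]
      exact commutator_eq_bot_iff_le_centralizer.mpr inf_le_right
    · rw [← commutator_le_iff_map, commutator_comm]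
      exact (commutator_mono le_rfl ((inf_le_left.trans inf_le_left : X ≤ U).trans hU)).trans
        (pgroup_centralBelow P P hP hP W E hWE ((hWZ.trans inf_le_left).trans hQP))
    · rw [← commutator_le_iff_map]
      exact (commutator_mono le_rfl (inf_le_right : X ≤ annih R E)).trans (commutator_annih R E)
    · rw [← map_commutator]
      exact map_mono ((commutator_mono hR1Q (inf_le_left.trans inf_le_right : X ≤ annih Q W)).trans
        (commutator_annih Q W))
    · rw [← iter_map]; exact map_mono (hQi R₁ R hR1c hR1Q)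
    · rw [← iter_map, Subgroup.map_eq_bot_iff, QuotientGroup.ker_mk']
      exact hZj W E hWE hWZ

/-- An element acting quadratically but nontrivially on a chief factor inside a normal `p`-subgroup gives a
quotient that is not `p`-stable. -/
theorem not_pStable_of_quadratic [Finite G] {p : ℕ} [hp : Fact p.Prime] {U V : Subgroup G} [V.Normal]
    (hc : IsChiefFactor U V) (hU : IsPGroup p U) {g : G}
    (hq : ⁅⁅U, zpowers g⁆, zpowers g⁆ ≤ V) (hn : ¬ ⁅U, zpowers g⁆ ≤ V) :
    ¬ IsNormalizerPStable p (G ⧸ V) := by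
  intro hst
  obtain ⟨h1, h2, h3⟩ := chief_map hc
  haveI := h1
  set f := QuotientGroup.mk' V with hf
  set M := U.map f with hM
  have hg : f g ∈ normalizer (M : Set (G ⧸ V)) := by rw [normalizer_eq_top]; exact mem_top _
  have hq' : ⁅⁅M, zpowers (f g)⁆, zpowers (f g)⁆ = ⊥ := by
    rw [← MonoidHom.map_zpowers, hM, ← map_commutator, ← map_commutator, Subgroup.map_eq_bot_iff,
      QuotientGroup.ker_mk']
    exact hq
  have hmem := hst M (hU.map f) (f g) hg hq'
  let q := QuotientGroup.mk' ((centralizer (M : Set (G ⧸ V))).subgroupOf (normalizer (M : Set (G ⧸ V))))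
  let L := ((pCore p _).comap q).map (normalizer (M : Set (G ⧸ V))).subtype
  haveI : L.Normal := by
    refine Subgroup.Normal.map (Subgroup.Normal.comap inferInstance _) _ ?_
    intro x
    exact ⟨⟨x, by rw [normalizer_eq_top]; exact mem_top x⟩, rfl⟩
  have hgL : f g ∈ L := ⟨⟨f g, hg⟩, hmem, rfl⟩
  have hle : L ≤ centralizer (M : Set (G ⧸ V)) := by
    refine le_centralizer_of_minimal (hU.map f) h2 h3 L ?_
    rintro _ ⟨l, hl, rfl⟩
    obtain ⟨k, hk⟩ := Cores.pCore_isPGroup ⟨q l, hl⟩
    refine ⟨k, ?_⟩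
    have h4 : q (l ^ p ^ k) = 1 := by rw [map_pow]; simpa using congrArg Subtype.val hk
    have h5 := (QuotientGroup.eq_one_iff _).mp h4
    rw [mem_subgroupOf] at h5
    exact h5
  apply hn
  rw [commutator_le_iff_map, MonoidHom.map_zpowers, commutator_comm, commutator_eq_bot_iff_le_centralizer]
  exact zpowers_le.mpr (hle hgL)

end Cfsg.Agent.H49
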