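import Mathlib

/-!
The commutator pairing on a section of class two with a cubically acting element: the element fixes
the values of the pairing (used for the chief factor statement about the K-infinity subgroups).
-/

set_option autoImplicit false

namespace Cfsg.Agent.H49

open Subgroup
open scoped commutatorElement

variable {Q : Type*} [Group Q]

/-- Let `U, V ≤ Q` be normal, the commutators of `U` central in `U`, `⁅U, V⁆ = 1`, `N` a normal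
subgroup with `⁅⁅U,U⁆, N, N⁆ = 1`, `g ∈ N` with `⁅⁅g,x⁆, ⁅g,⁅g,y⁆⁆⁆ = 1` and `g` centralizing
`⁅g,⁅g,y⁆⁆` on `U`, no involution in `⁅U,U⁆`, and `N`-invariant complements above `V`.
Then `g` centralizes `⁅U,U⁆`. -/
theorem pairing_fixed (U V N : Subgroup Q) [U.Normal] [V.Normal] [N.Normal] (hVU : V ≤ U)
    (hcen : ∀ a ∈ U, ∀ b ∈ U, ∀ c ∈ U, Commute ⁅a, b⁆ c) (hUV : ⁅U, V⁆ = ⊥)
    (hN2 : ⁅⁅⁅U, U⁆, N⁆, N⁆ = ⊥) (g : Q) (hg : g ∈ N)
    (h2 : ∀ x ∈ U, ∀ y ∈ U, Commute ⁅g, x⁆ ⁅g, ⁅g, y⁆⁆)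
    (h3 : ∀ y ∈ U, Commute g ⁅g, ⁅g, y⁆⁆)
    (hodd : ∀ w ∈ ⁅U, U⁆, w ^ 2 = 1 → w = 1)
    (hcompl : ∀ Z : Subgroup Q, V ≤ Z → Z ≤ U → N ≤ normalizer (Z : Set Q) →
      ∃ Y : Subgroup Q, V ≤ Y ∧ Y ≤ U ∧ N ≤ normalizer (Y : Set Q) ∧ Z ⊔ Y = U ∧ Z ⊓ Y ≤ V) :
    ∀ x ∈ U, ∀ y ∈ U, Commute g ⁅x, y⁆ := by
  have hmul_l : ∀ a ∈ U, ∀ b ∈ U, ∀ c ∈ U, ⁅a * b, c⁆ = ⁅b, c⁆ * ⁅a, c⁆ := fun a ha b hb c hc => by
    rw [commutatorElement_mul_left_eq_conj_mul, ((hcen b hb c hc a ha).symm).eq, mul_inv_cancel_right]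
  have hmul_r : ∀ a ∈ U, ∀ b ∈ U, ∀ c ∈ U, ⁅a, b * c⁆ = ⁅a, b⁆ * ⁅a, c⁆ := fun a ha b hb c hc => by
    rw [commutatorElement_mul_right_eq_mul_conj, mul_assoc ⁅a, b⁆ b, ((hcen a ha c hc b hb).symm).eq,
      mul_assoc, mul_inv_cancel_right]
  have hcomm : ∀ a ∈ U, ∀ b ∈ U, ∀ c ∈ U, ∀ d ∈ U, Commute ⁅a, b⁆ ⁅c, d⁆ := fun a ha b hb c hc d hd =>
    hcen a ha b hb _ (U.commutator_le_self (commutator_mem_commutator hc hd))
  have hV : ∀ a ∈ U, ∀ v ∈ V, ⁅a, v⁆ = 1 := fun a ha v hv =>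
    Subgroup.mem_bot.mp (hUV.le (commutator_mem_commutator ha hv))
  have hV' : ∀ a ∈ U, ∀ v ∈ V, ⁅v, a⁆ = 1 := fun a ha v hv => by
    rw [← commutatorElement_inv, hV a ha v hv, inv_one]
  have hd : ∀ x ∈ U, ⁅g, x⁆ ∈ U := fun x hx =>
    Subgroup.commutator_le_right N U (commutator_mem_commutator hg hx)
  have hc : ∀ x : Q, g * x * g⁻¹ = ⁅g, x⁆ * x := fun x => by simp [commutatorElement_def]
  have hfixD : ∀ w ∈ ⁅U, U⁆, ∀ n ∈ N, Commute g ⁅n, w⁆ := by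
    intro w hw n hn
    have h1 : ⁅n, w⁆ ∈ ⁅⁅U, U⁆, N⁆ := by
      rw [commutator_comm ⁅U, U⁆ N]; exact commutator_mem_commutator hn hw
    have := Subgroup.mem_bot.mp (hN2.le (commutator_mem_commutator h1 hg))
    exact (commutatorElement_eq_one_iff_commute.mp this).symm
  -- the radical
  let Z : Subgroup Q :=
    { carrier := {y | y ∈ U ∧ ∀ x ∈ U, Commute g ⁅x, y⁆}
      one_mem' := ⟨one_mem _, fun x _ => by rw [commutatorElement_one_right]; exact Commute.one_right g⟩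
      mul_mem' := by
        rintro a b ⟨ha, ha'⟩ ⟨hb, hb'⟩
        exact ⟨mul_mem ha hb, fun x hx => by
          rw [hmul_r x hx a ha b hb]; exact (ha' x hx).mul_right (hb' x hx)⟩
      inv_mem' := by
        rintro a ⟨ha, ha'⟩
        refine ⟨inv_mem ha, fun x hx => ?_⟩
        have h := hmul_r x hx a ha a⁻¹ (inv_mem ha)
        rw [mul_inv_cancel, commutatorElement_one_right] at h
        rw [eq_inv_of_mul_eq_one_right h.symm]
        exact (ha' x hx).inv_right }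
  have hVZ : V ≤ Z := fun v hv =>
    ⟨hVU hv, fun x hx => by rw [hV x hx v hv]; exact Commute.one_right g⟩
  have hZU : Z ≤ U := fun _ h => h.1
  have hNZ : N ≤ normalizer (Z : Set Q) := by
    rw [le_normalizer_iff]
    rintro n hn y ⟨hy, hy'⟩
    refine ⟨Subgroup.Normal.conj_mem inferInstance y hy n, fun x hx => ?_⟩
    have hx' : n⁻¹ * x * n ∈ U := by simpa using Subgroup.Normal.conj_mem (H := U) inferInstance x hx n⁻¹
    have e : ⁅x, n * y * n⁻¹⁆ = ⁅n, ⁅n⁻¹ * x * n, y⁆⁆ * ⁅n⁻¹ * x * n, y⁆ := by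
      simp [commutatorElement_def, mul_assoc]
    rw [e]
    exact (hfixD _ (commutator_mem_commutator hx' hy) n hn).mul_right (hy' _ hx')
  have hDD : ∀ y ∈ U, ⁅g, ⁅g, y⁆⁆ ∈ Z := fun y hy => by
    refine ⟨hd _ (hd y hy), fun x hx => ?_⟩
    set z := ⁅g, ⁅g, y⁆⁆ with hz
    have e : g * ⁅x, z⁆ * g⁻¹ = ⁅x, z⁆ := by
      rw [conjugate_commutatorElement, hc x,
        show g * z * g⁻¹ = z by rw [(h3 y hy).eq, mul_inv_cancel_right],
        hmul_l _ (hd x hx) _ hx _ (hd _ (hd y hy)), (h2 x hx y hy).commutator_eq, mul_one]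
    exact eq_mul_inv_iff_mul_eq.mp e.symm |>.symm
  obtain ⟨Y, hVY, hYU, hNY, hsup, hinf⟩ := hcompl Z hVZ hZU hNZ
  have hdY : ∀ y ∈ Y, ⁅g, y⁆ ∈ Y := fun y hy =>
    le_normalizer_iff_commutator_le_right.mp hNY (commutator_mem_commutator hg hy)
  have hddV : ∀ y ∈ Y, ⁅g, ⁅g, y⁆⁆ ∈ V := fun y hy =>
    hinf ⟨hDD y (hYU hy), hdY _ (hdY y hy)⟩
  -- the derivative of the pairing
  have hψ : ∀ x ∈ U, ∀ y ∈ U, ⁅g, ⁅x, y⁆⁆ =
      ⁅⁅g, x⁆, y⁆ * ⁅x, ⁅g, y⁆⁆ * ⁅⁅g, x⁆, ⁅g, y⁆⁆ := fun x hx y hy => by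
    have h1 : g * ⁅x, y⁆ * g⁻¹ =
        ⁅⁅g, x⁆, y⁆ * ⁅x, ⁅g, y⁆⁆ * ⁅⁅g, x⁆, ⁅g, y⁆⁆ * ⁅x, y⁆ := by
      rw [conjugate_commutatorElement, hc x, hc y, hmul_l _ (hd x hx) _ hx _ (mul_mem (hd y hy) hy),
        hmul_r _ hx _ (hd y hy) _ hy, hmul_r _ (hd x hx) _ (hd y hy) _ hy]
      have c1 := hcomm x hx y hy _ (hd x hx) _ (hd y hy)
      have c2 := hcomm x hx y hy _ (hd x hx) y hy
      have c3 := hcomm _ (hd x hx) _ (hd y hy) _ (hd x hx) y hy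
      have c4 := hcomm x hx _ (hd y hy) _ (hd x hx) y hy
      rw [mul_assoc ⁅x, ⁅g, y⁆⁆, (c1.mul_right c2).eq, c3.eq, ← mul_assoc, ← mul_assoc, c4.eq]
    calc ⁅g, ⁅x, y⁆⁆ = g * ⁅x, y⁆ * g⁻¹ * ⁅x, y⁆⁻¹ := rfl
      _ = _ := by rw [h1, mul_inv_cancel_right]
  -- `⁅⁅g,x⁆,⁅g,y⁆⁆` vanishes on `Y`
  have ht : ∀ x ∈ Y, ∀ y ∈ Y, ⁅⁅g, x⁆, ⁅g, y⁆⁆ = 1 := fun x hx y hy => by
    have hxU := hYU hx
    have hyU := hYU hy
    set dx := ⁅g, x⁆
    set dy := ⁅g, y⁆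
    have hdx : dx ∈ U := hd x hxU
    have hdy : dy ∈ U := hd y hyU
    -- `g` fixes ψ
    have hfix : g * ⁅g, ⁅x, y⁆⁆ * g⁻¹ = ⁅g, ⁅x, y⁆⁆ := by
      rw [(hfixD _ (commutator_mem_commutator hxU hyU) g hg).eq, mul_inv_cancel_right]
    have hgdx : g * dx * g⁻¹ = ⁅g, dx⁆ * dx := hc dx
    have hgdy : g * dy * g⁻¹ = ⁅g, dy⁆ * dy := hc dy
    have hvx := hddV x hx
    have hvy := hddV y hy
    have k1 : g * ⁅dx, y⁆ * g⁻¹ = ⁅dx, y⁆ * ⁅dx, dy⁆ := by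
      rw [conjugate_commutatorElement, hgdx, hc y,
        hmul_l _ (hd _ hdx) _ hdx _ (mul_mem hdy hyU), hV' _ (mul_mem hdy hyU) _ hvx, mul_one,
        hmul_r _ hdx _ hdy _ hyU, (hcomm dx hdx dy hdy dx hdx y hyU).eq]
    have k2 : g * ⁅x, dy⁆ * g⁻¹ = ⁅x, dy⁆ * ⁅dx, dy⁆ := by
      rw [conjugate_commutatorElement, hgdy, hc x,
        hmul_r _ (mul_mem hdx hxU) _ (hd _ hdy) _ hdy, hV _ (mul_mem hdx hxU) _ hvy, one_mul,
        hmul_l _ hdx _ hxU _ hdy]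
    have k3 : g * ⁅dx, dy⁆ * g⁻¹ = ⁅dx, dy⁆ := by
      rw [conjugate_commutatorElement, hgdx, hgdy,
        hmul_l _ (hd _ hdx) _ hdx _ (mul_mem (hd _ hdy) hdy),
        hV' _ (mul_mem (hd _ hdy) hdy) _ hvx, mul_one, hmul_r _ hdx _ (hd _ hdy) _ hdy,
        hV _ hdx _ hvy, one_mul]
    rw [hψ x hxU y hyU] at hfix
    have e : g * (⁅dx, y⁆ * ⁅x, dy⁆ * ⁅dx, dy⁆) * g⁻¹ =
        (g * ⁅dx, y⁆ * g⁻¹) * (g * ⁅x, dy⁆ * g⁻¹) * (g * ⁅dx, dy⁆ * g⁻¹) := by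
      simp [mul_assoc]
    rw [e, k1, k2, k3, mul_left_inj, mul_assoc ⁅dx, y⁆, mul_right_inj, ← mul_assoc,
      (hcomm dx hdx dy hdy x hxU dy hdy).eq, mul_assoc] at hfix
    have : ⁅dx, dy⁆ * ⁅dx, dy⁆ = 1 := mul_eq_left.mp hfix
    exact hodd _ (commutator_mem_commutator hdx hdy) (by rw [pow_two]; exact this)
  have hdYV : ∀ x ∈ Y, ⁅g, x⁆ ∈ V := fun x hx => by
    refine hinf ⟨⟨hd x (hYU hx), fun w hw => ?_⟩, hdY x hx⟩
    have hU' : U ≤ normalizer (Z : Set Q) := by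
      rw [le_normalizer_iff]
      rintro u hu z ⟨hz, hz'⟩
      refine ⟨Subgroup.Normal.conj_mem inferInstance z hz u, fun a ha => ?_⟩
      have hez : u * z * u⁻¹ = ⁅u, z⁆ * z := by simp [commutatorElement_def]
      rw [hez, hmul_r a ha _ (U.commutator_le_self (commutator_mem_commutator hu hz)) z hz,
        (hcen u hu z hz a ha).symm.commutator_eq, one_mul]
      exact hz' a ha
    have hw' : w ∈ ((Z ⊔ Y : Subgroup Q) : Set Q) := hsup.ge hw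
    rw [Subgroup.coe_mul_of_right_le_normalizer_left Z Y (hYU.trans hU')] at hw'
    obtain ⟨z, hz, y, hy, rfl⟩ := Set.mem_mul.mp hw'
    rw [hmul_l z (hZU hz) y (hYU hy) _ (hd x (hYU hx))]
    refine Commute.mul_right ?_ ?_
    · -- y part
      rw [← commutatorElement_inv]
      refine Commute.inv_right ?_
      have h1 := hψ ⁅g, x⁆ (hd x (hYU hx)) y (hYU hy)
      rw [hV' y (hYU hy) _ (hddV x hx), ht x hx y hy,
        hV' _ (hd y (hYU hy)) _ (hddV x hx), one_mul, one_mul] at h1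
      exact commutatorElement_eq_one_iff_commute.mp h1
    · rw [← commutatorElement_inv]
      exact (hz.2 _ (hd x (hYU hx))).inv_right
  have hYZ : Y ≤ Z := fun y hy => by
    refine ⟨hYU hy, fun w hw => ?_⟩
    have hw' : w ∈ Z ⊔ Y := hsup.ge hw
    have key : Z ⊔ Y ≤ ({ carrier := {w | w ∈ U ∧ Commute g ⁅w, y⁆}
                          one_mem' := ⟨one_mem _, by simp⟩
                          mul_mem' := by
                            rintro a b ⟨ha, ha'⟩ ⟨hb, hb'⟩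
                            exact ⟨mul_mem ha hb, by
                              rw [hmul_l a ha b hb y (hYU hy)]; exact hb'.mul_right ha'⟩
                          inv_mem' := by
                            rintro a ⟨ha, ha'⟩
                            refine ⟨inv_mem ha, ?_⟩
                            have h := hmul_l a ha a⁻¹ (inv_mem ha) y (hYU hy)
                            rw [mul_inv_cancel, commutatorElement_one_left] at h
                            rw [eq_inv_of_mul_eq_one_left h.symm]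
                            exact ha'.inv_right } : Subgroup Q) := by
      refine sup_le (fun z hz => ⟨hZU hz, ?_⟩) (fun a ha => ⟨hYU ha, ?_⟩)
      · rw [← commutatorElement_inv]
        exact (hz.2 y (hYU hy)).inv_right
      · refine commutatorElement_eq_one_iff_commute.mp ?_
        rw [hψ a (hYU ha) y (hYU hy), hV' y (hYU hy) _ (hdYV a ha),
          hV a (hYU ha) _ (hdYV y hy), hV' _ (hd y (hYU hy)) _ (hdYV a ha), one_mul, one_mul]
    exact (key hw').2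
  intro x hx y hy
  exact ((hsup.ge.trans (sup_le le_rfl hYZ)) hy).2 x hx

end Cfsg.Agent.H49
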