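import Cfsg.Agent.H49.KSeq
import Cfsg.Agent.H49.Series
import Cfsg.Agent.H49.Pairing

/-!
When a K-infinity subgroup of a Sylow subgroup is not normal, some element outside the normal
`p`-subgroup acts cubically on a self-centralizing-type subgroup of it, and quadratically but
nontrivially on a chief factor inside it.
-/

set_option autoImplicit false
set_option linter.style.haveILetI false

namespace Cfsg.Agent.H49

open Subgroup
open scoped commutatorElement

universe u

variable {G : Type u} [Group G]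

instance zc_normal (A : Subgroup G) [A.Normal] : (zc A).Normal :=
  inferInstanceAs (A ⊓ centralizer (A : Set G)).Normal

/-- The alternative when some term of the K-sequence leaves the normal subgroup `T`. -/
theorem k_dichotomy (T A : Subgroup G) [T.Normal] [A.Normal] (hTA : ⁅T, A⁆ ≤ zc A)
    (hA : A ∈ classTwoSubgroups G) :
    (∀ n, kSeqEven G n ≤ T ∧ kSeqOdd G (n + 1) ≤ T) ∨
    (∃ g : G, g ∉ T ∧ ⁅⁅A, zpowers g⁆, zpowers g⁆ ≤ zc A ∧
      ⁅⁅zc A, zpowers g⁆, zpowers g⁆ = ⊥) ∨
    ∃ B : Subgroup G, ¬ B ≤ T ∧ B ∈ classTwoSubgroups G ∧ A ≤ normalizer (B : Set G) ∧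
      ⁅⁅zc A, B⁆, B⁆ = ⊥ ∧
      ∀ X : Subgroup G, X.Normal → X ≤ A → ⁅B, ⁅X, X⁆⁆ = ⊥ → ⁅⁅X, B⁆, B⁆ = ⊥ := by
  classical
  by_contra hcon
  obtain ⟨h0, h1, h2⟩ := by
    simpa only [not_or] using hcon
  -- every element acting quadratically lies in `T`
  have hq : ∀ g : G, ⁅⁅A, zpowers g⁆, zpowers g⁆ ≤ zc A →
      ⁅⁅zc A, zpowers g⁆, zpowers g⁆ = ⊥ → g ∈ T := fun g a b => by
    by_contra hg; exact h1 ⟨g, hg, a, b⟩
  have hclass : ∀ X : Subgroup G, X ≤ A → X ∈ classTwoSubgroups G := fun X hX =>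
    (commutator_mono hX hX).trans (hA.trans (centralizer_le hX))
  have hTA' : ⁅A, T⁆ ≤ zc A := by rwa [commutator_comm]
  have heven : ∀ n, A ≤ kSeqOdd G n → kSeqEven G n ≤ T := fun n hAQ => by
    refine sSup_le fun B hB => ?_
    have hAB : A ≤ normalizer (B : Set G) := hAQ.trans (kLowerStar_mem.mp hB).2.1
    by_cases hZ : zc B ≤ T
    · by_contra hBT
      have hX : ∀ X : Subgroup G, X.Normal → X ≤ A → ⁅B, ⁅X, X⁆⁆ = ⊥ → ⁅⁅X, B⁆, B⁆ = ⊥ := by
        intro X hXn hXA hXX
        haveI := hXn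
        have hz : ⁅⁅zc B, X⁆, X⁆ = ⊥ := by
          refine le_bot_iff.mp ?_
          calc ⁅⁅zc B, X⁆, X⁆ ≤ ⁅zc A, A⁆ :=
                commutator_mono ((commutator_mono hZ hXA).trans hTA) hXA
            _ = ⊥ := commutator_zc A
        have := (kLowerStar_mem.mp hB).2.2 X (hclass X hXA) (hXA.trans hAQ)
          (by rw [normalizer_eq_top]; exact le_top) hXX hz
        rw [commutator_comm] at this
        exact le_bot_iff.mp ((commutator_mono this le_rfl).trans (commutator_zc B).le)
      refine h2 ⟨B, hBT, (kLowerStar_mem.mp hB).1, hAB, ?_, hX⟩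
      exact hX _ inferInstance (zc_le A)
        (by rw [le_bot_iff.mp ((commutator_mono le_rfl (zc_le A)).trans (commutator_zc A).le),
          commutator_bot_right])
    · exfalso
      obtain ⟨g, hg, hgT⟩ := SetLike.not_le_iff_exists.mp hZ
      have hg1 : zpowers g ≤ zc B := zpowers_le.mpr hg
      have hAg : ⁅A, zpowers g⁆ ≤ B :=
        (commutator_mono le_rfl (hg1.trans (zc_le B))).trans
          (le_normalizer_iff_commutator_le_right.mp hAB)
      have hq0 : ⁅⁅A, zpowers g⁆, zpowers g⁆ = ⊥ := by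
        refine le_bot_iff.mp ((commutator_mono hAg hg1).trans ?_)
        rw [commutator_comm, commutator_zc]
      exact hgT (hq g (hq0 ▸ bot_le)
        (le_bot_iff.mp (hq0 ▸ commutator_mono (commutator_mono (zc_le A) le_rfl) le_rfl)))
  have hodd : ∀ n, kSeqEven G n ≤ T → kSeqOdd G (n + 1) ≤ T := fun n hn => by
    by_cases hAQ : A ≤ kSeqEven G n
    · refine sSup_le fun B hB => ?_
      intro g hg
      have hBA : ⁅A, B⁆ ≤ zc B := by
        rw [commutator_comm]
        exact (commutator_mono le_rfl hAQ).trans hB.2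
      have hq0 : ⁅⁅A, zpowers g⁆, zpowers g⁆ = ⊥ := le_bot_iff.mp <|
        (commutator_mono ((commutator_mono le_rfl (zpowers_le.mpr hg)).trans hBA)
          (zpowers_le.mpr hg)).trans (commutator_zc B).le
      exact hq g (hq0 ▸ bot_le)
        (le_bot_iff.mp (hq0 ▸ commutator_mono (commutator_mono (zc_le A) le_rfl) le_rfl))
    · exfalso
      refine hAQ (le_sSup (kLowerStar_mem.mpr ⟨hA, by rw [normalizer_eq_top]; exact le_top, ?_⟩))
      intro X hX hXQ hAX hXX hZX
      by_cases hXT : X ≤ T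
      · exact (commutator_mono le_rfl hXT).trans hTA'
      · exfalso
        obtain ⟨g, hg, hgT⟩ := SetLike.not_le_iff_exists.mp hXT
        have hgX : zpowers g ≤ X := zpowers_le.mpr hg
        have hAX' : ⁅A, X⁆ ≤ X := le_normalizer_iff_commutator_le_right.mp hAX
        refine hgT (hq g ?_ (le_bot_iff.mp (hZX ▸ commutator_mono (commutator_mono le_rfl hgX) hgX)))
        refine (commutator_mono (commutator_mono le_rfl hgX) hgX).trans (le_inf ?_ ?_)
        · exact (commutator_mono (commutator_le_left A X) le_rfl).trans (commutator_le_left A X)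
        · refine (commutator_mono hAX' le_rfl).trans ?_
          exact commutator_eq_bot_iff_le_centralizer.mp (by rwa [commutator_comm])
  apply h0
  intro n
  induction n with
  | zero => exact ⟨heven 0 le_top, hodd 0 (heven 0 le_top)⟩
  | succ n ih =>
    have hAQ : A ≤ kSeqOdd G (n + 1) :=
      le_sSup (kUpperStar_mem.mpr ⟨hA, (commutator_mono le_rfl ih.1).trans hTA'⟩)
    exact ⟨heven _ hAQ, hodd _ (heven _ hAQ)⟩

/-! ### Terms inside a normal subgroup -/

theorem kInf_characteristic (P : Type u) [Group P] :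
    (kInfLower P).Characteristic ∧ (kInfUpper P).Characteristic := by
  have h : ∀ φ : P ≃* P, (kInfLower P).map φ.toMonoidHom = kInfLower P ∧
      (kInfUpper P).map φ.toMonoidHom = kInfUpper P := fun φ =>
    kInf_map φ.toMonoidHom φ.injective fun n => by
      rw [MonoidHom.range_eq_top.mpr φ.surjective]; exact ⟨le_top, le_top⟩
  exact ⟨characteristic_iff_map_eq.mpr fun φ => (h φ).1, characteristic_iff_map_eq.mpr fun φ => (h φ).2⟩

theorem inducedFunctor_kInf_eq {S T : Subgroup G} (hTS : T ≤ S)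
    (h : ∀ n, kSeqEven (↥S) n ≤ T.subgroupOf S ∧ kSeqOdd (↥S) (n + 1) ≤ T.subgroupOf S) :
    inducedFunctor kInfLower S = inducedFunctor kInfLower T ∧
      inducedFunctor kInfUpper S = inducedFunctor kInfUpper T := by
  obtain ⟨a, b⟩ := kInf_map (inclusion hTS) (inclusion_injective hTS) fun n => by
    rw [inclusion_range]; exact h n
  constructor
  · rw [inducedFunctor, inducedFunctor, ← a, Subgroup.map_map, subtype_comp_inclusion]
  · rw [inducedFunctor, inducedFunctor, ← b, Subgroup.map_map, subtype_comp_inclusion]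

theorem inducedFunctor_kInf_normal (T : Subgroup G) [T.Normal] :
    (inducedFunctor kInfLower T).Normal ∧ (inducedFunctor kInfUpper T).Normal := by
  haveI := (kInf_characteristic ↥T).1
  haveI := (kInf_characteristic ↥T).2
  exact ⟨ConjAct.normal_of_characteristic_of_normal, ConjAct.normal_of_characteristic_of_normal⟩

/-! ### Quadratic action on a chief factor -/

theorem quad_of_commute {U : Subgroup G} {g : G} (h : ∀ u ∈ U, Commute g ⁅g, u⁆) :
    ⁅⁅U, zpowers g⁆, zpowers g⁆ = ⊥ := by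
  let S : Subgroup G :=
    { carrier := {x | Commute x g ∧ ∀ u ∈ U, Commute g ⁅x, u⁆}
      one_mem' := ⟨Commute.one_left g, fun u _ => by
        rw [commutatorElement_one_left]; exact Commute.one_right g⟩
      mul_mem' := by
        rintro a b ⟨ha, ha'⟩ ⟨hb, hb'⟩
        refine ⟨ha.mul_left hb, fun u hu => ?_⟩
        rw [commutatorElement_mul_left_eq_conj_mul]
        exact ((ha.symm.mul_right (hb' u hu)).mul_right ha.symm.inv_right).mul_right (ha' u hu)
      inv_mem' := by
        rintro a ⟨ha, ha'⟩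
        refine ⟨ha.inv_left, fun u hu => ?_⟩
        rw [commutatorElement_inv_left, ← commutatorElement_inv a u]
        exact (ha.symm.inv_right.mul_right (ha' u hu).inv_right).mul_right ha.symm }
  rw [commutator_eq_bot_iff_le_centralizer]
  refine commutator_le.mpr fun u hu x hx => ?_
  have hxS : x ∈ S := (zpowers_le (H := S)).mpr ⟨Commute.refl g, h⟩ hx
  rw [zpowers_eq_closure, centralizer_closure, mem_centralizer_singleton_iff, ← commutatorElement_inv]
  exact (hxS.2 u hu).inv_right.symm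

theorem commutator_lt_of_central [Finite G] (R N : Subgroup G) [R.Normal] (hR : R ≠ ⊥)
    (h : CentralBelow N R) : ⁅R, N⁆ < R := by
  obtain ⟨E, hc⟩ := exists_chief R hR
  exact lt_of_le_of_lt (h R E hc le_rfl) hc.1

theorem three_subgroup_le (U N R : Subgroup G) [U.Normal] [N.Normal] [R.Normal] :
    ⁅⁅U, N⁆, R⁆ ≤ ⁅⁅N, R⁆, U⁆ ⊔ ⁅⁅R, U⁆, N⁆ := by
  let M := ⁅⁅N, R⁆, U⁆ ⊔ ⁅⁅R, U⁆, N⁆
  change _ ≤ M
  rw [← QuotientGroup.ker_mk' M, ← Subgroup.map_eq_bot_iff, map_commutator, map_commutator]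
  apply commutator_commutator_eq_bot_of_rotate
  · rw [← map_commutator, ← map_commutator, Subgroup.map_eq_bot_iff, QuotientGroup.ker_mk']
    exact le_sup_left
  · rw [← map_commutator, ← map_commutator, Subgroup.map_eq_bot_iff, QuotientGroup.ker_mk']
    exact le_sup_right

/-- In odd characteristic, the cubically acting class two subgroup centralizes the derived subgroup
of the lowest chief factor it moves. -/
theorem derived_centralized [Finite G] {p : ℕ} [hp : Fact p.Prime] (hp2 : p ≠ 2)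
    (U V B : Subgroup G) (hc : IsChiefFactor U V) (hU : IsPGroup p U)
    (hUU : ⁅⁅U, U⁆, U⁆ = ⊥) (hmov : ¬ ⁅U, B⁆ ≤ V)
    (hlow : ∀ E : Subgroup G, E.Normal → E < U → CentralBelow B E)
    (hB : ⁅U, B⁆ ≤ B) (hBB : ⁅⁅B, B⁆, B⁆ = ⊥) : ⁅B, ⁅U, U⁆⁆ = ⊥ := by
  haveI := hc.2.1
  haveI := hc.2.2.1
  obtain ⟨-, hUV'⟩ := chief_pow_mem hc hU
  let N : Subgroup G := normalClosure (B : Set G)
  have hBN : B ≤ N := subset_normalClosure
  have hW : CentralBelow N V := (hlow V inferInstance hc.1).normalClosure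
  -- `U = ⁅U, N⁆`
  have hUN : ⁅U, N⁆ = U := by
    by_contra hne
    have hlt : ⁅U, N⁆ < U := lt_of_le_of_ne (commutator_le_left U N) hne
    obtain ⟨E, hE0, hE⟩ := exists_chief_below U ⁅U, N⁆ hlt
    haveI := hE.2.2.1
    have hEV : E ⊔ V = U := by
      rcases hc.2.2.2 (E ⊔ V) inferInstance le_sup_right (sup_le hE.1.le hc.1.le) with h | h
      · exact absurd (((commutator_mono le_rfl hBN).trans hE0).trans (le_sup_left.trans h.le)) hmov
      · exact h
    have hEc : IsChiefFactor E (E ⊓ V) := by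
      refine ⟨lt_of_le_of_ne inf_le_left fun h => ?_, inferInstance, inferInstance, ?_⟩
      · exact hc.1.ne' (hEV ▸ sup_eq_right.mpr (inf_eq_left.mp h))
      · intro M hM h1 h2
        haveI := hM
        rcases hc.2.2.2 (M ⊔ V) inferInstance le_sup_right
          (sup_le (h2.trans hE.1.le) hc.1.le) with h | h
        · exact Or.inl (le_antisymm (le_inf h2 (le_sup_left.trans h.le)) h1)
        · right
          refine le_antisymm h2 fun x hx => ?_
          have hxU : x ∈ ((M ⊔ V : Subgroup G) : Set G) := h.ge (hE.1.le hx)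
          rw [Subgroup.coe_mul_of_right_le_normalizer_left M V
            (by rw [normalizer_eq_top]; exact le_top)] at hxU
          obtain ⟨m, hm, v, hv, rfl⟩ := Set.mem_mul.mp hxU
          refine mul_mem hm (h1 ⟨?_, hv⟩)
          have := mul_mem (inv_mem (h2 hm)) hx
          simpa using this
    apply hmov
    have he : E.map (QuotientGroup.mk' V) = U.map (QuotientGroup.mk' V) := by
      conv_rhs => rw [← hEV]
      rw [Subgroup.map_sup, (Subgroup.map_eq_bot_iff V).mpr (QuotientGroup.ker_mk' V).ge, sup_bot_eq]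
    rw [commutator_le_iff_map, ← he, ← commutator_le_iff_map]
    exact (hlow E inferInstance hE.1 E _ hEc le_rfl).trans inf_le_right
  have hU'V : ⁅U, U⁆ ≤ V := hUV'
  let D₁ := ⁅⁅U, U⁆, N⁆
  let D₂ := ⁅D₁, N⁆
  have hD1le : D₁ ≤ ⁅U, U⁆ := commutator_le_left _ _
  by_cases hD : D₁ = ⊥
  · rw [commutator_comm]
    exact le_bot_iff.mp (hD ▸ commutator_mono le_rfl hBN)
  exfalso
  have hD2 : D₂ < D₁ := commutator_lt_of_central D₁ N hD (hW.mono (hD1le.trans hU'V))
  -- `⁅U, V⁆ ≤ D₂`
  have hUR : ∀ R : Subgroup G, R.Normal → R ≤ V → ⁅U, R⁆ ≤ D₁ ∧ ⁅U, R⁆ ≤ D₂ := by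
    intro R
    induction R using WellFoundedLT.induction with
    | _ R ih =>
      intro hRn hRV
      by_cases hbot : R = ⊥
      · subst hbot; rw [commutator_bot_right]; exact ⟨bot_le, bot_le⟩
      haveI := hRn
      have hlt := commutator_lt_of_central R N hbot (hW.mono hRV)
      obtain ⟨h1, h2⟩ := ih _ hlt inferInstance (hlt.le.trans hRV)
      have key : ⁅U, R⁆ ≤ ⁅U, ⁅R, N⁆⁆ ⊔ ⁅⁅U, R⁆, N⁆ := by
        have := three_subgroup_le U N R
        rw [hUN, commutator_comm ⁅N, R⁆ U, commutator_comm N R, commutator_comm R U] at this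
        exact this
      have hD1 : ⁅U, R⁆ ≤ D₁ :=
        key.trans (sup_le h1 (commutator_mono (commutator_mono le_rfl (hRV.trans hc.1.le)) le_rfl))
      exact ⟨hD1, key.trans (sup_le h2 (commutator_mono hD1 le_rfl))⟩
  let f := QuotientGroup.mk' D₂
  have hfs : Function.Surjective f := QuotientGroup.mk'_surjective D₂
  have hker : ∀ {X : Subgroup G}, X ≤ D₂ → X.map f = ⊥ := fun h =>
    (Subgroup.map_eq_bot_iff _).mpr (h.trans (QuotientGroup.ker_mk' D₂).ge)
  haveI : (U.map f).Normal := Subgroup.Normal.map ‹_› _ hfs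
  haveI : (V.map f).Normal := Subgroup.Normal.map ‹_› _ hfs
  haveI : (N.map f).Normal := Subgroup.Normal.map inferInstance _ hfs
  have hUB : ∀ g ∈ B, ∀ x ∈ U, ⁅g, x⁆ ∈ B := fun g hg x hx =>
    hB (commutator_comm B U ▸ commutator_mem_commutator hg hx)
  have hcent : ∀ a ∈ ⁅B, B⁆, ∀ b ∈ B, Commute b a := fun a ha b hb =>
    mem_centralizer_iff.mp (commutator_eq_bot_iff_le_centralizer.mp hBB ha) b hb
  refine hD2.not_ge ?_
  show ⁅⁅U, U⁆, N⁆ ≤ D₂
  refine commutator_normalClosure_le ?_
  rw [commutator_comm]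
  refine commutator_le.mpr fun g hg w hw => ?_
  have hpair : ∀ x ∈ U.map f, ∀ y ∈ U.map f, Commute (f g) ⁅x, y⁆ := by
    refine pairing_fixed (U.map f) (V.map f) (N.map f) (map_mono hc.1.le) ?_ ?_ ?_ (f g)
      (mem_map_of_mem f (hBN hg)) ?_ ?_ ?_ ?_
    · rintro _ ⟨a, ha, rfl⟩ _ ⟨b, hb, rfl⟩ _ ⟨c, hc', rfl⟩
      rw [← map_commutatorElement]
      exact Commute.map (show Commute ⁅a, b⁆ c from (mem_centralizer_iff.mp
        (commutator_eq_bot_iff_le_centralizer.mp hUU (commutator_mem_commutator ha hb)) c hc').symm) f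
    · rw [← map_commutator]; exact hker (hUR V inferInstance le_rfl).2
    · rw [← map_commutator, ← map_commutator, ← map_commutator]; exact hker le_rfl
    · rintro _ ⟨x, hx, rfl⟩ _ ⟨y, hy, rfl⟩
      simp only [← map_commutatorElement]
      exact (hcent _ (commutator_mem_commutator hg (hUB g hg y hy)) _ (hUB g hg x hx)).map f
    · rintro _ ⟨y, hy, rfl⟩
      simp only [← map_commutatorElement]
      exact (hcent _ (commutator_mem_commutator hg (hUB g hg y hy)) _ hg).map f
    · intro w hw hw2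
      have hwp : w ∈ U.map f := (U.map f).commutator_le_self hw
      obtain ⟨m, hm⟩ := (hU.map f) ⟨w, hwp⟩
      have h1 : w ^ p ^ m = 1 := by simpa using congrArg Subtype.val hm
      have hgcd : Nat.gcd 2 (p ^ m) = 1 :=
        Nat.Coprime.pow_right m ((Nat.coprime_primes Nat.prime_two hp.out).mpr (Ne.symm hp2))
      simpa [hgcd] using pow_gcd_eq_one.mpr ⟨hw2, h1⟩
    · intro Z hVZ hZU hNZ
      have hD2V : D₂ ≤ V := hD2.le.trans (hD1le.trans hU'V)
      have hVZ' : V ≤ Z.comap f := map_le_iff_le_comap.mp hVZ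
      have hZU' : Z.comap f ≤ U := by
        refine (comap_mono hZU).trans ?_
        rw [comap_map_eq, QuotientGroup.ker_mk']
        exact sup_le le_rfl (hD2V.trans hc.1.le)
      have hNZ' : N ≤ normalizer (Z.comap f : Set G) := by
        rw [le_normalizer_iff_commutator_le_right, ← map_le_iff_le_comap, map_commutator,
          map_comap_eq_self_of_surjective hfs]
        exact le_normalizer_iff_commutator_le_right.mp hNZ
      obtain ⟨Y, hVY, hYU, hNY, hsup, hinf⟩ := exists_complement hc hUV' N (Z.comap f) hVZ' hZU'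
      refine ⟨Y.map f, map_mono hVY, map_mono hYU, ?_, ?_, ?_⟩
      · rw [le_normalizer_iff_commutator_le_right, ← map_commutator]
        exact map_mono (le_normalizer_iff_commutator_le_right.mp hNY)
      · have := congrArg (Subgroup.map f) hsup
        rwa [Subgroup.map_sup, map_comap_eq_self_of_surjective hfs] at this
      · rintro _ ⟨hz, y, hy, rfl⟩
        exact mem_map_of_mem f ((hinf hNZ').le ⟨hz, hy⟩)
  have hwc : f w ∈ centralizer ({f g} : Set (G ⧸ D₂)) := by
    have : ⁅U.map f, U.map f⁆ ≤ centralizer ({f g} : Set (G ⧸ D₂)) :=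
      commutator_le.mpr fun x hx y hy => mem_centralizer_singleton_iff.mpr (hpair x hx y hy).symm.eq
    exact this (map_commutator U U f ▸ mem_map_of_mem f hw)
  have : f ⁅g, w⁆ = 1 := by
    rw [map_commutatorElement]
    exact Commute.commutator_eq (mem_centralizer_singleton_iff.mp hwc).symm
  exact (QuotientGroup.eq_one_iff _).mp this

/-- A subgroup as in the third alternative of `k_dichotomy` that moves some chief factor inside `A`
has an element acting quadratically and nontrivially on such a factor. -/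
theorem exists_quadratic_factor [Finite G] {p : ℕ} [hp : Fact p.Prime] (A B : Subgroup G) [A.Normal]
    (hAp : IsPGroup p A) (hA2 : ⁅⁅A, A⁆, A⁆ = ⊥) (hAB : ⁅A, B⁆ ≤ B)
    (hBB : ⁅⁅B, B⁆, B⁆ = ⊥)
    (hX : ∀ X : Subgroup G, X.Normal → X ≤ A → ⁅B, ⁅X, X⁆⁆ = ⊥ → ⁅⁅X, B⁆, B⁆ = ⊥)
    (hnc : ¬ CentralBelow B A) :
    ∃ g ∈ B, ∃ U V : Subgroup G, IsChiefFactor U V ∧ U ≤ A ∧
      ⁅⁅U, zpowers g⁆, zpowers g⁆ ≤ V ∧ ¬ ⁅U, zpowers g⁆ ≤ V := by
  obtain ⟨U, ⟨hUA, V, hc, hmov⟩, hmin⟩ := Set.Finite.exists_minimal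
    (s := {U : Subgroup G | U ≤ A ∧ ∃ V, IsChiefFactor U V ∧ ¬ ⁅U, B⁆ ≤ V}) (Set.toFinite _) (by
      simp only [CentralBelow, not_forall] at hnc
      obtain ⟨U, V, hc, hU, h⟩ := hnc
      exact ⟨U, hU, V, hc, h⟩)
  have hlow : ∀ E : Subgroup G, E.Normal → E < U → CentralBelow B E := fun E _ hEU U' V' hc' hU' => by
    by_contra h
    exact hEU.not_ge ((hmin ⟨hU'.trans (hEU.le.trans hUA), V', hc', h⟩ (hU'.trans hEU.le)).trans hU')
  haveI := hc.2.1
  haveI := hc.2.2.1
  have hUp : IsPGroup p U := hAp.to_le hUA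
  obtain ⟨g, hg, u, hu, hgu⟩ : ∃ g ∈ B, ∃ u ∈ U, ⁅u, g⁆ ∉ V := by
    by_contra h
    push Not at h
    exact hmov (commutator_le.mpr fun u hu g hg => h g hg u hu)
  have hgmov : ¬ ⁅U, zpowers g⁆ ≤ V := fun h => hgu (h (commutator_mem_commutator hu (mem_zpowers g)))
  have hgB : zpowers g ≤ B := zpowers_le.mpr hg
  by_cases hp2 : p = 2
  · subst hp2
    by_cases hquad : ⁅⁅U, zpowers g⁆, zpowers g⁆ ≤ V
    · exact ⟨g, hg, U, V, hc, hUA, hquad, hgmov⟩
    obtain ⟨hsq, habel⟩ := chief_pow_mem hc hUp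
    let f := QuotientGroup.mk' V
    have hgU : ∀ v ∈ U, ⁅g, v⁆ ∈ U ⊓ B := fun v hv => by
      have h1 : ⁅g, v⁆ ∈ ⁅U, zpowers g⁆ := by
        rw [commutator_comm]; exact commutator_mem_commutator (mem_zpowers g) hv
      exact ⟨commutator_le_left U _ h1, ((commutator_mono hUA hgB).trans hAB) h1⟩
    have hsq' : ∀ v ∈ U, f ⁅g ^ 2, v⁆ = f ⁅g, ⁅g, v⁆⁆ := fun v hv => by
      have e : ⁅g ^ 2, v⁆ = ⁅g, ⁅g, v⁆⁆ * ⁅g, v⁆ ^ 2 := by
        simp [commutatorElement_def, pow_two, mul_assoc]
      have h1 : f (⁅g, v⁆ ^ 2) = 1 := (QuotientGroup.eq_one_iff _).mpr (hsq _ (hgU v hv).1)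
      rw [e, map_mul, h1, mul_one]
    refine ⟨g ^ 2, pow_mem hg 2, U, V, hc, hUA, ?_, ?_⟩
    · rw [← QuotientGroup.ker_mk' V, ← Subgroup.map_eq_bot_iff, map_commutator, map_commutator,
        MonoidHom.map_zpowers]
      refine quad_of_commute ?_
      rintro _ ⟨v, hv, rfl⟩
      rw [← map_commutatorElement, hsq' v hv]
      refine Commute.map ?_ f
      have : Commute g ⁅g, ⁅g, v⁆⁆ :=
        mem_centralizer_iff.mp (commutator_eq_bot_iff_le_centralizer.mp hBB
          (commutator_mem_commutator hg (hgU v hv).2)) g hg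
      exact this.pow_left 2
    · intro h
      apply hquad
      rw [← QuotientGroup.ker_mk' V, ← Subgroup.map_eq_bot_iff, map_commutator, map_commutator,
        MonoidHom.map_zpowers]
      refine quad_of_commute ?_
      rintro _ ⟨v, hv, rfl⟩
      rw [← map_commutatorElement, ← commutatorElement_eq_one_iff_commute, ← map_commutatorElement,
        ← hsq' v hv]
      refine (QuotientGroup.eq_one_iff _).mpr (h ?_)
      rw [commutator_comm]
      exact commutator_mem_commutator (mem_zpowers _) hv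
  · have hder : ⁅B, ⁅U, U⁆⁆ = ⊥ := derived_centralized hp2 U V B hc hUp
      (le_bot_iff.mp (hA2 ▸ commutator_mono (commutator_mono hUA hUA) hUA)) hmov hlow
      ((commutator_mono hUA le_rfl).trans hAB) hBB
    have := hX U inferInstance hUA hder
    exact ⟨g, hg, U, V, hc, hUA,
      (commutator_mono (commutator_mono le_rfl hgB) hgB).trans (this ▸ bot_le), hgmov⟩

/-- Quadratic on `A` modulo its centre and on the centre gives quadratic on every chief factor. -/
theorem quad_factor_of {A : Subgroup G} [A.Normal] {g : G}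
    (hA : ⁅⁅A, zpowers g⁆, zpowers g⁆ ≤ zc A) (hZ : ⁅⁅zc A, zpowers g⁆, zpowers g⁆ = ⊥)
    {U V : Subgroup G} (hc : IsChiefFactor U V) (hU : U ≤ A) :
    ⁅⁅U, zpowers g⁆, zpowers g⁆ ≤ V := by
  haveI := hc.2.1
  haveI := hc.2.2.1
  rcases hc.2.2.2 ((U ⊓ zc A) ⊔ V) inferInstance le_sup_right (sup_le inf_le_left hc.1.le) with h | h
  · refine le_trans (le_inf ?_ ?_) (le_sup_left.trans h.le)
    · exact (commutator_mono (commutator_le_left U _) le_rfl).trans (commutator_le_left U _)
    · exact (commutator_mono (commutator_mono hU le_rfl) le_rfl).trans hA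
  · have he : U.map (QuotientGroup.mk' V) = (U ⊓ zc A).map (QuotientGroup.mk' V) := by
      conv_lhs => rw [← h]
      rw [Subgroup.map_sup, (Subgroup.map_eq_bot_iff V).mpr (QuotientGroup.ker_mk' V).ge, sup_bot_eq]
    rw [← QuotientGroup.ker_mk' V, ← Subgroup.map_eq_bot_iff, map_commutator, map_commutator, he,
      ← map_commutator, ← map_commutator]
    exact le_bot_iff.mp <| (map_mono ((commutator_mono (commutator_mono inf_le_right le_rfl) le_rfl).trans
      hZ.le)).trans (by simp)

/-- Elements centralizing every chief factor inside `A` lie in the normal `p`-subgroup `T`. -/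
theorem le_of_centralBelow [Finite G] {p : ℕ} [hp : Fact p.Prime] (T A B : Subgroup G) [T.Normal]
    [A.Normal] (hT : IsPGroup p T) (hTmax : ∀ N : Subgroup G, N.Normal → IsPGroup p N → N ≤ T)
    (hAT : A ≤ T) (hC : centralizer (T : Set G) ≤ T)
    (hA5 : ∀ φ : MulAut ↥T, (orderOf φ).Coprime p → (∀ a : ↥T, (a : G) ∈ A → φ a = a) → φ = 1)
    (h : CentralBelow B A) : B ≤ T := by
  refine subset_normalClosure.trans (hTmax (normalClosure (B : Set G)) inferInstance fun n => ?_)
  set y : G := (n : G) ^ p ^ (orderOf (n : G)).factorization p with hy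
  have hcop : (orderOf y).Coprime p := by
    have h0 : orderOf (n : G) ≠ 0 := (orderOf_pos _).ne'
    rw [hy, orderOf_pow_of_dvd (pow_ne_zero _ hp.out.ne_zero) (Nat.ordProj_dvd _ p)]
    exact (Nat.coprime_ordCompl hp.out h0).symm
  have hyA : CentralBelow (zpowers y) A := h.normalClosure.zpowers_of_mem (pow_mem n.2 _)
  have hfix := commute_of_centralBelow hcop A inferInstance (hT.to_le hAT) hyA
  have hφ : MulAut.conjNormal (H := T) y = 1 :=
    hA5 _ (hcop.coprime_dvd_left (orderOf_map_dvd _ y)) fun a ha => Subtype.ext (by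
      rw [MulAut.conjNormal_apply, hfix _ ha, mul_inv_cancel_right])
  have hyC : y ∈ centralizer (T : Set G) := mem_centralizer_iff.mpr fun t ht => by
    have h1 := congrArg (fun φ : MulAut ↥T => ((φ ⟨t, ht⟩ : ↥T) : G)) hφ
    simp only [MulAut.conjNormal_apply, MulAut.one_apply] at h1
    exact (mul_inv_eq_iff_eq_mul.mp h1).symm
  obtain ⟨m, hm⟩ := hT ⟨y, hC hyC⟩
  have hym : y ^ p ^ m = 1 := by simpa using congrArg Subtype.val hm
  have h1 : orderOf y = 1 :=
    Nat.eq_one_of_dvd_coprimes (Nat.Coprime.pow_right m hcop) dvd_rfl (orderOf_dvd_of_pow_eq_one hym)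
  exact ⟨(orderOf (n : G)).factorization p, Subtype.ext (by simpa [hy] using orderOf_eq_one_iff.mp h1)⟩

/-- The main statement (Glauberman): the element acting cubically on `A`, quadratically on its centre and
quadratically but nontrivially on a chief factor inside `A`. -/
theorem kInf_main [Finite G] {p : ℕ} [hp : Fact p.Prime] (S T A : Subgroup G) [T.Normal] [A.Normal]
    (hTS : T ≤ S) (hT : IsPGroup p T) (hTmax : ∀ N : Subgroup G, N.Normal → IsPGroup p N → N ≤ T)
    (hAT : A ≤ T) (hTA : ⁅T, A⁆ ≤ zc A) (hA2 : ⁅A, A⁆ ≤ centralizer (A : Set G))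
    (hK : ¬ (inducedFunctor kInfLower S).Normal ∨ ¬ (inducedFunctor kInfUpper S).Normal) :
    ∃ g : G, g ∈ S ∧ g ∉ T ∧
      ⁅⁅⁅A, zpowers g⁆, zpowers g⁆, zpowers g⁆ ≤ zc A ∧
      ⁅⁅zc A, zpowers g⁆, zpowers g⁆ = ⊥ ∧
      ((∀ φ : MulAut ↥T, (orderOf φ).Coprime p → (∀ a : ↥T, (a : G) ∈ A → φ a = a) → φ = 1) →
        centralizer (T : Set G) ≤ T →
        ∃ U V : Subgroup G, IsChiefFactor U V ∧ U ≤ A ∧
          ⁅⁅U, zpowers g⁆, zpowers g⁆ ≤ V ∧ ¬ ⁅U, zpowers g⁆ ≤ V) := by
  classical
  have hsub : Function.Injective S.subtype := S.subtype_injective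
  have hAS : A ≤ S := hAT.trans hTS
  have eA : (A.subgroupOf S).map S.subtype = A := map_subgroupOf_eq_of_le hAS
  have eT : (T.subgroupOf S).map S.subtype = T := map_subgroupOf_eq_of_le hTS
  have eZ : (zc (A.subgroupOf S)).map S.subtype = zc A := by rw [map_zc _ hsub, eA]
  have hTA' : ⁅T.subgroupOf S, A.subgroupOf S⁆ ≤ zc (A.subgroupOf S) := by
    rw [← map_le_map_iff_of_injective hsub, map_commutator, eA, eT, eZ]; exact hTA
  have hA' : A.subgroupOf S ∈ classTwoSubgroups ↥S := by
    rw [← classTwo_map S.subtype hsub, eA]; exact hA2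
  rcases k_dichotomy (T.subgroupOf S) (A.subgroupOf S) hTA' hA' with h | ⟨g, hgT, h1, h2⟩ | h
  · exfalso
    obtain ⟨e1, e2⟩ := inducedFunctor_kInf_eq hTS h
    rw [e1, e2] at hK
    exact hK.elim (fun k => k (inducedFunctor_kInf_normal T).1) (fun k => k (inducedFunctor_kInf_normal T).2)
  · have hg1 : ⁅⁅A, zpowers (g : G)⁆, zpowers (g : G)⁆ ≤ zc A := by
      have := map_mono (f := S.subtype) h1
      rwa [map_commutator, map_commutator, MonoidHom.map_zpowers, eA, eZ] at this
    have hg2 : ⁅⁅zc A, zpowers (g : G)⁆, zpowers (g : G)⁆ = ⊥ := by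
      have := congrArg (Subgroup.map S.subtype) h2
      rwa [map_commutator, map_commutator, MonoidHom.map_zpowers, eZ, Subgroup.map_bot] at this
    refine ⟨g, g.2, hgT, (commutator_mono hg1 le_rfl).trans (commutator_le_left _ _), hg2,
      fun hA5 hC => ?_⟩
    have hnc : ¬ CentralBelow (zpowers (g : G)) A := fun h =>
      hgT (le_of_centralBelow T A _ hT hTmax hAT hC hA5 h (mem_zpowers _))
    simp only [CentralBelow, not_forall] at hnc
    obtain ⟨U, V, hc, hU, hm⟩ := hnc
    exact ⟨U, V, hc, hU, quad_factor_of hg1 hg2 hc hU, hm⟩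
  · obtain ⟨B, hBT, hB2, hAB, hZB, hX⟩ := h
    set B' := B.map S.subtype with hB'
    have hBS : B' ≤ S := map_subtype_le B
    have hB2' : B' ∈ classTwoSubgroups G := (classTwo_map S.subtype hsub B).mpr hB2
    have hAB' : ⁅A, B'⁆ ≤ B' := by
      rw [← eA, hB', ← map_commutator]
      exact map_mono (le_normalizer_iff_commutator_le_right.mp hAB)
    have hBB : ⁅⁅B', B'⁆, B'⁆ = ⊥ := commutator_eq_bot_iff_le_centralizer.mpr hB2'
    have hZB' : ⁅⁅zc A, B'⁆, B'⁆ = ⊥ := by
      rw [← eZ, hB', ← map_commutator, ← map_commutator, hZB, Subgroup.map_bot]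
    have hX' : ∀ X : Subgroup G, X.Normal → X ≤ A → ⁅B', ⁅X, X⁆⁆ = ⊥ → ⁅⁅X, B'⁆, B'⁆ = ⊥ := by
      intro X hXn hXA hXX
      haveI := hXn
      rw [← map_subgroupOf_eq_of_le (hXA.trans hAS), hB', ← map_commutator, ← map_commutator] at hXX
      have := hX (X.subgroupOf S) inferInstance (fun x hx => hXA hx)
        ((map_eq_bot_iff_of_injective _ hsub).mp hXX)
      rw [← map_subgroupOf_eq_of_le (hXA.trans hAS), hB', ← map_commutator, ← map_commutator, this,
        Subgroup.map_bot]
    have hBT' : ¬ B' ≤ T := fun h => hBT fun b hb => h (mem_map_of_mem S.subtype hb)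
    have hcubic : ∀ g ∈ B', ⁅⁅⁅A, zpowers g⁆, zpowers g⁆, zpowers g⁆ ≤ zc A := fun g hg => by
      have hgB : zpowers g ≤ B' := zpowers_le.mpr hg
      refine le_trans ?_ (bot_le : ⊥ ≤ zc A)
      exact (commutator_mono (commutator_mono ((commutator_mono le_rfl hgB).trans hAB') hgB) hgB).trans
        hBB.le
    have hquad : ∀ g ∈ B', ⁅⁅zc A, zpowers g⁆, zpowers g⁆ = ⊥ := fun g hg =>
      le_bot_iff.mp (hZB' ▸ commutator_mono
        (commutator_mono le_rfl (zpowers_le.mpr hg)) (zpowers_le.mpr hg))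
    by_cases hA5 : (∀ φ : MulAut ↥T, (orderOf φ).Coprime p → (∀ a : ↥T, (a : G) ∈ A → φ a = a) →
      φ = 1) ∧ centralizer (T : Set G) ≤ T
    · have hnc : ¬ CentralBelow B' A := fun h => hBT' (le_of_centralBelow T A _ hT hTmax hAT hA5.2 hA5.1 h)
      obtain ⟨g, hg, U, V, hc, hU, hq, hm⟩ := exists_quadratic_factor A B' (hT.to_le hAT)
        (commutator_eq_bot_iff_le_centralizer.mpr hA2) hAB' hBB hX' hnc
      haveI := hc.2.2.1
      refine ⟨g, hBS hg, fun hgT => hm ?_, hcubic g hg, hquad g hg, fun _ _ => ⟨U, V, hc, hU, hq, hm⟩⟩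
      -- `T` centralizes chief factors inside itself
      haveI := hc.2.1
      have hTn : Group.IsNilpotent ↥T := hT.isNilpotent
      by_contra hnot
      have hmT : ¬ ⁅U, T⁆ ≤ V := fun h =>
        hnot ((commutator_mono le_rfl (zpowers_le.mpr hgT)).trans h)
      have heq : ⁅U, T⁆ ⊔ V = U := by
        rcases hc.2.2.2 (⁅U, T⁆ ⊔ V) inferInstance le_sup_right
          (sup_le (commutator_le_left U T) hc.1.le) with h | h
        · exact absurd (le_sup_left.trans h.le) hmT
        · exact h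
      have hUT : U ≤ T := hU.trans hAT
      have key : ∀ k, U ≤ (Subgroup.lowerCentralSeries T k) ⊔ V := by
        intro k
        induction k with
        | zero => exact le_sup_of_le_left (hUT.trans (by simp))
        | succ k ih =>
          conv_lhs => rw [← heq]
          refine sup_le ?_ le_sup_right
          haveI : (Subgroup.lowerCentralSeries T (k + 1)).Normal := inferInstance
          rw [commutator_le_iff_map (E := Subgroup.lowerCentralSeries T (k + 1) ⊔ V)]
          refine le_bot_iff.mp ((commutator_mono (map_mono ih) le_rfl).trans ?_)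
          rw [Subgroup.map_sup, (Subgroup.map_eq_bot_iff V).mpr
            ((le_sup_right).trans (QuotientGroup.ker_mk' _).ge), sup_bot_eq, ← map_commutator,
            le_bot_iff, Subgroup.map_eq_bot_iff, QuotientGroup.ker_mk']
          exact le_sup_of_le_left (by rw [Subgroup.lowerCentralSeries_succ])
      obtain ⟨k, hk⟩ := (Subgroup.isNilpotent_iff_lowerCentralSeries T).mp hTn
      exact hc.1.not_ge (by simpa [hk] using key k)
    · obtain ⟨g, hg, hgT⟩ := SetLike.not_le_iff_exists.mp hBT'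
      exact ⟨g, hBS hg, hgT, hcubic g hg, hquad g hg, fun a b => absurd ⟨a, b⟩ hA5⟩

end Cfsg.Agent.H49
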