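import Cfsg.Agent.H49.KCore
import Cfsg.Agent.H49.WeakClosure
import Cfsg.Agent.S1983

/-!
The K-infinity subgroups as conjugacy functors, and the quadratic elements they give in every subgroup where
they are not normal.
-/

set_option autoImplicit false
set_option linter.style.haveILetI false

namespace Cfsg.Agent.H49

open Subgroup

universe u

theorem center_le_kInf (P : Type u) [Group P] :
    center P ≤ kInfLower P ∧ center P ≤ kInfUpper P := by
  have hn : (center P).Normal := inferInstance
  have hc : IsMulCommutative ↥(center P) :=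
    le_centralizer_iff_isMulCommutative.mp (center_le_centralizer _)
  constructor
  · exact (le_sSup (normal_abelian_kLower (center P) hc _)).trans (le_iSup (fun n => kSeqEven P n) 0)
  · refine le_iInf fun n => ?_
    rcases n with _ | n
    · exact le_top
    · exact le_sSup (normal_abelian_kUpper (center P) hc _)

theorem map_kInf_equiv {P Q : Type u} [Group P] [Group Q] (e : P ≃* Q) :
    (kInfLower P).map e.toMonoidHom = kInfLower Q ∧ (kInfUpper P).map e.toMonoidHom = kInfUpper Q :=
  kInf_map e.toMonoidHom e.injective fun n => by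
    rw [MonoidHom.range_eq_top.mpr e.surjective]; exact ⟨le_top, le_top⟩

/-- `W` is invariant under isomorphisms and contains the centre. -/
structure KLike (W : ∀ (Q : Type u) [Group Q], Subgroup Q) : Prop where
  map_equiv : ∀ {P Q : Type u} [Group P] [Group Q] (e : P ≃* Q), (W P).map e.toMonoidHom = W Q
  center_le : ∀ (P : Type u) [Group P], center P ≤ W P

theorem kLike_lower : KLike.{u} kInfLower :=
  ⟨fun e => (map_kInf_equiv e).1, fun P _ => (center_le_kInf P).1⟩

theorem kLike_upper : KLike.{u} kInfUpper :=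
  ⟨fun e => (map_kInf_equiv e).2, fun P _ => (center_le_kInf P).2⟩

theorem KLike.isCharPFunctor {W : ∀ (Q : Type u) [Group Q], Subgroup Q} (hW : KLike W) (p : ℕ)
    [Fact p.Prime] : IsCharPFunctor.{u} p W := by
  refine ⟨fun Q _ _ hQ _ h => ?_, fun Q R _ _ _ _ φ => hW.map_equiv φ⟩
  haveI := hQ.center_nontrivial
  have : center Q = ⊥ := le_bot_iff.mp (h ▸ hW.center_le Q)
  exact (nontrivial_iff_ne_bot _).mp inferInstance this

variable {G : Type u} [Group G] {W : ∀ (Q : Type u) [Group Q], Subgroup Q}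

theorem KLike.induced_center_le (hW : KLike W) (P : Subgroup G) :
    P ⊓ centralizer (P : Set G) ≤ inducedFunctor W P := by
  rintro x ⟨hx, hxc⟩
  refine ⟨⟨x, hx⟩, hW.center_le _ (mem_center_iff.mpr fun y => Subtype.ext ?_), rfl⟩
  exact mem_centralizer_iff.mp hxc y y.2

theorem KLike.induced_equiv (hW : KLike W) {H : Type u} [Group H] (f : G →* H) (hf : Function.Injective f)
    (P : Subgroup G) : inducedFunctor W (P.map f) = (inducedFunctor W P).map f := by
  rw [inducedFunctor, inducedFunctor, ← hW.map_equiv (P.equivMapOfInjective f hf), Subgroup.map_map,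
    Subgroup.map_map]
  rfl

theorem KLike.isConjugacyFunctor [Finite G] (hW : KLike W) (p : ℕ) [Fact p.Prime] :
    IsConjugacyFunctor p (inducedFunctor (G := G) W) := by
  intro P hP
  refine ⟨map_subtype_le _, fun hne h => ?_, fun g => hW.induced_equiv _ (MulAut.conj g).injective P⟩
  haveI : Nontrivial ↥P := (nontrivial_iff_ne_bot _).mpr hne
  haveI := hP.center_nontrivial
  have h1 : (center ↥P).map P.subtype ≤ ⊥ := h ▸ map_mono (hW.center_le ↥P)
  exact (nontrivial_iff_ne_bot _).mp inferInstance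
    ((map_eq_bot_iff_of_injective _ P.subtype_injective).mp (le_bot_iff.mp h1))

/-- Normality of `W(T)` in `H` can be read inside the group `H`. -/
theorem KLike.normal_of_subgroupOf (hW : KLike W) {H T : Subgroup G} (hT : T ≤ H)
    (h : (inducedFunctor (G := ↥H) W (T.subgroupOf H)).Normal) :
    H ≤ normalizer ((inducedFunctor W T : Subgroup G) : Set G) := by
  have e : inducedFunctor W T = (inducedFunctor (G := ↥H) W (T.subgroupOf H)).map H.subtype := by
    rw [← hW.induced_equiv H.subtype H.subtype_injective, map_subgroupOf_eq_of_le hT]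
  rw [e]
  intro x hx
  refine mem_normalizer_iff.mpr fun y => ⟨?_, ?_⟩
  · rintro ⟨a, ha, rfl⟩
    exact ⟨⟨x, hx⟩ * a * ⟨x, hx⟩⁻¹, h.conj_mem a ha ⟨x, hx⟩, by simp⟩
  · rintro ⟨a, ha, hay⟩
    refine ⟨⟨x, hx⟩⁻¹ * a * ⟨x, hx⟩, by simpa using h.conj_mem a ha ⟨x, hx⟩⁻¹, ?_⟩
    simp only [map_mul, map_inv, hay]
    simp [mul_assoc]

/-- Quadratic elements in every subgroup where a K-infinity subgroup of a Sylow subgroup is not normal. -/
theorem quadratic_of_not_normal [Finite G] {p : ℕ} [Fact p.Prime] (H T : Subgroup G) (hT : T ≤ H)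
    (hTp : IsPGroup p ↥T) (hndvd : ¬ p ∣ T.relIndex H)
    (hn : ¬ H ≤ normalizer ((inducedFunctor kInfLower T : Subgroup G) : Set G) ∨
      ¬ H ≤ normalizer ((inducedFunctor kInfUpper T : Subgroup G) : Set G)) :
    ∃ g : G, g ∈ T ∧ g ∉ pCoreOf p H ∧
      (∀ U V : Subgroup ↥H, IsChiefFactor U V → U ≤ pCore p ↥H → ∀ g' : ↥H, (g' : G) = g →
        iterCommutator U (zpowers g') 4 ≤ V) ∧
      ⁅⁅pCoreOf p H ⊓ centralizer ((pCoreOf p H : Subgroup G) : Set G), zpowers g⁆, zpowers g⁆ = ⊥ := by
  obtain ⟨S, hS⟩ : ∃ S : Sylow p ↥H, (S : Subgroup ↥H) = T.subgroupOf H :=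
    ⟨hTp.comap_subtype.toSylow hndvd, rfl⟩
  have hK : ¬ (inducedFunctor kInfLower (S : Subgroup ↥H)).Normal ∨
      ¬ (inducedFunctor kInfUpper (S : Subgroup ↥H)).Normal := by
    rw [hS]
    exact hn.imp (fun h k => h (kLike_lower.normal_of_subgroupOf hT k))
      (fun h k => h (kLike_upper.normal_of_subgroupOf hT k))
  obtain ⟨g, hgS, hgT, hfac, hq, -⟩ := Cfsg.Agent.S1983.result S hK
  rw [hS] at hgS
  refine ⟨g, hgS, ?_, fun U V hc hU g' hg' => ?_, ?_⟩
  · rintro ⟨x, hx, e⟩
    exact hgT (Subtype.ext e ▸ hx)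
  · rw [Subtype.ext hg']; exact hfac U V hc hU
  · have := congrArg (Subgroup.map H.subtype) hq
    rw [Subgroup.map_bot, map_commutator, map_commutator, MonoidHom.map_zpowers,
      Subgroup.map_inf _ _ _ H.subtype_injective, map_centralizer_inf _ H.subtype_injective,
      Subgroup.range_subtype, ← inf_assoc] at this
    refine le_bot_iff.mp (le_of_le_of_eq (commutator_mono (commutator_mono ?_ le_rfl) le_rfl) this)
    exact le_inf (le_inf inf_le_left (inf_le_left.trans (pCoreOf_le H))) inf_le_right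

end Cfsg.Agent.H49
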