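import Cfsg.Agent.H49.StrongFusionForms
import Cfsg.Agent.H49.KFunctor

/-!
Strong fusion from hypotheses on the models `K ⧸ R` of the sections; the `p`-stable case for the K-infinity
subgroups.
-/

set_option autoImplicit false
set_option linter.style.haveILetI false
set_option linter.unusedSectionVars false

namespace Cfsg.Agent.H49

open Subgroup
open Cfsg.Agent.H48
open scoped commutatorElement

universe u v

theorem isNormalizerPStable_of_injective {G : Type u} {H : Type v} [Group G] [Finite G] [Group H]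
    [Finite H] {p : ℕ} (f : H →* G) (hf : Function.Injective f) (hst : IsNormalizerPStable p G) :
    IsNormalizerPStable p H := by
  intro P hP g hg hcomm
  set P' : Subgroup G := P.map f with hP'
  set N := normalizer (P : Set H)
  set N' := normalizer (P' : Set G)
  set C := centralizer (P : Set H)
  set C' := centralizer (P' : Set G)
  have hle : N.map f ≤ N' := le_normalizer_map f
  have hgN' : f g ∈ N' := hle ⟨g, hg, rfl⟩
  have hcomm' : ⁅⁅P', zpowers (f g)⁆, zpowers (f g)⁆ = ⊥ := by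
    rw [← MonoidHom.map_zpowers, hP', ← map_commutator, ← map_commutator, hcomm, Subgroup.map_bot]
  let ι₀ : N →* N' := ((f.comp N.subtype).codRestrict N' fun x => hle ⟨x, x.2, rfl⟩)
  let ι : (N ⧸ C.subgroupOf N) →* (N' ⧸ C'.subgroupOf N') :=
    QuotientGroup.map _ _ ι₀ (by
      intro x hx
      rw [mem_comap, mem_subgroupOf]
      rw [mem_subgroupOf] at hx
      refine mem_centralizer_iff.2 ?_
      rintro _ ⟨z, hz, rfl⟩
      show f z * f x = f x * f z
      rw [← map_mul, ← map_mul, mem_centralizer_iff.1 hx z hz])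
  have hinj : Function.Injective ι := by
    rw [injective_iff_map_eq_one]
    intro x
    induction x using QuotientGroup.induction_on with
    | H x =>
      intro hx
      rw [QuotientGroup.eq_one_iff, mem_subgroupOf, mem_centralizer_iff]
      intro z hz
      have h1 : ι₀ x ∈ C'.subgroupOf N' := (QuotientGroup.eq_one_iff (ι₀ x)).1 hx
      rw [mem_subgroupOf] at h1
      have h2 : f z * f x = f x * f z := mem_centralizer_iff.1 h1 (f z) ⟨z, hz, rfl⟩
      exact hf (by rw [map_mul, map_mul, h2])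
  have hmem : ι (QuotientGroup.mk ⟨g, hg⟩) ∈ pCore p (N' ⧸ C'.subgroupOf N') :=
    hst P' (hP.map _) (f g) hgN' hcomm'
  haveI hn : ((pCore p (N' ⧸ C'.subgroupOf N')).comap ι).Normal := Normal.comap inferInstance ι
  exact Cores.le_pCore (Cores.pCore_isPGroup.comap_of_injective ι hinj) hmem

variable {p : ℕ} [hp : Fact p.Prime] {G : Type u} [Group G] [Finite G]
  {𝓦 : Set (∀ (Q : Type u) [Group Q], Subgroup Q)}

theorem isSec_self : Fusion.IsSec G G :=
  ⟨⊤, (⊤ : Subgroup G).subtype, fun g => ⟨⟨g, mem_top g⟩, rfl⟩⟩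

theorem sfc_congr {H : Type u} [Group H] [Finite H] (h𝓦 : ∀ W ∈ 𝓦, IsCharPFunctor.{u} p W)
    (e : G ≃* H) (h : SFC 𝓦 p G) : SFC 𝓦 p H := by
  intro S A x hA hA'
  obtain ⟨R, hR⟩ := Fusion.sylow_map_equiv e S
  have hin : ∀ {b : H}, b ∈ (S : Subgroup H) → e.symm b ∈ (R : Subgroup G) := fun {b} hb => by
    rw [← hR] at hb
    obtain ⟨r, hr, rfl⟩ := hb
    show e.symm (e r) ∈ (R : Subgroup G)
    rwa [e.symm_apply_apply]
  have h1 := h R (e.symm '' A) (e.symm x) (by rintro _ ⟨a, ha, rfl⟩; exact hin (hA ha)) (by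
    rintro _ ⟨_, ⟨a, ha, rfl⟩, rfl⟩
    have h1 := hin (hA' ⟨a, ha, rfl⟩)
    rw [map_mul, map_mul, map_inv] at h1
    exact h1)
  have h2 := Agree.map e.toMonoidHom (M₂ := stepSet 𝓦 (S : Subgroup H))
    (T₂ := ((S : Subgroup H) : Set H)) ?_ (fun r hr => hR ▸ ⟨r, hr, rfl⟩) h1
  · simpa [Set.image_image] using h2
  · rintro g ⟨W, hW, hg⟩
    refine ⟨W, hW, ?_⟩
    rw [← hR, Fusion.inducedFunctor_map (h𝓦 W hW) e.toMonoidHom e.injective R.isPGroup']
    exact le_normalizer_map _ ⟨g, hg, rfl⟩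

theorem constrained_congr {H : Type u} [Group H] (e : G ≃* H)
    (h : centralizer ((pCore p H : Subgroup H) : Set H) ≤ pCore p H) :
    centralizer ((pCore p G : Subgroup G) : Set G) ≤ pCore p G := by
  have he := Cores.pCore_map_mulEquiv (p := p) e
  intro x hx
  have h1 : e x ∈ pCore p H := h (by
    refine mem_centralizer_iff.mpr fun y hy => ?_
    rw [SetLike.mem_coe, ← he] at hy
    obtain ⟨z, hz, rfl⟩ := hy
    show e z * e x = e x * e z
    rw [← map_mul, ← map_mul, mem_centralizer_iff.mp hx z hz])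
  rw [← he] at h1
  obtain ⟨z, hz, hze⟩ := h1
  rwa [← e.injective hze]

/-- The hypothesis on the models `K ⧸ R` suffices. -/
theorem sfc_of_models (h𝓦 : ∀ W ∈ 𝓦, IsCharPFunctor.{u} p W) (hne : 𝓦.Nonempty)
    (hcons : ∀ (K R : Subgroup G) [(R.subgroupOf K).Normal],
      centralizer ((pCore p (↥K ⧸ R.subgroupOf K) : Subgroup (↥K ⧸ R.subgroupOf K)) :
          Set (↥K ⧸ R.subgroupOf K)) ≤ pCore p (↥K ⧸ R.subgroupOf K) →
        SFC 𝓦 p (↥K ⧸ R.subgroupOf K))
    {X : Type u} [Group X] [Finite X] (hX : Fusion.IsSec G X) : SFC 𝓦 p X :=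
  sfc_of_constrained h𝓦 hne (fun Y _ _ hY hc => by
    obtain ⟨K, R, hn, ⟨e⟩⟩ := hY.exists_model
    exact sfc_congr h𝓦 e (hcons K R (constrained_congr e hc))) hX

/-- In a group with `p`-stable sections the K-infinity subgroups control strong fusion. -/
theorem sfc_of_pStable (hst : ∀ (K R : Subgroup G) [(R.subgroupOf K).Normal],
      IsNormalizerPStable p (↥K ⧸ R.subgroupOf K))
    (W : ∀ (Q : Type u) [Group Q], Subgroup Q) (hW : KLike W)
    (hWor : ∀ {H : Type u} [Group H] (S : Subgroup H), ¬ (inducedFunctor W S).Normal →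
      ¬ (inducedFunctor kInfLower S).Normal ∨ ¬ (inducedFunctor kInfUpper S).Normal) :
    SFC {W} p G := by
  refine sfc_of_constrained (G := G) (by rintro _ rfl; exact hW.isCharPFunctor p)
    (Set.singleton_nonempty _) (fun X _ _ hX hc => sfc_of_normal fun S => ?_) isSec_self
  by_contra hn
  obtain ⟨g, -, -, -, -, hN⟩ := Cfsg.Agent.S1983.result S (hWor _ hn)
  obtain ⟨N, hNn, hns⟩ := hN hc
  obtain ⟨K, R, hKR, ⟨e⟩⟩ := (hX.quotient N).exists_model
  exact hns (isNormalizerPStable_of_injective e.symm.toMonoidHom e.symm.injective (hst K R))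

end Cfsg.Agent.H49
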