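import Cfsg.Agent.H49.StrongFusion
import Cfsg.Prelude.Def_LocalEven
import Cfsg.Prelude.Def_EvenType

/-!
The Prelude's forms of control of strong fusion against `SFC`.
-/

set_option autoImplicit false
set_option linter.style.haveILetI false
set_option linter.unusedSectionVars false

namespace Cfsg.Agent.H49

open Subgroup
open Cfsg.Agent.H48

universe u

variable {p : ℕ} [hp : Fact p.Prime] {G : Type u} [Group G] [Finite G]

theorem stepSet_singleton (W : ∀ (Q : Type u) [Group Q], Subgroup Q) (S : Subgroup G) :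
    stepSet {W} S = (normalizer ((inducedFunctor W S : Subgroup G) : Set G) : Set G) := by
  ext x
  simp [stepSet]

theorem steps_mem_of_subgroup {M : Subgroup G} {T A : Set G} {g : G}
    (h : Steps (M : Set G) T A g) : g ∈ M := by
  induction h with
  | nil A _ => exact one_mem M
  | cons A x g _ hx _ ih => exact mul_mem ih hx

theorem controlsStrongFusion_of_sfc {W : ∀ (Q : Type u) [Group Q], Subgroup Q}
    (h : SFC {W} p G) (S : Sylow p G) :
    ControlsStrongFusion p (inducedFunctor W (S : Subgroup G)) := by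
  refine ⟨S, Fusion.inducedFunctor_le _, fun A hA => ⟨hA, fun g hg => ?_⟩⟩
  obtain ⟨k, hk, e⟩ := h S A g hA hg
  rw [stepSet_singleton] at hk
  exact ⟨k, steps_mem_of_subgroup hk, fun a ha => (e a ha).symm⟩

theorem sfc_of_normal {W : ∀ (Q : Type u) [Group Q], Subgroup Q}
    (h : ∀ S : Sylow p G, (inducedFunctor W (S : Subgroup G)).Normal) : SFC {W} p G := by
  intro S A g hA hA'
  refine Agree.of_mem hA hA' ?_
  rw [stepSet_singleton, normalizer_eq_top_iff.mpr (h S)]
  exact mem_top g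

theorem controlsStrongFusionIn_of_sfc {W : ∀ (Q : Type u) [Group Q], Subgroup Q}
    (h : SFC {W} p G) : ControlsStrongFusionIn p (inducedFunctor (G := G) W) ⊤ := by
  obtain ⟨S⟩ : Nonempty (Sylow p G) := inferInstance
  refine ⟨S, le_top, S.isPGroup', by rw [relIndex_top_right]; exact S.not_dvd_index, fun A g _ hA hg => ?_⟩
  obtain ⟨k, hk, e⟩ := h S A g hA hg
  rw [stepSet_singleton] at hk
  exact ⟨k, ⟨mem_top k, steps_mem_of_subgroup hk⟩, fun a ha => e a ha⟩

variable {𝓦 : Set (∀ (Q : Type u) [Group Q], Subgroup Q)}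

theorem steps_congr {M M' T A : Set G} {g : G} (hM : M ⊆ M') (h : Steps M T A g) : Steps M' T A g := by
  induction h with
  | nil A hA => exact Steps.nil A hA
  | cons A x g hA hx h ih => exact Steps.cons A x g hA (hM hx) ih

theorem familyControls_of_sfc (h : SFC 𝓦 p G) :
    FamilyControlsStrongFusionIn p ((fun W => inducedFunctor (G := G) W) '' 𝓦) ⊤ := by
  obtain ⟨S⟩ : Nonempty (Sylow p G) := inferInstance
  refine ⟨S, le_top, S.isPGroup', by rw [relIndex_top_right]; exact S.not_dvd_index, fun A g _ hA hg => ?_⟩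
  obtain ⟨k, hk, e⟩ := h S A g hA hg
  obtain ⟨n, c, h0, hs, hi, hl⟩ := hk.to_def
  refine ⟨n, c, h0, fun i => ?_, hi, fun a ha => by rw [hl]; exact e a ha⟩
  obtain ⟨W, hW, hx⟩ := hs i
  exact ⟨_, ⟨W, hW, rfl⟩, mem_top _, hx⟩

theorem sfc_of_familyControls (h𝓦 : ∀ W ∈ 𝓦, IsCharPFunctor.{u} p W)
    (h : FamilyControlsStrongFusionIn p ((fun W => inducedFunctor (G := G) W) '' 𝓦) ⊤) :
    SFC 𝓦 p G := by
  obtain ⟨T, -, hTp, hTi, hctl⟩ := h
  intro S A g hA hg
  rw [relIndex_top_right] at hTi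
  obtain ⟨k, hk⟩ := MulAction.exists_smul_eq G (hTp.toSylow hTi) S
  have hkT : cj k T = (S : Subgroup G) := by
    rw [← hk, Fusion.sylow_smul_coe]; rfl
  have hin : ∀ B : Set G, B ⊆ (S : Subgroup G) → limg B k⁻¹ ⊆ (T : Set G) := by
    rintro B hB _ ⟨b, hb, rfl⟩
    have h1 : b ∈ cj k T := hkT ▸ hB hb
    simpa using mem_cj.mp h1
  obtain ⟨n, c, h0, hs, hi, hl⟩ := hctl (limg A k⁻¹) (k⁻¹ * g * k) (mem_top _) (hin A hA) (by
    rw [show (fun a => k⁻¹ * g * k * a * (k⁻¹ * g * k)⁻¹) '' limg A k⁻¹ = limg (limg A g) k⁻¹ by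
      rw [limg_limg]
      simp only [limg, Set.image_image]
      exact Set.image_congr' fun a => by group]
    exact hin _ hg)
  have hst : Steps (stepSet 𝓦 T) (T : Set G) (limg A k⁻¹) (c (Fin.last n)) :=
    Steps.of_def n _ c h0 (fun i => by
      obtain ⟨_, ⟨W, hW, rfl⟩, hx⟩ := hs i
      exact ⟨W, hW, hx.2⟩) hi
  have h2 := Steps.map (MulAut.conj k).toMonoidHom (M₂ := stepSet 𝓦 (S : Subgroup G))
    (T₂ := ((S : Subgroup G) : Set G)) ?_ (fun t ht => hkT ▸ conj_mem_cj ht) hst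
  · have e : (MulAut.conj k).toMonoidHom '' limg A k⁻¹ = A := by
      simp [limg, Set.image_image, mul_assoc]
    rw [e] at h2
    refine ⟨_, h2, fun a ha => ?_⟩
    have h3 := hl _ ⟨a, ha, rfl⟩
    simp only [inv_inv] at h3
    calc (MulAut.conj k).toMonoidHom (c (Fin.last n)) * a * ((MulAut.conj k).toMonoidHom (c (Fin.last n)))⁻¹
        = k * (c (Fin.last n) * (k⁻¹ * a * k) * (c (Fin.last n))⁻¹) * k⁻¹ := by
          simp only [MulEquiv.coe_toMonoidHom, MulAut.conj_apply]; group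
      _ = k * (k⁻¹ * g * k * (k⁻¹ * a * k) * (k⁻¹ * g * k)⁻¹) * k⁻¹ := by rw [h3]
      _ = g * a * g⁻¹ := by group
  · rintro x ⟨W, hW, hx⟩
    refine ⟨W, hW, ?_⟩
    rw [← hkT, show cj k T = T.map (MulAut.conj k).toMonoidHom from rfl,
      Fusion.inducedFunctor_map (h𝓦 W hW) _ (MulAut.conj k).injective hTp]
    exact le_normalizer_map _ ⟨x, hx, rfl⟩

end Cfsg.Agent.H49
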