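import Cfsg.Agent.H49.ModelInvolve
import Cfsg.Prelude.Def_FusionReduction
import Cfsg.Prelude.Def_FusionComponents
import Cfsg.Agent.FusionSys.KSub
import Cfsg.Agent.FusionSys.KInstances
import Cfsg.Agent.FusionSys.Centric
import Cfsg.Agent.FusionSys.Normal
import Cfsg.Agent.FusionSys.Alperin
import Mathlib

/-!
The local model at a centric subgroup, and facts about normal centric subgroups of models.
-/

set_option autoImplicit false
set_option linter.unusedSectionVars false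
set_option linter.style.haveILetI false

namespace Cfsg.Agent.H49

open Cfsg Cfsg.FusionSystem Cfsg.Agent.FusionSys

universe u v w

variable {Ω : Type u} [Group Ω] {S : Subgroup Ω} [Finite S] {p : ℕ} [hp : Fact p.Prime]
  {F : FusionSystem S}

section Model

variable {G : Type v} [Group G] {ι : S →* G}

/-- Conjugation by an element of a model is a map of the system on the preimage of `O_p`. -/
theorem conj_modelCore (hG : F.IsModel p G ι) (m : G) :
    ∃ f, IsMap F (modelCore p ι) f ∧ ∀ x : S, (x : Ω) ∈ modelCore p ι →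
      ∃ h : f x ∈ S, ι ⟨f x, h⟩ = m * ι x * m⁻¹ := by
  have key : ∀ x : S, (x : Ω) ∈ modelCore p ι →
      ∃ h : bwdFun hG.2.1.1 (m * homFun ι x * m⁻¹) ∈ S,
        ι ⟨_, h⟩ = m * ι x * m⁻¹ := fun x hx => by
    obtain ⟨s, hs⟩ := pCore_le_range hG (conj_mem_pCore (mem_modelCore.1 hx) m)
    have he : bwdFun hG.2.1.1 (m * homFun ι x * m⁻¹) = s := by
      rw [homFun_coe, ← hs, bwdFun_apply]
    exact ⟨he.symm ▸ s.2, (congrArg ι (Subtype.ext he)).trans hs⟩
  exact ⟨fun x => bwdFun hG.2.1.1 (m * homFun ι x * m⁻¹),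
    (isMap_realized_iff hG.2.1).2 ⟨modelCore_le, m, key⟩, key⟩

theorem le_modelCore_of_isNormal (hS : IsPGroup p S) (hG : F.IsModel p G ι) {Y : Subgroup Ω}
    (hY : F.IsNormal Y) : Y ≤ modelCore p ι :=
  (H89.le_core F hY).trans (core_eq_modelCore hS hG).le

theorem model_conj_mem (hS : IsPGroup p S) (hG : F.IsModel p G ι) {Y : Subgroup Ω}
    (hY : F.IsNormal Y) (m : G) {y : S} (hy : (y : Ω) ∈ Y) :
    ∃ y' : S, (y' : Ω) ∈ Y ∧ m * ι y * m⁻¹ = ι y' := by
  obtain ⟨f, hf, he⟩ := conj_modelCore hG m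
  have hle := le_modelCore_of_isNormal hS hG hY
  obtain ⟨h, he⟩ := he y (hle hy)
  exact ⟨⟨f y, h⟩, (stronglyClosed_iff.1 (stronglyClosed_of_isNormal hY)).2 Y f le_rfl
    (hf.mono hle) y hy, he.symm⟩

/-- The centraliser of a normal centric subgroup lies in it. -/
theorem model_centralizer_mem (hS : IsPGroup p S) (hG : F.IsModel p G ι) {Y : Subgroup Ω}
    (hY : F.IsNormal Y) (hYc : F.IsCentric Y) (m : G)
    (h : ∀ y : S, (y : Ω) ∈ Y → ι y * m = m * ι y) : ∃ z : S, (z : Ω) ∈ Y ∧ ι z = m := by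
  have hF : F.IsSaturated p := (isConstrained_of_model hS hG).1
  obtain ⟨f, hf, he⟩ := conj_modelCore hG m
  have hle := le_modelCore_of_isNormal hS hG hY
  have hid : ∀ y ∈ Y, id y = f y := fun y hy => by
    obtain ⟨h', e⟩ := he ⟨y, hY.1 hy⟩ (hle hy)
    have : (⟨f y, h'⟩ : S) = ⟨y, hY.1 hy⟩ := hG.2.1.1 (e.trans (by
      rw [← h ⟨y, hY.1 hy⟩ hy, mul_inv_cancel_right]))
    exact (congrArg Subtype.val this).symm
  obtain ⟨z, hz, -, hze⟩ := exists_center_twist hS hF hle hYc (isMap_id F modelCore_le) hf hid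
  set z' : S := ⟨z, hY.1 hz⟩
  have h1 : (ι z')⁻¹ * m ∈ pCore p G := mem_pCore_of_centralizes hG fun x hx => by
    obtain ⟨h', e⟩ := he x hx
    have h2 : m * ι x * m⁻¹ = ι z' * ι x * (ι z')⁻¹ := by
      rw [← e, ← map_inv, ← map_mul, ← map_mul]
      exact congrArg ι (Subtype.ext (hze x hx))
    calc ι x * ((ι z')⁻¹ * m) = (ι z')⁻¹ * (ι z' * ι x * (ι z')⁻¹) * m := by group
      _ = (ι z')⁻¹ * m * ι x := by rw [← h2]; group
  obtain ⟨t, ht⟩ := pCore_le_range hG h1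
  have htm : ι (z' * t) = m := by rw [map_mul, ht, mul_inv_cancel_left]
  refine ⟨z' * t, hYc.2 Y (isConj_refl F hY.1) (mem_centralizerIn.2 ⟨(z' * t).2, fun y hy => ?_⟩), htm⟩
  have := h ⟨y, hY.1 hy⟩ hy
  rw [← htm, ← map_mul, ← map_mul] at this
  exact congrArg Subtype.val (hG.2.1.1 this)

end Model

/-- `N_S(X)` with the model of the normalizer system of a fully normalized conjugate of `X`. -/
theorem exists_localModel {H : Type v} [Group H] (hS : IsPGroup p S) (hF : F.IsSaturated p)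
    (hfree : F.IsSectionFree p H) {X : Subgroup Ω} (hX : F.IsCentric X) :
    ∃ (M : Type u) (_ : Group M) (b : normalizerIn S X →* M),
      Finite M ∧ ¬ Involves H M ∧ Function.Injective b ∧
      (∀ (W : Subgroup Ω) (g : Ω → Ω), X ≤ W → W ≤ normalizerIn S X → IsMap F W g →
        g '' (X : Set Ω) = X → ∃ m : M, ∀ w : normalizerIn S X, (w : Ω) ∈ W →
          ∃ h : g w ∈ normalizerIn S X, b ⟨g w, h⟩ = m * b w * m⁻¹) ∧
      (∀ (W : Subgroup Ω) (m : M), X ≤ W → W ≤ normalizerIn S X →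
        (∀ w : normalizerIn S X, (w : Ω) ∈ W → m * b w * m⁻¹ ∈ b.range) →
          ∃ g, IsMap F W g ∧ ∀ w : normalizerIn S X, (w : Ω) ∈ W →
            ∃ h : g w ∈ normalizerIn S X, b ⟨g w, h⟩ = m * b w * m⁻¹) ∧
      ∀ m : M, (∀ x : normalizerIn S X, (x : Ω) ∈ X → b x * m = m * b x) →
        ∃ z : normalizerIn S X, (z : Ω) ∈ X ∧ b z = m := by
  obtain ⟨X₂, hconj, hX₂⟩ := exists_isFullyNormalized F hX.1
  obtain ⟨φ, hφ, hφX, hφN⟩ := exists_normalizer_map hS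
    (isFullyAutomized_of_isFullyNormalized hS hF hX₂) (receptive_of_isFullyNormalized hS hF hX₂) hconj
  have hX₂c : F.IsCentric X₂ := isCentric_of_isConj hX hconj
  obtain ⟨N₂, hN₂⟩ := exists_normalizerSystem F hX₂.1
  have hK := isKSys_normalizer_iff.1 hN₂
  haveI : Finite (normalizerIn S X₂) := finite_of_le (S := S) normalizerIn_le
  haveI : Finite (normalizerIn S X) := finite_of_le (S := S) normalizerIn_le
  have hT₂ : IsPGroup p (normalizerIn S X₂) := isPGroup_normalizerIn hS X₂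
  have hXT₂ : X₂ ≤ normalizerIn S X₂ := le_normalizerIn_self hX₂.1
  have hX₂n : N₂.IsNormal X₂ := hK.isNormal_self hXT₂
  have hX₂N : N₂.IsCentric X₂ := by
    refine ⟨hXT₂, fun R hR x hx => ?_⟩
    obtain ⟨f, hf⟩ := isConj_iff.1 hR
    obtain ⟨-, -, g, hg, he, -⟩ := (hK.map_iff _ _).1 hf.isMap
    have hR' : F.IsConj X₂ R :=
      (IsIso.mk ((hg.mono le_sup_left).congr fun y hy => (he y hy).symm) hf.image_eq).isConj
    obtain ⟨hxT, hxc⟩ := mem_centralizerIn.1 hx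
    exact hX₂c.2 R hR' (mem_centralizerIn.2 ⟨normalizerIn_le hxT, hxc⟩)
  have hcons : N₂.IsConstrained p := ⟨isSaturated_normalizer hS hF hX₂ hN₂, X₂, hX₂n, hX₂N⟩
  obtain ⟨M, iM, ι, hM⟩ := exists_model hT₂ N₂ hcons
  haveI := hM.1
  let a : normalizerIn S X →* normalizerIn S X₂ :=
    MonoidHom.mk' (fun x => ⟨φ x, hφN x x.2⟩) fun x y => Subtype.ext (hφ.map_mul x.2 y.2)
  have ha : ∀ x : normalizerIn S X, (a x : Ω) = φ x := fun _ => rfl
  have hainj : Function.Injective a := fun x y h =>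
    Subtype.ext (hφ.injOn x.2 y.2 (congrArg Subtype.val h))
  obtain ⟨k, hk, hkφ⟩ := hφ.exists_inv
  haveI := finite_of_le hX.1
  haveI := finite_of_le hX₂.1
  refine ⟨M, iM, ι.comp a, hM.1, hfree X₂ hX₂ hX₂c N₂ hN₂ M ι hM, hM.2.1.1.comp hainj, ?_, ?_, ?_⟩
  · intro W g hXW hW hg hgX
    have hgN : ∀ w ∈ W, g w ∈ normalizerIn S X := fun w hw => by
      have h1 := hg.mem_normalizerIn hXW hw (hW hw).2
      rwa [show imgSub g X = X from SetLike.coe_injective ((hg.mono hXW).coe_imgSub.trans hgX)] at h1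
    set P := imgSub φ W
    have hφW := hφ.mono hW
    have hle : P ≤ imgSub φ (normalizerIn S X) := fun y hy => by
      obtain ⟨x, hx, rfl⟩ := hφW.mem_imgSub.1 hy
      exact hφ.mem_imgSub.2 ⟨x, hW hx, rfl⟩
    have hkW : ∀ y ∈ P, k y ∈ W := fun y hy => by
      obtain ⟨x, hx, rfl⟩ := hφW.mem_imgSub.1 hy
      rw [hkφ x (hW hx)]
      exact hx
    have hmap : IsMap F P (φ ∘ g ∘ k) :=
      ((hk.mono hle).comp hg hkW).comp hφ fun y hy => hgN _ (hkW y hy)
    have hX₂P : X₂ ≤ P := fun y hy => by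
      obtain ⟨x, hx, rfl⟩ := hφX.exists_preimage hy
      exact hφW.mem_imgSub.2 ⟨x, hXW hx, rfl⟩
    have hPT : P ≤ normalizerIn S X₂ := fun y hy => by
      obtain ⟨x, hx, rfl⟩ := hφW.mem_imgSub.1 hy
      exact hφN x (hW hx)
    have hpres : ∀ y ∈ X₂, (φ ∘ g ∘ k) y ∈ X₂ := fun y hy => by
      obtain ⟨x, hx, rfl⟩ := hφX.exists_preimage hy
      show φ (g (k (φ x))) ∈ X₂
      rw [hkφ x (hW (hXW hx))]
      exact hφX.mem (hgX.le ⟨x, hx, rfl⟩)
    have hN : IsMap N₂ P (φ ∘ g ∘ k) := by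
      refine (hK.map_iff _ _).2 ⟨hPT, fun y hy => hφN _ (hgN _ (hkW y hy)), φ ∘ g ∘ k,
        by rwa [sup_eq_left.2 hX₂P], fun _ _ => rfl, ?_⟩
      exact (onQ_top_iff hmap hX₂P).2 ((hmap.mono hX₂P).image_eq_of_mapsTo hpres)
    obtain ⟨-, m, hm⟩ := (isMap_realized_iff hM.2.1).1 hN
    refine ⟨m, fun w hw => ⟨hgN _ hw, ?_⟩⟩
    obtain ⟨h', he⟩ := hm (a w) (hφW.mem_imgSub.2 ⟨w, hw, rfl⟩)
    rw [MonoidHom.comp_apply, MonoidHom.comp_apply, ← he]
    refine congrArg ι (Subtype.ext ?_)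
    show φ (g w) = φ (g (k (φ w)))
    rw [hkφ w w.2]
  · intro W m hXW hW hm
    set P := imgSub φ W
    have hφW := hφ.mono hW
    have hX₂P : X₂ ≤ P := fun y hy => by
      obtain ⟨x, hx, rfl⟩ := hφX.exists_preimage hy
      exact hφW.mem_imgSub.2 ⟨x, hXW hx, rfl⟩
    let f : Ω → Ω := fun y => bwdFun hM.2.1.1 (m * homFun ι y * m⁻¹)
    have hf : ∀ w : normalizerIn S X, (w : Ω) ∈ W →
        ∃ w' : normalizerIn S X, f (φ w) = φ w' ∧ ι (a w') = m * ι (a w) * m⁻¹ := fun w hw => by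
      obtain ⟨w', hw'⟩ := hm w hw
      refine ⟨w', ?_, hw'⟩
      show bwdFun hM.2.1.1 (m * homFun ι (a w : Ω) * m⁻¹) = _
      rw [homFun_coe, show m * ι (a w) * m⁻¹ = ι (a w') from hw'.symm, bwdFun_apply]
      rfl
    have hN : IsMap N₂ P f := by
      refine (isMap_realized_iff hM.2.1).2 ⟨fun y hy => ?_, m, fun y hy => ?_⟩
      · obtain ⟨x, hx, rfl⟩ := hφW.mem_imgSub.1 hy
        exact hφN x (hW hx)
      · obtain ⟨x, hx, hxy⟩ := hφW.mem_imgSub.1 hy
        obtain ⟨w', h1, h2⟩ := hf ⟨x, hW hx⟩ hx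
        have hy' : y = a ⟨x, hW hx⟩ := Subtype.ext hxy.symm
        subst hy'
        refine ⟨h1 ▸ hφN w' w'.2, ?_⟩
        rw [← h2]
        exact congrArg ι (Subtype.ext h1)
    obtain ⟨-, -, g₀, hg₀, he₀, -⟩ := (hK.map_iff _ _).1 hN
    have hfF : IsMap F P f := (hg₀.mono le_sup_left).congr fun y hy => (he₀ y hy).symm
    refine ⟨k ∘ f ∘ φ, ((hφW.comp hfF fun x hx => hφW.mem_imgSub.2 ⟨x, hx, rfl⟩)).comp hk
      fun x hx => ?_, fun w hw => ?_⟩
    · obtain ⟨w', h1, -⟩ := hf ⟨x, hW hx⟩ hx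
      exact hφ.mem_imgSub.2 ⟨w', w'.2, h1.symm⟩
    · obtain ⟨w', h1, h2⟩ := hf w hw
      have he : (k ∘ f ∘ φ) (w : Ω) = w' := by
        show k (f (φ w)) = _
        rw [h1, hkφ w' w'.2]
      refine ⟨he.symm ▸ w'.2, ?_⟩
      exact (congrArg (ι.comp a) (Subtype.ext he)).trans h2
  · intro m hm
    obtain ⟨z, hz, hzm⟩ := model_centralizer_mem hT₂ hM hX₂n hX₂N m fun y hy => by
      obtain ⟨x, hx, hxy⟩ := hφX.exists_preimage hy
      have h := hm ⟨x, le_normalizerIn_self hX.1 hx⟩ hx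
      rwa [show y = a ⟨x, le_normalizerIn_self hX.1 hx⟩ from Subtype.ext hxy.symm]
    obtain ⟨x, hx, hxz⟩ := hφX.exists_preimage hz
    refine ⟨⟨x, le_normalizerIn_self hX.1 hx⟩, hx, ?_⟩
    rw [MonoidHom.comp_apply, ← hzm]
    exact congrArg ι (Subtype.ext hxz)

end Cfsg.Agent.H49
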