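import Cfsg.Agent.H49.LocalModel
import Cfsg.Agent.H89.Factor
import Cfsg.Agent.H48.SylowIn
import Mathlib

/-!
Freeness from a section passes to factor systems by normal subgroups.
-/

set_option autoImplicit false
set_option linter.unusedSectionVars false
set_option linter.style.haveILetI false

namespace Cfsg.Agent.H49

open Cfsg Cfsg.FusionSystem Cfsg.Agent.FusionSys
open Cfsg.Agent.H89 (mem_preimageAlong preimageAlong_le ker_le_preimageAlong KerEq
  preimageAlong_imageAlong mem_imageAlong)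

universe u u' v w

variable {Ω : Type u} [Group Ω] {S : Subgroup Ω} [Finite S] {p : ℕ} [hp : Fact p.Prime]
  {F : FusionSystem S} {Ω' : Type u'} [Group Ω'] {S' : Subgroup Ω'} {θ : S →* Ω'}
  {E : FusionSystem S'} {Q : Subgroup Ω}

theorem factor_map (hE : F.IsFactorSystem Q θ E) {P' : Subgroup Ω'} {f' : Ω' → Ω'}
    (h : IsMap E P' f') : P' ≤ S' ∧ ∃ g, IsMap F (preimageAlong θ P') g ∧
      ∀ x : S, θ x ∈ P' → ∃ hg : g x ∈ S, θ ⟨g x, hg⟩ = f' (θ x) := by
  obtain ⟨φ', hφ', he⟩ := h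
  obtain ⟨hP', φ, hφ, hPS, hv, hPP, hi⟩ := (hE.2.2.2 P' φ').1 hφ'
  refine ⟨hP', homFun φ, isMap_of_mem hφ, fun x hx => ?_⟩
  have hxP : (x : Ω) ∈ preimageAlong θ P' := mem_preimageAlong.2 ⟨x.2, hx⟩
  refine ⟨(homFun_mem φ hxP).symm ▸ hv ⟨x, hxP⟩, ?_⟩
  rw [← he ⟨θ x, hx⟩]
  exact (congrArg θ (Subtype.ext (homFun_mem φ hxP))).trans (hi ⟨x, hxP⟩).symm

theorem factor_map_of (hE : F.IsFactorSystem Q θ E) (hQ : F.StronglyClosed Q) {P' : Subgroup Ω'}
    (hP' : P' ≤ S') {g : Ω → Ω} (hg : IsMap F (preimageAlong θ P') g) {f' : Ω' → Ω'}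
    (he : ∀ x : S, θ x ∈ P' → ∀ hg : g x ∈ S, θ ⟨g x, hg⟩ = f' (θ x)) : IsMap E P' f' := by
  obtain ⟨φ, hφ, hφg⟩ := hg
  obtain ⟨φ', hφ'⟩ := H89.exists_induced hE.2.1 hQ (hP'.trans hE.2.2.1.ge) hφ
  refine ⟨φ', (hE.2.2.2 P' φ').2 ⟨hP', φ, hφ, hφ'⟩, fun y => ?_⟩
  obtain ⟨hPS, hv, hP, hi⟩ := hφ'
  obtain ⟨x, hx⟩ := (hP'.trans hE.2.2.1.ge) y.2
  have hxP : (x : Ω) ∈ preimageAlong θ P' := mem_preimageAlong.2 ⟨x.2, hx ▸ y.2⟩
  rw [← hx, ← he x (hx ▸ y.2) (hφg ⟨x, hxP⟩ ▸ hv ⟨x, hxP⟩),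
    show y = ⟨θ ⟨x, hPS hxP⟩, hP ⟨x, hxP⟩⟩ from Subtype.ext hx.symm, hi ⟨x, hxP⟩]
  exact congrArg θ (Subtype.ext (hφg ⟨x, hxP⟩))

theorem mem_normalizerIn_preimage (hrange : θ.range = S') {R' : Subgroup Ω'} (hR' : R' ≤ S')
    (x : S) : (x : Ω) ∈ normalizerIn S (preimageAlong θ R') ↔ θ x ∈ normalizerIn S' R' := by
  haveI := finite_of_le (S := S) (preimageAlong_le θ R')
  haveI : Finite S' := hrange ▸ Finite.of_surjective _ θ.rangeRestrict_surjective
  haveI := finite_of_le hR'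
  constructor
  · intro h
    refine ⟨hrange ▸ ⟨x, rfl⟩, mem_normalizer_of_maps fun y hy => ?_⟩
    obtain ⟨s, rfl⟩ := hrange.ge (hR' hy)
    obtain ⟨h1, h2⟩ := mem_preimageAlong.1 (conj_mem_of_mem_normalizerIn h
      (mem_preimageAlong.2 ⟨s.2, hy⟩))
    rw [← map_inv, ← map_mul, ← map_mul]
    exact h2
  · intro h
    refine ⟨x.2, mem_normalizer_of_maps fun y hy => ?_⟩
    obtain ⟨hyS, hy'⟩ := mem_preimageAlong.1 hy
    refine mem_preimageAlong.2 ⟨(x * ⟨y, hyS⟩ * x⁻¹ : S).2, ?_⟩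
    show θ (x * ⟨y, hyS⟩ * x⁻¹) ∈ R'
    rw [map_mul, map_mul, map_inv]
    exact conj_mem_of_mem_normalizerIn h hy'

theorem card_preimageAlong {Z : Subgroup Ω'} (hZ : Z ≤ θ.range) :
    Nat.card (preimageAlong θ Z) = Nat.card θ.ker * Nat.card Z := by
  rw [preimageAlong, Subgroup.card_map_of_injective S.subtype_injective,
    card_eq_ker_mul_range (θ.subgroupComap Z)]
  have hs : Function.Surjective (θ.subgroupComap Z) := fun z => by
    obtain ⟨x, hx⟩ := hZ z.2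
    exact ⟨⟨x, show θ x ∈ Z from hx ▸ z.2⟩, Subtype.ext hx⟩
  rw [MonoidHom.range_eq_top.2 hs, Subgroup.card_top]
  congr 1
  refine Nat.card_congr ?_
  exact
    { toFun := fun x => ⟨(x : Z.comap θ), congrArg Subtype.val x.2⟩
      invFun := fun x => ⟨⟨x, show θ x ∈ Z by rw [MonoidHom.mem_ker.1 x.2]; exact Z.one_mem⟩,
        Subtype.ext x.2⟩
      left_inv := fun x => rfl
      right_inv := fun x => rfl }

/-- A normal subgroup of a finite group with a central Sylow `p`-subgroup inside `Y`. -/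
theorem exists_pPrime_normal {M : Type w} [Group M] [Finite M] (U : Sylow p M) (C Y : Subgroup M)
    [C.Normal] (hUY : (U : Subgroup M) ⊓ C ≤ Y) (hCY : C ≤ Subgroup.centralizer (Y : Set M)) :
    ∃ K : Subgroup M, K.Normal ∧ ¬ p ∣ Nat.card K ∧ C ≤ Y ⊔ K := by
  obtain ⟨P, hP⟩ := Thompson.exists_sylow_inf_normal U C
  have hPC : ∀ a ∈ (P : Subgroup C), (a : M) ∈ Y := fun a ha => hUY (by
    rw [← hP]
    exact ⟨a, ha, rfl⟩)
  have hPc : Subgroup.normalizer ((P : Subgroup C) : Set C) ≤ Subgroup.centralizer (P : Set C) :=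
    fun c _ => Subgroup.mem_centralizer_iff.2 fun a ha =>
      Subtype.ext (Subgroup.mem_centralizer_iff.1 (hCY c.2) a (hPC a ha))
  have hcompl := MonoidHom.ker_transferSylow_isComplement' P hPc
  have hnd := MonoidHom.not_dvd_card_ker_transferSylow P hPc
  set K₀ := (MonoidHom.transferSylow P hPc).ker
  refine ⟨K₀.map C.subtype, ⟨?_⟩, ?_, ?_⟩
  · rintro _ ⟨k, hk, rfl⟩ g
    have hgk : g * (k : M) * g⁻¹ ∈ C := ‹C.Normal›.conj_mem _ k.2 g
    refine ⟨⟨_, hgk⟩, ?_, rfl⟩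
    show (⟨_, hgk⟩ : C) ∈ K₀
    refine (QuotientGroup.eq_one_iff (N := K₀) _).1 (orderOf_eq_one_iff.1 ?_)
    have h1 : orderOf (QuotientGroup.mk' K₀ ⟨_, hgk⟩) ∣ Nat.card K₀ := by
      refine (orderOf_map_dvd _ _).trans ?_
      rw [← Subgroup.orderOf_coe]
      refine (orderOf_map_dvd (MulAut.conj g).toMonoidHom (k : M)).trans ?_
      rw [Subgroup.orderOf_coe]
      exact Subgroup.orderOf_dvd_natCard K₀ hk
    obtain ⟨a, ha⟩ := IsPGroup.iff_card.1 P.isPGroup'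
    have h2 : orderOf (QuotientGroup.mk' K₀ ⟨_, hgk⟩) ∣ p ^ a := by
      rw [← ha, ← hcompl.symm.index_eq_card, Subgroup.index]
      exact orderOf_dvd_natCard _
    exact Nat.eq_one_of_dvd_coprimes ((hp.out.coprime_iff_not_dvd.2 hnd).pow_left a) h2 h1
  · rwa [Subgroup.card_map_of_injective C.subtype_injective]
  · calc C = (⊤ : Subgroup C).map C.subtype := by rw [← MonoidHom.range_eq_map, C.range_subtype]
      _ = ((P : Subgroup C) ⊔ K₀).map C.subtype := by rw [sup_comm, hcompl.sup_eq_top]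
      _ ≤ Y ⊔ K₀.map C.subtype := by
        rw [Subgroup.map_sup]
        exact sup_le_sup_right (by rintro _ ⟨a, ha, rfl⟩; exact hPC a ha) _

theorem isSectionFree_factor {H : Type v} [Group H] (hS : IsPGroup p S) (hF : F.IsSaturated p)
    (hQ : F.IsNormal Q) (hfree : F.IsSectionFree p H) (hE : F.IsFactorSystem Q θ E) :
    E.IsSectionFree p H := by
  intro R' hR'n hR'c N' hN' L _ ι' hL
  have hQs := stronglyClosed_of_isNormal hQ
  have hker : KerEq θ Q := hE.2.1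
  have hrange := hE.2.2.1
  haveI : Finite S' := hrange ▸ Finite.of_surjective _ θ.rangeRestrict_surjective
  haveI := finite_of_le hR'n.1
  have hpre : ∀ {Z : Subgroup Ω'}, preimageAlong θ Z ≤ S := fun {Z} => preimageAlong_le θ Z
  have hθ : ∀ (x : S), θ x ∈ S' := fun x => hrange ▸ ⟨x, rfl⟩
  set R := preimageAlong θ R' with hRdef
  have hQR : Q ≤ R := ker_le_preimageAlong hker hQ.1 R'
  have hRS : R ≤ S := hpre
  haveI := finite_of_le hRS
  haveI := finite_of_le hQ.1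
  -- conjugates of `R` and of `R'`
  have hconj : ∀ R₃, F.IsConj R R₃ →
      preimageAlong θ (imageAlong θ R₃) = R₃ ∧ E.IsConj R' (imageAlong θ R₃) := by
    intro R₃ hR₃
    obtain ⟨f, hf⟩ := isConj_iff.1 hR₃
    have hfQ : f '' (Q : Set Ω) = Q := (hf.isMap.mono hQR).image_eq_of_mapsTo fun x hx =>
      (stronglyClosed_iff.1 hQs).2 Q f le_rfl (hf.isMap.mono hQR) x hx
    have hQR₃ : Q ≤ R₃ := fun x hx => by
      obtain ⟨y, hy, rfl⟩ := hfQ.ge hx
      exact hf.mem (hQR hy)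
    have h1 : preimageAlong θ (imageAlong θ R₃) = R₃ := by
      rw [preimageAlong_imageAlong hker hQ.1 hf.target_le, sup_eq_left.2 hQR₃]
    obtain ⟨φ, hφ, hφf⟩ := hf.isMap
    obtain ⟨φ', hφ'⟩ := H89.exists_induced hker hQs (hR'n.1.trans hrange.ge) hφ
    refine ⟨h1, isConj_iff.2 ⟨homFun φ', isMap_of_mem ((hE.2.2.2 R' φ').2 ⟨hR'n.1, φ, hφ, hφ'⟩), ?_⟩⟩
    obtain ⟨hPS, hv, hP, hi⟩ := hφ'
    ext y
    constructor
    · rintro ⟨z, hz, rfl⟩
      obtain ⟨s, rfl⟩ := (hR'n.1.trans hrange.ge) hz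
      have hs : (s : Ω) ∈ R := mem_preimageAlong.2 ⟨s.2, hz⟩
      refine mem_imageAlong.2 ⟨⟨φ ⟨s, hs⟩, hv _⟩, (by show φ ⟨s, hs⟩ ∈ R₃; rw [hφf ⟨s, hs⟩]; exact hf.mem hs), ?_⟩
      rw [homFun_mem φ' hz]
      exact (hi ⟨s, hs⟩).symm
    · intro hy
      obtain ⟨x, hx, rfl⟩ := mem_imageAlong.1 hy
      obtain ⟨r, hr, hre⟩ := hf.exists_preimage hx
      refine ⟨θ ⟨r, hRS hr⟩, hP ⟨r, hr⟩, ?_⟩
      rw [homFun_mem φ' (hP ⟨r, hr⟩), hi ⟨r, hr⟩]
      exact congrArg θ (Subtype.ext ((hφf ⟨r, hr⟩).trans hre))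
  have hRc : F.IsCentric R := ⟨hRS, fun R₃ hR₃ c hc => by
    obtain ⟨h1, h2⟩ := hconj R₃ hR₃
    obtain ⟨hcS, hcc⟩ := mem_centralizerIn.1 hc
    rw [← h1]
    refine mem_preimageAlong.2 ⟨hcS, hR'c.2 _ h2 (mem_centralizerIn.2 ⟨hθ _, fun y hy => ?_⟩)⟩
    obtain ⟨x, hx, rfl⟩ := mem_imageAlong.1 hy
    rw [← map_mul, ← map_mul]
    exact congrArg θ (Subtype.ext (hcc x hx))⟩
  have hNpre : ∀ {Z : Subgroup Ω'}, Z ≤ S' →
      normalizerIn S (preimageAlong θ Z) = preimageAlong θ (normalizerIn S' Z) := fun {Z} hZ =>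
    le_antisymm (fun x hx => mem_preimageAlong.2 ⟨hx.1,
      (mem_normalizerIn_preimage hrange hZ ⟨x, hx.1⟩).1 hx⟩)
      fun x hx => (mem_normalizerIn_preimage hrange hZ ⟨x, hpre hx⟩).2 (mem_preimageAlong.1 hx).2
  have hRn : F.IsFullyNormalized R := ⟨hRS, fun R₃ hR₃ => by
    obtain ⟨h1, h2⟩ := hconj R₃ hR₃
    have hle : imageAlong θ R₃ ≤ S' := le_of_isConj_right h2
    rw [← h1, hRdef, hNpre hle, hNpre hR'n.1, card_preimageAlong (normalizerIn_le.trans hrange.ge),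
      card_preimageAlong (normalizerIn_le.trans hrange.ge)]
    exact Nat.mul_le_mul_left _ (hR'n.2 _ h2)⟩
  -- the model of the normalizer system of `R`
  obtain ⟨N, hN⟩ := exists_normalizerSystem F hRS
  have hK := isKSys_normalizer_iff.1 hN
  haveI : Finite (normalizerIn S R) := finite_of_le (S := S) normalizerIn_le
  have hTp : IsPGroup p (normalizerIn S R) := isPGroup_normalizerIn hS R
  have hRT : R ≤ normalizerIn S R := le_normalizerIn_self hRS
  have hRNn : N.IsNormal R := hK.isNormal_self hRT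
  have hQNn : N.IsNormal Q := hK.isNormal hRT hQR hQs
  have hcons : N.IsConstrained p := by
    refine ⟨isSaturated_normalizer hS hF hRn hN, R, hRNn, hRT, fun R₃ hR₃ x hx => ?_⟩
    obtain ⟨f, hf⟩ := isConj_iff.1 hR₃
    obtain ⟨-, -, g, hg, he, -⟩ := (hK.map_iff _ _).1 hf.isMap
    obtain ⟨hxT, hxc⟩ := mem_centralizerIn.1 hx
    exact hRc.2 R₃ (IsIso.mk ((hg.mono le_sup_left).congr fun y hy => (he y hy).symm) hf.image_eq).isConj
      (mem_centralizerIn.2 ⟨normalizerIn_le hxT, hxc⟩)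
  obtain ⟨M, iM, ι, hM⟩ := exists_model hTp N hcons
  haveI := hM.1
  have hfreeM : ¬ Involves H M := hfree R hRn hRc N hN M ι hM
  set QG := (Q.subgroupOf (normalizerIn S R)).map ι
  have hQG : QG.Normal := ⟨by
    rintro _ ⟨x, hx, rfl⟩ m
    obtain ⟨y, hy, he⟩ := model_conj_mem hTp hM hQNn m (y := x) hx
    exact ⟨y, hy, he.symm⟩⟩
  set π := QuotientGroup.mk' QG with hπ
  set RG := (R.subgroupOf (normalizerIn S R)).map ι
  have hRG : RG.Normal := ⟨by
    rintro _ ⟨x, hx, rfl⟩ m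
    obtain ⟨y, hy, he⟩ := model_conj_mem hTp hM hRNn m (y := x) hx
    exact ⟨y, hy, he.symm⟩⟩
  -- the quotient map of normalizers
  have hθT : ∀ x : normalizerIn S R, θ (Subgroup.inclusion normalizerIn_le x) ∈ normalizerIn S' R' :=
    fun x => (mem_normalizerIn_preimage hrange hR'n.1 ⟨x, x.2.1⟩).1 x.2
  set θT : normalizerIn S R →* normalizerIn S' R' :=
    (θ.comp (Subgroup.inclusion normalizerIn_le)).codRestrict _ hθT
  have hθTv : ∀ x, ((θT x : normalizerIn S' R') : Ω') = θ (Subgroup.inclusion normalizerIn_le x) :=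
    fun _ => rfl
  have hlift : ∀ t : normalizerIn S' R', ∃ x, θT x = t := fun t => by
    obtain ⟨s, hs⟩ := hrange.ge t.2.1
    exact ⟨⟨s, (mem_normalizerIn_preimage hrange hR'n.1 s).2 (hs ▸ t.2)⟩, Subtype.ext hs⟩
  have hle : θT.ker ≤ (π.comp ι).ker := fun x hx => by
    refine (QuotientGroup.eq_one_iff _).2 ⟨x, ?_, rfl⟩
    exact (hker _).1 (congrArg Subtype.val (MonoidHom.mem_ker.1 hx))
  set κ := θT.liftOfSurjective hlift ⟨π.comp ι, hle⟩
  have hκ : ∀ x, κ (θT x) = π (ι x) := fun x =>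
    MonoidHom.liftOfRightInverse_comp_apply _ _ _ ⟨π.comp ι, hle⟩ x
  have hκinj : Function.Injective κ := (injective_iff_map_eq_one κ).2 fun t ht => by
    obtain ⟨x, rfl⟩ := hlift t
    rw [hκ] at ht
    obtain ⟨q, hq, hqx⟩ := (QuotientGroup.eq_one_iff _).1 ht
    obtain rfl := hM.2.1.1 hqx
    exact Subtype.ext ((hker _).2 hq)
  have hQker : ∀ x : normalizerIn S R, (x : Ω) ∈ Q → π (ι x) = 1 := fun x hx =>
    (QuotientGroup.eq_one_iff _).2 ⟨x, hx, rfl⟩
  have hK' := isKSys_normalizer_iff.1 hN'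
  have hreal : N'.IsRealizedBy κ := by
    refine isRealizedBy_of_isMap hκinj (fun P f hf => ?_) fun P φ hP hφ m₁ hm => ?_
    · obtain ⟨hP, hfT, g', hg', hge, hg'R⟩ := (hK'.map_iff _ _).1 hf
      have hg'R' : g' '' (R' : Set Ω') = R' := (onQ_top_iff hg' le_sup_right).1 hg'R
      obtain ⟨hW', g, hg, hgθ⟩ := factor_map hE hg'
      set W := preimageAlong θ (P ⊔ R') with hWdef
      have hRW : R ≤ W := fun x hx =>
        mem_preimageAlong.2 ⟨hRS hx, Subgroup.mem_sup_right (mem_preimageAlong.1 hx).2⟩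
      have hgR : g '' (R : Set Ω) = R := by
        refine (hg.mono hRW).image_eq_of_mapsTo fun x hx => ?_
        obtain ⟨hxS, hx'⟩ := mem_preimageAlong.1 hx
        obtain ⟨h, he⟩ := hgθ ⟨x, hxS⟩ (Subgroup.mem_sup_right hx')
        exact mem_preimageAlong.2 ⟨h, he ▸ hg'R'.le ⟨_, hx', rfl⟩⟩
      have hWT : W ≤ normalizerIn S R := fun x hx => by
        obtain ⟨hxS, hx'⟩ := mem_preimageAlong.1 hx
        exact (mem_normalizerIn_preimage hrange hR'n.1 ⟨x, hxS⟩).2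
          (sup_le hP (le_normalizerIn_self hR'n.1) hx')
      have hgN : IsMap N W g := by
        refine (hK.map_iff _ _).2 ⟨hWT, fun x hx => ?_, g, by rwa [sup_eq_left.2 hRW],
          fun _ _ => rfl, (onQ_top_iff hg hRW).2 hgR⟩
        have h1 := hg.mem_normalizerIn hRW hx (hWT hx).2
        rwa [show imgSub g R = R from SetLike.coe_injective ((hg.mono hRW).coe_imgSub.trans hgR)] at h1
      obtain ⟨-, m, hm⟩ := (isMap_realized_iff hM.2.1).1 hgN
      refine ⟨π m, fun t ht => ⟨hfT t ht, ?_⟩⟩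
      obtain ⟨x, rfl⟩ := hlift t
      have hxW : (x : Ω) ∈ W := mem_preimageAlong.2 ⟨x.2.1, Subgroup.mem_sup_left ht⟩
      obtain ⟨h, he⟩ := hm x hxW
      rw [hκ, ← map_inv, ← map_mul, ← map_mul, ← he, ← hκ]
      refine congrArg κ (Subtype.ext ?_)
      obtain ⟨h', he'⟩ := hgθ ⟨x, x.2.1⟩ (Subgroup.mem_sup_left ht)
      exact (hge _ ht).symm.trans he'.symm
    · obtain ⟨m, rfl⟩ := QuotientGroup.mk'_surjective QG m₁
      set W := preimageAlong θ P ⊔ R with hWdef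
      have hPT : preimageAlong θ P ≤ normalizerIn S R := fun x hx => by
        obtain ⟨hxS, hx'⟩ := mem_preimageAlong.1 hx
        exact (mem_normalizerIn_preimage hrange hR'n.1 ⟨x, hxS⟩).2 (hP hx')
      have hWT : W ≤ normalizerIn S R := sup_le hPT hRT
      have hin : W.subgroupOf (normalizerIn S R) ≤
          ι.range.comap ((MulAut.conj m).toMonoidHom.comp ι) := by
        rw [Subgroup.subgroupOf_sup hPT hRT]
        refine sup_le (fun x hx => ?_) fun x hx => ?_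
        · have hx' : (θT x : Ω') ∈ P := (mem_preimageAlong.1 hx).2
          obtain ⟨y, hy⟩ := hlift ⟨homFun φ (θT x : Ω'), hφ _ hx'⟩
          have h1 := hm (θT x) hx' (hφ _ hx')
          rw [← hy, hκ, hκ, ← map_inv, ← map_mul, ← map_mul] at h1
          obtain ⟨q, -, hq⟩ := QuotientGroup.eq.1 h1
          exact ⟨y * q, by
            rw [map_mul, hq, mul_inv_cancel_left]
            rfl⟩
        · obtain ⟨y, -, hy⟩ := model_conj_mem hTp hM hRNn m (y := x) hx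
          exact ⟨y, hy.symm⟩
      let f : Ω → Ω := fun y => bwdFun hM.2.1.1 (m * homFun ι y * m⁻¹)
      have hf : ∀ w : normalizerIn S R, (w : Ω) ∈ W →
          ∃ h : f w ∈ normalizerIn S R, ι ⟨f w, h⟩ = m * ι w * m⁻¹ := fun w hw => by
        obtain ⟨w', hw'⟩ := hin hw
        have hw'' : ι w' = m * ι w * m⁻¹ := hw'
        have he : f w = w' := by
          show bwdFun hM.2.1.1 (m * homFun ι (w : Ω) * m⁻¹) = _
          rw [homFun_coe, ← hw'', bwdFun_apply]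
        exact ⟨he.symm ▸ w'.2, (congrArg ι (Subtype.ext he)).trans hw''⟩
      have hfN : IsMap N W f := (isMap_realized_iff hM.2.1).2 ⟨hWT, m, hf⟩
      have hfR : ∀ x ∈ R, f x ∈ R := fun x hx =>
        (stronglyClosed_iff.1 (stronglyClosed_of_isNormal hRNn)).2 R f le_rfl
          (hfN.mono le_sup_right) x hx
      obtain ⟨-, -, g₀, hg₀, he₀, -⟩ := (hK.map_iff _ _).1 hfN
      have hfF : IsMap F W f := (hg₀.mono le_sup_left).congr fun y hy => (he₀ y hy).symm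
      set W' := imageAlong θ W
      have hWS : W ≤ S := hWT.trans normalizerIn_le
      have hpreW : preimageAlong θ W' = W := by
        rw [preimageAlong_imageAlong hker hQ.1 hWS, sup_eq_left.2 (hQR.trans le_sup_right)]
      have hW'S : W' ≤ S' := (H89.imageAlong_le).trans hrange.le
      obtain ⟨ψ, hψ, hψf⟩ := hfF
      obtain ⟨ψ', hψ'⟩ := H89.exists_induced hker hQs (H89.imageAlong_le (P := W))
        (φ := ψ.comp (Subgroup.inclusion hpreW.le)) (by
          refine mem_hom_of_isMap ((show IsMap F W f from ⟨ψ, hψ, hψf⟩).mono hpreW.le) fun x => ?_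
          exact hψf _)
      set g' := homFun ψ'
      have hg' : IsMap E W' g' := isMap_of_mem ((hE.2.2.2 W' ψ').2 ⟨hW'S, _, by
          refine mem_hom_of_isMap ((show IsMap F W f from ⟨ψ, hψ, hψf⟩).mono hpreW.le) fun x => ?_
          exact hψf _, hψ'⟩)
      obtain ⟨hi1, hi2, hi3, hi⟩ := hψ'
      have hg'v : ∀ x : S, (x : Ω) ∈ W → ∃ h : f x ∈ S, g' (θ x) = θ ⟨f x, h⟩ := fun x hx => by
        have hx' : (x : Ω) ∈ preimageAlong θ W' := hpreW.ge hx
        have hv : ψ (Subgroup.inclusion hpreW.le ⟨x, hx'⟩) = f x := hψf _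
        refine ⟨hv ▸ hi2 ⟨x, hx'⟩, ?_⟩
        rw [show g' (θ x) = ψ' ⟨θ x, hi3 ⟨x, hx'⟩⟩ from homFun_mem ψ' _, hi ⟨x, hx'⟩]
        exact congrArg θ (Subtype.ext hv)
      have hPW : P ≤ W' := fun t ht => by
        obtain ⟨s, rfl⟩ := hrange.ge ((hP.trans normalizerIn_le) ht)
        exact mem_imageAlong.2 ⟨s, Subgroup.mem_sup_left (mem_preimageAlong.2 ⟨s.2, ht⟩), rfl⟩
      have hR'W : R' ≤ W' := fun t ht => by
        obtain ⟨s, rfl⟩ := hrange.ge (hR'n.1 ht)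
        exact mem_imageAlong.2 ⟨s, Subgroup.mem_sup_right (mem_preimageAlong.2 ⟨s.2, ht⟩), rfl⟩
      have hg'R : g' '' (R' : Set Ω') = R' := by
        refine (hg'.mono hR'W).image_eq_of_mapsTo fun t ht => ?_
        obtain ⟨s, rfl⟩ := hrange.ge (hR'n.1 ht)
        have hs : (s : Ω) ∈ R := mem_preimageAlong.2 ⟨s.2, ht⟩
        obtain ⟨h, he⟩ := hg'v s (Subgroup.mem_sup_right hs)
        rw [he]
        exact (mem_preimageAlong.1 (hfR s hs)).2
      refine (hK'.map_iff _ _).2 ⟨hP, hφ, g', hg'.mono (sup_le hPW hR'W), fun t ht => ?_,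
        (onQ_top_iff (hg'.mono hR'W) le_rfl).2 hg'R⟩
      obtain ⟨x, hx⟩ := hlift ⟨t, hP ht⟩
      have hxt : θ ⟨x, x.2.1⟩ = t := congrArg Subtype.val hx
      have hxW : (x : Ω) ∈ W := Subgroup.mem_sup_left (mem_preimageAlong.2 ⟨x.2.1, hxt.symm ▸ ht⟩)
      obtain ⟨h, he⟩ := hf x hxW
      obtain ⟨h', he'⟩ := hg'v ⟨x, x.2.1⟩ hxW
      rw [← hxt, he']
      have h2 : κ (θT ⟨f x, h⟩) = κ ⟨homFun φ t, hφ t ht⟩ := by
        rw [hκ, he, map_mul, map_mul, map_inv, ← hκ, hx]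
        exact (hm ⟨t, hP ht⟩ ht (hφ t ht)).symm
      exact (congrArg Subtype.val (hκinj h2)).trans (congrArg (homFun φ) hxt.symm)
  -- Sylow and the normal `p`-subgroup
  obtain ⟨U, hU⟩ := hM.2.2.1
  set U₁ : Sylow p (M ⧸ QG) := U.mapSurjective (QuotientGroup.mk'_surjective QG)
  have hU₁ : (U₁ : Subgroup (M ⧸ QG)) = κ.range := by
    show (U : Subgroup M).map π = _
    rw [hU, MonoidHom.map_range]
    refine le_antisymm ?_ ?_
    · rintro _ ⟨x, rfl⟩
      exact ⟨θT x, hκ x⟩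
    · rintro _ ⟨t, rfl⟩
      obtain ⟨x, rfl⟩ := hlift t
      exact ⟨x, (hκ x).symm⟩
  set Y := RG.map π
  haveI hYn : Y.Normal := hRG.map π (QuotientGroup.mk'_surjective QG)
  have hYp : IsPGroup p Y := ((hTp.to_subgroup _).map ι).map π
  haveI : (Subgroup.centralizer (Y : Set (M ⧸ QG))).Normal := Subgroup.normal_centralizer
  have hUY : (U₁ : Subgroup (M ⧸ QG)) ⊓ Subgroup.centralizer (Y : Set (M ⧸ QG)) ≤ Y := by
    rintro c ⟨hc1, hc2⟩
    obtain ⟨t, rfl⟩ := hU₁.le hc1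
    have htR : (t : Ω') ∈ R' := by
      refine hR'c.2 R' (isConj_refl E hR'n.1) (mem_centralizerIn.2 ⟨t.2.1, fun r hr => ?_⟩)
      obtain ⟨x, hx⟩ := hlift ⟨r, le_normalizerIn_self hR'n.1 hr⟩
      have hxR : (x : Ω) ∈ R := mem_preimageAlong.2 ⟨x.2.1, by
        rw [show θ ⟨x, x.2.1⟩ = r from congrArg Subtype.val hx]
        exact hr⟩
      have hy : κ (θT x) ∈ Y := ⟨ι x, ⟨x, hxR, rfl⟩, (hκ x).symm⟩
      have h1 := Subgroup.mem_centralizer_iff.1 hc2 _ hy
      rw [← map_mul, ← map_mul] at h1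
      have h2 := congrArg Subtype.val (hκinj h1)
      rw [hx] at h2
      exact h2
    obtain ⟨x, rfl⟩ := hlift t
    exact ⟨ι x, ⟨x, mem_preimageAlong.2 ⟨x.2.1, htR⟩, rfl⟩, (hκ x).symm⟩
  obtain ⟨K, hKn, hKp, hKC⟩ := exists_pPrime_normal U₁ (Subgroup.centralizer (Y : Set (M ⧸ QG))) Y
    hUY le_rfl
  haveI := finite_of_le (S := S') (normalizerIn_le (S := S') (P := R'))
  have hS'p : IsPGroup p S' := hrange ▸ hS.of_surjective _ θ.rangeRestrict_surjective
  have hmod := isModel_quotient (isPGroup_normalizerIn hS'p R') hreal ⟨U₁, hU₁⟩ K hKp Y hYp hKC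
  refine not_involves_of_models (isPGroup_normalizerIn hS'p R') hL hmod fun h => hfreeM ?_
  exact involves_of_surjective' π (QuotientGroup.mk'_surjective QG)
    (involves_of_surjective' (QuotientGroup.mk' K) (QuotientGroup.mk'_surjective K) h)

end Cfsg.Agent.H49
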