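import Cfsg.Agent.H49.QdFusion
import Cfsg.Agent.H49.PStableFusion
import Cfsg.Agent.Thompson.Forms

/-!
`Qd(p)`-free groups and control of strong fusion in all sections.
-/

set_option autoImplicit false
set_option linter.style.haveILetI false
set_option linter.unusedSectionVars false

namespace Cfsg.Agent.H49

open Subgroup
open Cfsg.Agent.H48

universe u

variable {p : ℕ} [hp : Fact p.Prime] {G : Type u} [Group G] [Finite G]

theorem sfc_of_controlsStrongFusion {W : ∀ (Q : Type u) [Group Q], Subgroup Q}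
    (hW : IsCharPFunctor.{u} p W)
    (h : ∀ T : Sylow p G, ControlsStrongFusion p (inducedFunctor W (T : Subgroup G))) :
    SFC {W} p G := by
  intro S A g hA hA'
  set U := inducedFunctor W (S : Subgroup G) with hU
  obtain ⟨T', hUT', hctl⟩ := h S
  set N := normalizer (U : Set G) with hN
  have hT'N : (T' : Subgroup G) ≤ N := by
    intro t ht
    obtain ⟨x, hx, hxe⟩ := (hctl ((T' : Subgroup G) : Set G) le_rfl).2 t (by
      rintro _ ⟨a, ha, rfl⟩; exact mul_mem (mul_mem ht ha) (inv_mem ht))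
    refine mem_normalizer_of_cj_eq (cj_eq_self_of_le (cj_le.mpr fun u hu => ?_))
    rw [hxe u (hUT' hu)]
    exact (mem_normalizer_iff.mp hx u).mp hu
  have hSN : (S : Subgroup G) ≤ N := Fusion.le_normalizer_inducedFunctor hW S.isPGroup'
  have h1 : IsSylowIn p (T' : Subgroup G) N := ⟨hT'N, T'.isPGroup', fun hd =>
    T'.not_dvd_index (hd.trans (relIndex_dvd_index_of_le hT'N))⟩
  have h2 : IsSylowIn p (S : Subgroup G) N := ⟨hSN, S.isPGroup', fun hd =>
    S.not_dvd_index (hd.trans (relIndex_dvd_index_of_le hSN))⟩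
  obtain ⟨n, hn, hne⟩ := h2.exists_conj h1
  obtain ⟨x, hx, hxe⟩ := (hctl (limg A n) (by
    rintro _ ⟨a, ha, rfl⟩; exact hne ▸ conj_mem_cj (hA ha))).2 (n * g * n⁻¹) (by
    show limg (limg A n) (n * g * n⁻¹) ⊆ _
    rw [limg_limg, inv_mul_cancel_right, ← limg_limg]
    rintro _ ⟨a, ha, rfl⟩
    exact hne ▸ conj_mem_cj (hA' ha))
  refine (Agree.of_mem (x := n⁻¹ * x * n) hA ?_ ?_).congr fun a ha => ?_
  · rintro _ ⟨a, ha, rfl⟩
    have h3 := hxe _ ⟨a, ha, rfl⟩
    have e : n⁻¹ * x * n * a * (n⁻¹ * x * n)⁻¹ = g * a * g⁻¹ := by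
      calc n⁻¹ * x * n * a * (n⁻¹ * x * n)⁻¹ = n⁻¹ * (x * (n * a * n⁻¹) * x⁻¹) * n := by group
        _ = n⁻¹ * (n * g * n⁻¹ * (n * a * n⁻¹) * (n * g * n⁻¹)⁻¹) * n := by rw [h3]
        _ = g * a * g⁻¹ := by group
    show n⁻¹ * x * n * a * (n⁻¹ * x * n)⁻¹ ∈ (S : Subgroup G)
    rw [e]
    exact hA' ⟨a, ha, rfl⟩
  · rw [stepSet_singleton]
    exact mul_mem (mul_mem (inv_mem hn) hx) hn
  · calc n⁻¹ * x * n * a * (n⁻¹ * x * n)⁻¹ = n⁻¹ * (x * (n * a * n⁻¹) * x⁻¹) * n := by group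
      _ = n⁻¹ * (n * g * n⁻¹ * (n * a * n⁻¹) * (n * g * n⁻¹)⁻¹) * n := by
          rw [hxe _ ⟨a, ha, rfl⟩]
      _ = g * a * g⁻¹ := by group

theorem sfc_kInfLower_of_qd_free (hp2 : p ≠ 2) (h : ¬ Thompson.HasSection (qd p) G) :
    SFC {fun Q [Group Q] => kInfLower Q} p G := by
  refine sfc_of_pStable (fun K R hR => ?_) _ kLike_lower fun _ h => Or.inl h
  intro P hP g hg hq
  exact Thompson.isNormalizerPStable_of_qd_free hp2 (fun hs =>
    h ((hs.of_surjective (QuotientGroup.mk'_surjective _)).of_injective K.subtype_injective)) P hP hg hq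

theorem qd_free_of_sfc_models (𝓦 : Set (∀ (Q : Type u) [Group Q], Subgroup Q))
    (h𝓦 : ∀ W ∈ 𝓦, IsCharPFunctor.{u} p W)
    (h : ∀ (K R : Subgroup G) [(R.subgroupOf K).Normal], SFC 𝓦 p (↥K ⧸ R.subgroupOf K)) :
    ¬ Involves ↥(qd p) G := by
  rintro ⟨K, R, hR, ⟨e⟩⟩
  exact not_sfc_qd e h𝓦 (h K R)

theorem qd_free_section (h : ¬ Involves ↥(qd p) G) (K R : Subgroup G) [(R.subgroupOf K).Normal] :
    ¬ Thompson.HasSection (qd p) (↥K ⧸ R.subgroupOf K) := fun hs =>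
  h (Thompson.hasSection_iff.mp
    ((hs.of_surjective (QuotientGroup.mk'_surjective _)).of_injective K.subtype_injective))

end Cfsg.Agent.H49
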