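import Cfsg.Agent.FusionSys.ModelFacts
import Cfsg.Agent.Thompson.StrongFusion
import Cfsg.Agent.H58.Involve
import Mathlib

/-!
Building models as subgroups and as quotients by normal `p'`-subgroups, and transport of sections between models.
-/

set_option autoImplicit false
set_option linter.unusedSectionVars false

namespace Cfsg.Agent.H49

open Cfsg Cfsg.FusionSystem Cfsg.Agent.FusionSys

universe u v w w'

variable {Ω : Type u} [Group Ω] {T : Subgroup Ω} [Finite T] {p : ℕ} [hp : Fact p.Prime]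
  {D : FusionSystem T}

theorem involves_of_injective {H : Type v} [Group H] {G : Type w} [Group G] {G₂ : Type w'} [Group G₂]
    (f : G →* G₂) (hf : Function.Injective f) (h : Involves H G) : Involves H G₂ := by
  obtain ⟨K, e, he⟩ := H58.Inv.exists_hom_of_involves h
  refine H58.Inv.involves_of_hom (K := K.map f)
    (e.comp (K.equivMapOfInjective f hf).symm.toMonoidHom) ?_
  exact he.comp (K.equivMapOfInjective f hf).symm.surjective

theorem involves_of_surjective' {H : Type v} [Group H] {G : Type w} [Group G] {G₂ : Type w'} [Group G₂]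
    (f : G →* G₂) (hf : Function.Surjective f) (h : Involves H G₂) : Involves H G := by
  obtain ⟨K, e, he⟩ := H58.Inv.exists_hom_of_involves h
  exact H58.Inv.involves_of_hom (K := K.comap f) (e.comp (f.subgroupComap K))
    (he.comp (f.subgroupComap_surjective_of_surjective K hf))

/-- Sections of one model are sections of every other. -/
theorem not_involves_of_models {H : Type*} [Group H] {L : Type w} [Group L] {ι : T →* L}
    {M : Type w'} [Group M] {κ : T →* M} (hT : IsPGroup p T) (hL : D.IsModel p L ι)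
    (hM : D.IsModel p M κ) (h : ¬ Involves H M) : ¬ Involves H L := by
  obtain ⟨φ, -⟩ := exists_equiv_models hT (isConstrained_of_model hT hM) hL hM
  exact fun h' => h (involves_of_injective φ.toMonoidHom φ.injective h')

omit [Finite T] hp in
/-- Realisation, tested on maps given as functions. -/
theorem isRealizedBy_of_isMap {M : Type w} [Group M] {κ : T →* M} (hκ : Function.Injective κ)
    (hmap : ∀ P f, IsMap D P f → ∃ g : M, ∀ x : T, (x : Ω) ∈ P →
      ∃ h : f x ∈ T, κ ⟨f x, h⟩ = g * κ x * g⁻¹)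
    (hback : ∀ (P : Subgroup Ω) (φ : P →* Ω), P ≤ T → (∀ x ∈ P, homFun φ x ∈ T) → ∀ g : M,
      (∀ x : T, (x : Ω) ∈ P → ∀ h : homFun φ x ∈ T, κ ⟨homFun φ x, h⟩ = g * κ x * g⁻¹) →
        IsMap D P (homFun φ)) :
    D.IsRealizedBy κ := by
  refine ⟨hκ, fun P hP φ hφ => ⟨fun h => ?_, fun ⟨g, hg⟩ => ?_⟩⟩
  · obtain ⟨g, hg⟩ := hmap P _ (isMap_of_mem h)
    refine ⟨g, fun x => ?_⟩
    obtain ⟨hf, he⟩ := hg ⟨x, hP x.2⟩ x.2
    rw [← he]
    exact congrArg κ (Subtype.ext (homFun_coe φ x).symm)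
  · refine mem_hom_of_isMap (hback P φ hP (fun x hx => (homFun_mem φ hx).symm ▸ hφ ⟨x, hx⟩) g
      fun x hx hf => ?_) fun x => (homFun_coe φ x).symm
    rw [← hg ⟨x, hx⟩]
    exact congrArg κ (Subtype.ext (homFun_mem φ hx))

/-- A realised system is realised in the quotient by a normal `p'`-subgroup; with a normal `p`-subgroup
`Y` such that `C(Y) ≤ Y K`, the quotient is a model. -/
theorem isModel_quotient {M : Type w} [Group M] [Finite M] {κ : T →* M} (hT : IsPGroup p T)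
    (hr : D.IsRealizedBy κ) (hsyl : ∃ U : Sylow p M, (U : Subgroup M) = κ.range)
    (K : Subgroup M) [K.Normal] (hK : ¬ p ∣ Nat.card K)
    (Y : Subgroup M) [Y.Normal] (hY : IsPGroup p Y)
    (hC : Subgroup.centralizer (Y : Set M) ≤ Y ⊔ K) :
    D.IsModel p (M ⧸ K) ((QuotientGroup.mk' K).comp κ) := by
  obtain ⟨U, hU⟩ := hsyl
  set π := QuotientGroup.mk' K with hπ
  have hdis : ∀ {B : Subgroup M}, IsPGroup p B → K ⊓ B = ⊥ := fun {B} hB => by
    refine Subgroup.inf_eq_bot_of_coprime ?_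
    obtain ⟨k, hk⟩ := IsPGroup.iff_card.mp hB
    rw [hk]
    exact ((hp.out.coprime_iff_not_dvd.mpr hK).symm).pow_right k
  have hzero : ∀ {B : Subgroup M}, IsPGroup p B → ∀ b ∈ B, π b = 1 → b = 1 := fun {B} hB b hb h1 =>
    Subgroup.mem_bot.mp (hdis hB ▸ ⟨(QuotientGroup.eq_one_iff b).mp h1, hb⟩)
  have hrange : IsPGroup p κ.range := hT.of_surjective _ κ.rangeRestrict_surjective
  refine ⟨inferInstance, ⟨?_, fun P hP φ hφ => ?_⟩, ⟨U.mapSurjective
      (QuotientGroup.mk'_surjective K), ?_⟩, ?_⟩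
  · intro a b hab
    refine hr.1 (inv_mul_eq_one.mp (hzero hrange _ (mul_mem (inv_mem ⟨a, rfl⟩) ⟨b, rfl⟩) ?_))
    rw [map_mul, map_inv, show π (κ a) = π (κ b) from hab, inv_mul_cancel]
  · rw [hr.2 P hP φ hφ]
    refine ⟨fun ⟨g, hg⟩ => ⟨π g, fun x => ?_⟩, fun ⟨g', hg⟩ => ?_⟩
    · rw [MonoidHom.comp_apply, hg x, map_mul, map_mul, map_inv, MonoidHom.comp_apply]
    obtain ⟨g, rfl⟩ := QuotientGroup.mk'_surjective K g'
    let a : P →* M := κ.comp (Subgroup.inclusion hP)
    let c : P →* M := κ.comp (φ.codRestrict T hφ)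
    have hPp : IsPGroup p P := hT.to_le hP
    have hac : ∀ x, π (g * a x * g⁻¹) = π (c x) := fun x => by
      rw [map_mul, map_mul, map_inv]; exact (hg x).symm
    set B : Subgroup M := H48.cj g a.range
    set C : Subgroup M := c.range
    have hCp : IsPGroup p C := hPp.of_surjective _ c.rangeRestrict_surjective
    have hBp : IsPGroup p B := H48.isPGroup_cj (hPp.of_surjective _ a.rangeRestrict_surjective)
    have hCK : C ≤ Subgroup.normalizer (K : Set M) := fun _ _ =>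
      Subgroup.normalizer_eq_top (H := K) ▸ Subgroup.mem_top _
    have hBH : B ≤ K ⊔ C := by
      rintro _ ⟨_, ⟨x, rfl⟩, rfl⟩
      show g * a x * g⁻¹ ∈ _
      have h1 : g * a x * g⁻¹ * (c x)⁻¹ ∈ K := (QuotientGroup.eq_one_iff _).mp (by
        show π (g * a x * g⁻¹ * (c x)⁻¹) = 1
        rw [map_mul, map_inv, hac, mul_inv_cancel])
      have h2 := Subgroup.mul_mem_sup h1 (show c x ∈ C from ⟨x, rfl⟩)
      rwa [inv_mul_cancel_right] at h2
    have hCsyl : H48.IsSylowIn p C (K ⊔ C) := ⟨le_sup_right, hCp, by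
      rwa [Thompson.relIndex_sup_eq_card hCK (hdis hCp)]⟩
    obtain ⟨m, hm, hmB⟩ := hCsyl.exists_cj_le hBp hBH
    obtain ⟨k, hk, c₀, hc₀, rfl⟩ := Subgroup.mem_sup_of_normal_left.mp hm
    -- move the `C`-part to the left
    have hk' : c₀⁻¹ * k * c₀ ∈ K := by simpa using ‹K.Normal›.conj_mem k hk c₀⁻¹
    refine ⟨c₀⁻¹ * k * c₀ * g, fun x => ?_⟩
    show c x = c₀⁻¹ * k * c₀ * g * a x * (c₀⁻¹ * k * c₀ * g)⁻¹
    have h3 : k * c₀ * (g * a x * g⁻¹) * (k * c₀)⁻¹ ∈ C :=
      hmB ⟨g * a x * g⁻¹, ⟨a x, ⟨x, rfl⟩, rfl⟩, rfl⟩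
    have h4 : c₀⁻¹ * k * c₀ * g * a x * (c₀⁻¹ * k * c₀ * g)⁻¹ ∈ C := by
      have := mul_mem (mul_mem (inv_mem hc₀) h3) hc₀
      convert this using 1
      group
    refine (inv_mul_eq_one.mp (hzero hCp _ (mul_mem (inv_mem ⟨x, rfl⟩) h4) ?_))
    have h5 : π (c₀⁻¹ * k * c₀) = 1 := (QuotientGroup.eq_one_iff _).mpr hk'
    rw [map_mul, map_inv, mul_inv_rev, show c₀⁻¹ * k * c₀ * g * a x * (g⁻¹ * (c₀⁻¹ * k * c₀)⁻¹)
      = c₀⁻¹ * k * c₀ * (g * a x * g⁻¹) * (c₀⁻¹ * k * c₀)⁻¹ by group, map_mul, map_mul, h5,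
      map_inv π (c₀⁻¹ * k * c₀), h5, hac]
    group
  · show (U : Subgroup M).map π = _
    rw [hU, MonoidHom.map_range]
  · have hYle : Y.map π ≤ pCore p (M ⧸ K) :=
      haveI : (Y.map π).Normal := ‹Y.Normal›.map π (QuotientGroup.mk'_surjective K)
      Cores.le_pCore (hY.map π)
    refine (Subgroup.centralizer_le hYle).trans (le_trans ?_ hYle)
    intro m hm
    obtain ⟨g, rfl⟩ := QuotientGroup.mk'_surjective K m
    have hg : g ∈ Subgroup.centralizer (Y : Set M) := Subgroup.mem_centralizer_iff.mpr fun y hy => by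
      have h1 : y⁻¹ * (g * y * g⁻¹) ∈ Y := mul_mem (inv_mem hy) (‹Y.Normal›.conj_mem y hy g)
      have h2 : π (y⁻¹ * (g * y * g⁻¹)) = 1 := by
        rw [map_mul, map_mul, map_mul, map_inv, map_inv,
          ← Subgroup.mem_centralizer_iff.mp hm (π y) ⟨y, hy, rfl⟩]
        simp only [hπ]
        group
      have h3 := inv_mul_eq_one.mp (hzero hY _ h1 h2)
      nth_rw 1 [h3]
      group
    obtain ⟨y, hy, k, hk, rfl⟩ := Subgroup.mem_sup_of_normal_right.mp (hC hg)
    exact ⟨y, hy, by rw [map_mul, show π k = 1 from (QuotientGroup.eq_one_iff k).mpr hk, mul_one]⟩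

end Cfsg.Agent.H49
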