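import Cfsg.Agent.H49.RankTwoAut
import Cfsg.Agent.H77.AutPGroup
import Cfsg.Agent.FusionSys.Alperin
import Cfsg.Agent.PGroups.TwoGroups

/-!
Automorphism groups of two-generated `p`-groups with several Sylow `p`-subgroups and no normal
`p`-subgroup outside the inner automorphisms.
-/

set_option autoImplicit false
set_option linter.unusedSectionVars false
set_option linter.style.haveILetI false

namespace Cfsg.Agent.H49

open Subgroup
open scoped MatrixGroups

variable {p : ℕ} [hp : Fact p.Prime] {G : Type*} [Group G] [Finite G]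

theorem finite_mulAut : Finite (MulAut G) :=
  Finite.of_injective (fun a : MulAut G => ((a : G ≃* G) : G → G)) DFunLike.coe_injective

/-- The action of automorphisms on the Frattini quotient. -/
noncomputable def frattiniQuot (G : Type*) [Group G] : MulAut G →* MulAut (G ⧸ frattini G) where
  toFun a := QuotientGroup.congr _ _ a (Subgroup.characteristic_iff_map_eq.1 inferInstance a)
  map_one' := MulEquiv.ext fun x => by obtain ⟨v, rfl⟩ := QuotientGroup.mk_surjective x; rfl
  map_mul' a b := MulEquiv.ext fun x => by obtain ⟨v, rfl⟩ := QuotientGroup.mk_surjective x; rfl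

theorem frattiniQuot_mk (a : MulAut G) (v : G) :
    frattiniQuot G a (QuotientGroup.mk v) = QuotientGroup.mk (a v) := rfl

/-- Two Sylow subgroups of a quotient give two Sylow subgroups. -/
theorem two_sylow_of_quotient {X : Type*} [Group X] [Finite X] (N : Subgroup X) [N.Normal]
    (E : Subgroup (X ⧸ N)) (hE : Cfsg.IsStronglyPEmbedded p E) :
    ∃ P P' : Sylow p X, P ≠ P' := by
  obtain ⟨Q, Q', hQ⟩ := exists_two_sylow E hE
  obtain ⟨P, rfl⟩ := Sylow.mapSurjective_surjective (QuotientGroup.mk'_surjective N) p Q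
  obtain ⟨P', rfl⟩ := Sylow.mapSurjective_surjective (QuotientGroup.mk'_surjective N) p Q'
  exact ⟨P, P', fun h => hQ (by rw [h])⟩

theorem not_isCyclic_of_two_sylow (A : Subgroup (MulAut G)) (P P' : Sylow p A) (hne : P ≠ P') :
    ¬ IsCyclic G := by
  intro hc
  haveI := finite_mulAut (G := G)
  haveI hn : (P : Subgroup A).Normal := ⟨fun x hx g => by
    have : g * x * g⁻¹ = x := by
      refine Subtype.ext ?_
      show (g : MulAut G) * (x : MulAut G) * (g : MulAut G)⁻¹ = x
      rw [mul_inv_eq_iff_eq_mul]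
      exact (IsCyclic.mulAutMulEquiv G).injective (by rw [map_mul, map_mul, mul_comm])
    rwa [this]⟩
  haveI := P.unique_of_normal hn
  exact hne (Subsingleton.elim P P')

theorem frattini_index (hG : IsPGroup p G) (A : Subgroup (MulAut G)) (P P' : Sylow p A) (hne : P ≠ P')
    (hrk : (frattini G).index ≤ p ^ 2) : (frattini G).index = p ^ 2 := by
  obtain ⟨r, hr⟩ := hG.index (H := frattini G)
  rw [hr] at hrk ⊢
  have hr2 : r ≤ 2 := (Nat.pow_le_pow_iff_right hp.out.one_lt).1 hrk
  rcases hr2.lt_or_eq with h | h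
  · exfalso
    haveI : IsCyclic (G ⧸ frattini G) := by
      rw [Subgroup.index_eq_card] at hr
      interval_cases r
      · haveI : Subsingleton (G ⧸ frattini G) := (Nat.card_eq_one_iff_unique.1 (by simpa using hr)).1
        infer_instance
      · exact isCyclic_of_prime_card (p := p) (by simpa using hr)
    exact not_isCyclic_of_two_sylow A P P' hne PGroups.isCyclic_of_frattini
  · rw [h]

theorem quot_pow (hG : IsPGroup p G) (v : G ⧸ frattini G) : v ^ p = 1 := by
  obtain ⟨x, rfl⟩ := QuotientGroup.mk_surjective v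
  rw [← QuotientGroup.mk_pow, QuotientGroup.eq_one_iff]
  exact PGroups.pow_mem_frattini hG x

theorem isPGroup_ker (hG : IsPGroup p G) (A : Subgroup (MulAut G)) :
    IsPGroup p ((frattiniQuot G).comp A.subtype).ker := by
  obtain ⟨r, hr⟩ := hG.index (H := frattini G)
  obtain ⟨m, hm⟩ := (IsPGroup.iff_card.1 (hG.to_subgroup (frattini G)))
  suffices hs : IsPGroup p (((frattiniQuot G).comp A.subtype).ker.map A.subtype) from
    hs.of_equiv (Subgroup.equivMapOfInjective _ _ A.subtype_injective).symm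
  have h := H77.card_trivial_on_frattini_dvd hG hr (((frattiniQuot G).comp A.subtype).ker.map A.subtype) (by
    rintro _ ⟨a, ha, rfl⟩ x
    have h1 : frattiniQuot G (a : MulAut G) (QuotientGroup.mk x) = QuotientGroup.mk x := by
      rw [show frattiniQuot G (a : MulAut G) = 1 from ha]
      rfl
    rw [frattiniQuot_mk, QuotientGroup.eq] at h1
    have h2 := (inferInstance : (frattini G).Normal).conj_mem _ (inv_mem h1) x
    show (a : MulAut G) x * x⁻¹ ∈ frattini G
    simpa [mul_assoc] using h2)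
  rw [hm, ← pow_mul] at h
  obtain ⟨k, -, hk⟩ := (Nat.dvd_prime_pow hp.out).1 h
  exact IsPGroup.of_card hk

/-- The image on the Frattini quotient again has two Sylow subgroups. -/
theorem two_sylow_image (hG : IsPGroup p G) (A : Subgroup (MulAut G)) (P P' : Sylow p A) (hne : P ≠ P') :
    ∃ Q Q' : Sylow p (A.map (frattiniQuot G)), Q ≠ Q' := by
  haveI := finite_mulAut (G := G)
  let f : A →* A.map (frattiniQuot G) := (frattiniQuot G).subgroupMap A
  have hf : Function.Surjective f := MonoidHom.subgroupMap_surjective _ _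
  have hker : f.ker = ((frattiniQuot G).comp A.subtype).ker := by
    ext a
    rw [MonoidHom.mem_ker, MonoidHom.mem_ker, Subtype.ext_iff]
    rfl
  have hk : ∀ R : Sylow p A, f.ker ≤ (R : Subgroup A) := fun R => by
    refine IsPGroup.le_sylow_of_normal ?_ R
    rw [hker]; exact isPGroup_ker hG A
  refine ⟨P.mapSurjective hf, P'.mapSurjective hf, fun h => hne (Sylow.ext ?_)⟩
  have h1 := congrArg (Subgroup.comap f) (congrArg (fun R : Sylow p _ => (R : Subgroup _)) h)
  simp only [Sylow.coe_mapSurjective, Subgroup.comap_map_eq] at h1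
  rwa [sup_eq_left.2 (hk P), sup_eq_left.2 (hk P')] at h1

/-- No invariant subgroup lies strictly between the Frattini subgroup and the group. -/
theorem no_between (hG : IsPGroup p G) (hi : (frattini G).index = p ^ 2) (A : Subgroup (MulAut G))
    (P P' : Sylow p A) (hne : P ≠ P') (C : Subgroup G) (hΦ : frattini G < C) (hC : C ≠ ⊤)
    (hinv : ∀ a ∈ A, ∀ x ∈ C, a x ∈ C) : False := by
  obtain ⟨Q, Q', hQ⟩ := two_sylow_image hG A P P' hne
  have hV : Nat.card (G ⧸ frattini G) = p ^ 2 := by rw [← Subgroup.index_eq_card, hi]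
  have hd : Nat.card (C.map (QuotientGroup.mk' (frattini G))) = p := by
    have h1 : Nat.card (C.map (QuotientGroup.mk' (frattini G))) * C.index = p ^ 2 := by
      rw [← hV, ← Subgroup.card_mul_index (C.map (QuotientGroup.mk' (frattini G))),
        Subgroup.index_map_eq _ (QuotientGroup.mk'_surjective _) (by rw [QuotientGroup.ker_mk']; exact hΦ.le)]
    obtain ⟨j, hj, hj'⟩ := (Nat.dvd_prime_pow hp.out).1 (h1 ▸ Dvd.intro _ rfl)
    interval_cases j
    · exfalso
      rw [pow_zero, Subgroup.card_eq_one, Subgroup.map_eq_bot_iff, QuotientGroup.ker_mk'] at hj'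
      exact hΦ.not_ge hj'
    · simpa using hj'
    · exfalso
      rw [hj'] at h1
      exact hC (Subgroup.index_eq_one.1 ((Nat.mul_eq_left (pow_ne_zero 2 hp.out.ne_zero)).1 h1))
  refine no_invariant_line hV (quot_pow hG) (A.map (frattiniQuot G)) Q Q' hQ _ hd ?_
  rintro _ ⟨a, ha, rfl⟩ _ ⟨x, hx, rfl⟩
  exact ⟨a x, hinv a ha x hx, (frattiniQuot_mk a x).symm⟩

/-- A characteristic-type invariant proper subgroup lies in the Frattini subgroup. -/
theorem le_frattini (hG : IsPGroup p G) (hi : (frattini G).index = p ^ 2) (A : Subgroup (MulAut G))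
    (P P' : Sylow p A) (hne : P ≠ P') (C : Subgroup G) (hC : C ≠ ⊤)
    (hinv : ∀ a ∈ A, ∀ x ∈ C, a x ∈ C) : C ≤ frattini G := by
  by_contra hle
  refine no_between hG hi A P P' hne (C ⊔ frattini G) (right_lt_sup.2 hle)
    (fun h => hC (frattini_nongenerating h)) fun a ha x hx => ?_
  have h1 : (C ⊔ frattini G).map (a : G ≃* G).toMonoidHom ≤ C ⊔ frattini G := by
    rw [Subgroup.map_sup]
    refine sup_le_sup ?_ (le_of_eq (Subgroup.characteristic_iff_map_eq.1 inferInstance a))
    rintro _ ⟨y, hy, rfl⟩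
    exact hinv a ha y hy
  exact h1 ⟨x, hx, rfl⟩

/-- The binomial computation: an order `p` automorphism, unipotent modulo `p`, is trivial modulo `p` up
to elements killed by `p`, when `p ≥ 5`. -/
theorem unipotent_aux {M : Type*} [AddCommGroup M] (h5 : 5 ≤ p) (n : AddMonoid.End M)
    (hn : (1 + n) ^ p = 1) (h2 : ∀ z, ∃ w, n (n z) = p • w) (z : M) :
    ∃ u, p • n z = (p ^ 2) • u := by
  let R : AddSubgroup M := (nsmulAddMonoidHom (p ^ 2)).range
  have hpow : ∀ i, 2 ≤ i → ∀ z, ∃ w, (n ^ i) z = p • w := by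
    intro i hi z
    obtain ⟨j, rfl⟩ := Nat.exists_eq_add_of_le hi
    rw [pow_add, AddMonoid.End.coe_mul]
    exact h2 _
  have h4 : ∀ z, (n ^ p) z ∈ R := by
    intro z
    obtain ⟨j, hj⟩ := Nat.exists_eq_add_of_le (show 4 ≤ p by omega)
    obtain ⟨w, hw⟩ := hpow 2 le_rfl ((n ^ j) z)
    obtain ⟨u, hu⟩ := hpow 2 le_rfl w
    refine ⟨u, ?_⟩
    show (p ^ 2) • u = (n ^ p) z
    calc (p ^ 2) • u = p • p • u := by rw [sq, mul_smul]
      _ = p • (n ^ 2) w := by rw [hu]
      _ = (n ^ 2) (p • w) := (map_nsmul _ _ _).symm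
      _ = (n ^ 2) ((n ^ 2) ((n ^ j) z)) := by rw [hw]
      _ = ((n ^ 2) * ((n ^ 2) * (n ^ j))) z := rfl
      _ = (n ^ p) z := by rw [← pow_add, ← pow_add, hj, ← add_assoc]
  have hterm : ∀ i ∈ Finset.range (p + 1), i ≠ 0 → i ≠ 1 → (p.choose i) • (n ^ i) z ∈ R := by
    intro i hi h0 h1
    rcases (Nat.lt_succ_iff.1 (Finset.mem_range.1 hi)).lt_or_eq with hlt | rfl
    · obtain ⟨c, hc⟩ := hp.out.dvd_choose_self h0 hlt
      obtain ⟨w, hw⟩ := hpow i (by omega) z
      refine ⟨c • w, ?_⟩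
      show (p ^ 2) • c • w = _
      rw [hw, hc, ← mul_smul, ← mul_smul]
      congr 1
      ring
    · exact AddSubgroup.nsmul_mem _ (h4 z) _
  have hsum : (∑ i ∈ Finset.range (p + 1), (p.choose i) • (n ^ i) z) = z := by
    have := congrArg (fun f : AddMonoid.End M => f z) ((Commute.one_left n).add_pow' p)
    rw [hn, Finset.Nat.sum_antidiagonal_eq_sum_range_succ_mk] at this
    simp only [one_pow, one_mul] at this
    refine Eq.trans ?_ this.symm
    rw [← Finset.sum_range_reflect]
    let ev : AddMonoid.End M →+ M := { toFun := fun f => f z, map_zero' := rfl, map_add' := fun _ _ => rfl }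
    show _ = ev (∑ x ∈ Finset.range p.succ, p.choose x • n ^ (p - x))
    rw [map_sum]
    refine Finset.sum_congr rfl fun i hi => ?_
    have hi' : i ≤ p := Nat.lt_succ_iff.1 (Finset.mem_range.1 hi)
    rw [Nat.add_sub_cancel, Nat.choose_symm hi']
    rfl
  have hrest : (∑ i ∈ ((Finset.range (p + 1)).erase 0).erase 1, (p.choose i) • (n ^ i) z) ∈ R :=
    sum_mem fun i hi => by
      simp only [Finset.mem_erase] at hi
      exact hterm i hi.2.2 hi.2.1 hi.1
  rw [← Finset.add_sum_erase _ _ (Finset.mem_range.2 (Nat.succ_pos p)),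
    ← Finset.add_sum_erase _ _ (Finset.mem_erase.2 ⟨one_ne_zero, Finset.mem_range.2 (by omega)⟩)] at hsum
  rw [Nat.choose_zero_right, Nat.choose_one_right, pow_zero, pow_one, one_smul] at hsum
  simp only [AddMonoid.End.coe_one, id, add_eq_left] at hsum
  obtain ⟨u, hu⟩ := hrest
  exact ⟨-u, by rw [eq_neg_of_add_eq_zero_left hsum, ← hu, smul_neg]; rfl⟩

theorem exists_ne_one_mem {X : Type*} [Group X] (P P' : Sylow p X) (hne : P ≠ P') :
    ∃ a ∈ (P : Subgroup X), a ≠ 1 := by
  by_contra h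
  push Not at h
  refine hne (Sylow.ext (P.is_maximal' P'.isPGroup' fun a ha => ?_).symm)
  rw [h a ha]
  exact one_mem _

section Comm

variable {H : Type*} [CommGroup H] [Finite H]

/-- Two-generated abelian `p`-groups whose automorphisms have several Sylow `p`-subgroups are homocyclic,
and elementary for `p ≥ 5` if moreover no normal `p`-subgroup of automorphisms exists. -/
theorem homocyclic_of_two_sylow (hH : IsPGroup p H) (A : Subgroup (MulAut H)) (P P' : Sylow p A)
    (hne : P ≠ P') (hrk : (frattini H).index ≤ p ^ 2) :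
    ∃ k, 1 ≤ k ∧ Nat.card H = (p ^ k) ^ 2 ∧ Nonempty (H ≃* Multiplicative (ZMod (p ^ k) × ZMod (p ^ k))) ∧
      (∀ x : H, x ^ p ^ k = 1) ∧ ((∀ x : H, x ^ p = 1) → k = 1) ∧
      (5 ≤ p → (∀ N : Subgroup A, N.Normal → IsPGroup p N → N = ⊥) → ∀ x : H, x ^ p = 1) := by
  have hi := frattini_index hH A P P' hne hrk
  have hp2 : (1 : ℕ) < p ^ 2 := Nat.one_lt_pow two_ne_zero hp.out.one_lt
  obtain ⟨x, -, hx⟩ := SetLike.exists_of_lt (lt_of_le_of_ne (le_top (a := frattini H))
    fun h => hp2.ne (by rw [← hi, h, Subgroup.index_top]))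
  obtain ⟨k, hk⟩ := IsPGroup.iff_orderOf.1 hH x
  have hinvpow : ∀ m : ℕ, ∀ a ∈ A, ∀ z ∈ (powMonoidHom (α := H) (p ^ m)).ker,
      a z ∈ (powMonoidHom (α := H) (p ^ m)).ker := fun m a _ z hz => by
    rw [MonoidHom.mem_ker, powMonoidHom_apply] at hz ⊢
    rw [← map_pow, hz, map_one]
  have hexp : ∀ z, z ∉ frattini H → ∀ m : ℕ, z ^ p ^ m = 1 → ∀ w : H, w ^ p ^ m = 1 := by
    intro z hz m hm w
    by_contra hw
    refine hz (le_frattini hH hi A P P' hne _ (fun h => hw ?_) (hinvpow m) (x := z) hm)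
    have : w ∈ (powMonoidHom (α := H) (p ^ m)).ker := h ▸ mem_top w
    exact this
  have hall : ∀ w : H, w ^ p ^ k = 1 :=
    hexp x hx k (by rw [← hk]; exact pow_orderOf_eq_one x)
  have hk1 : 1 ≤ k := by
    rcases Nat.eq_zero_or_pos k with rfl | h
    · exact (hx (by rw [orderOf_eq_one_iff.1 (show orderOf x = 1 by simpa using hk)]; exact one_mem _)).elim
    · exact h
  have hmin : ∀ m, m < k → ∀ w : H, w ^ p ^ m = 1 → w ∈ frattini H := by
    intro m hm w hw
    by_contra hwΦ
    have h1 := orderOf_dvd_of_pow_eq_one (hexp w hwΦ m hw x)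
    rw [hk] at h1
    exact not_le.2 hm ((Nat.pow_dvd_pow_iff_le_right hp.out.one_lt).1 h1)
  have hc1 : Nat.card (frattini H ⊔ zpowers x : Subgroup H) = p * Nat.card (frattini H) :=
    PGroups.card_sup_zpowers _ hx (PGroups.pow_mem_frattini hH x)
  have hcH : Nat.card H = Nat.card (frattini H) * p ^ 2 := by rw [← hi, Subgroup.card_mul_index]
  obtain ⟨y, -, hy⟩ := SetLike.exists_of_lt (lt_of_le_of_ne (le_top (a := frattini H ⊔ zpowers x))
    fun h => by
      rw [h, Subgroup.card_top, hcH, sq, mul_comm p (Nat.card (frattini H))] at hc1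
      have := Nat.eq_of_mul_eq_mul_left Nat.card_pos hc1
      nlinarith [hp.out.two_le])
  have hc2 : Nat.card (frattini H ⊔ zpowers x ⊔ zpowers y : Subgroup H) = Nat.card H := by
    rw [PGroups.card_sup_zpowers _ hy (mem_sup_left (PGroups.pow_mem_frattini hH y)), hc1, hcH]
    ring
  have hgen : zpowers x ⊔ zpowers y = ⊤ := by
    refine frattini_nongenerating ?_
    rw [sup_comm, ← sup_assoc]
    exact Subgroup.eq_top_of_card_eq _ hc2
  have hdvd : ∀ (N : Subgroup H) (z : H), z ^ p ∈ N → z ∉ N → ∀ j : ℤ, z ^ j ∈ N → (p : ℤ) ∣ j := by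
    intro N z hzp hz j hj
    by_contra hd
    obtain ⟨a, b, hab⟩ := (Nat.prime_iff_prime_int.mp hp.out).coprime_iff_not_dvd.mpr hd
    refine hz ?_
    rw [← zpow_one z, ← hab, zpow_add, mul_comm a, mul_comm b, zpow_mul, zpow_mul, zpow_natCast]
    exact mul_mem (zpow_mem hzp a) (zpow_mem hj b)
  have hkey : ∀ i j : ℤ, x ^ i * y ^ j ∈ frattini H → (p : ℤ) ∣ i ∧ (p : ℤ) ∣ j := by
    intro i j h
    have hj : (p : ℤ) ∣ j := hdvd _ y (mem_sup_left (PGroups.pow_mem_frattini hH y)) hy j (by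
      have := mul_mem (inv_mem (mem_sup_right (zpow_mem_zpowers x i) : x ^ i ∈ frattini H ⊔ zpowers x))
        (mem_sup_left h)
      rwa [inv_mul_cancel_left] at this)
    refine ⟨hdvd _ x (PGroups.pow_mem_frattini hH x) hx i ?_, hj⟩
    obtain ⟨c, rfl⟩ := hj
    rw [zpow_mul, zpow_natCast] at h
    have := mul_mem h (inv_mem (zpow_mem (PGroups.pow_mem_frattini hH y) c))
    rwa [mul_inv_cancel_right] at this
  have hsurj : ∀ w : H, ∃ i j : ℤ, w = x ^ i * y ^ j := by
    intro w
    obtain ⟨a, ha, b, hb, rfl⟩ := mem_sup.1 (hgen ▸ mem_top w : w ∈ zpowers x ⊔ zpowers y)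
    obtain ⟨i, rfl⟩ := mem_zpowers_iff.1 ha
    obtain ⟨j, rfl⟩ := mem_zpowers_iff.1 hb
    exact ⟨i, j, rfl⟩
  have hdiv : ∀ w ∈ frattini H, ∃ u, w = u ^ p := by
    intro w hw
    obtain ⟨i, j, rfl⟩ := hsurj w
    obtain ⟨⟨a, rfl⟩, ⟨b, rfl⟩⟩ := hkey i j hw
    exact ⟨x ^ a * y ^ b, by rw [mul_pow, ← zpow_natCast (x ^ a), ← zpow_natCast (y ^ b), ← zpow_mul,
      ← zpow_mul, mul_comm a, mul_comm b]⟩
  have hker : ∀ m, m ≤ k → ∀ i j : ℤ, x ^ i * y ^ j = 1 → (p : ℤ) ^ m ∣ i ∧ (p : ℤ) ^ m ∣ j := by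
    intro m
    induction m with
    | zero => intro _ i j _; simp
    | succ m ih =>
      intro hm i j h
      obtain ⟨⟨a, rfl⟩, ⟨b, rfl⟩⟩ := ih (by omega) i j h
      have hw : (x ^ a * y ^ b) ^ p ^ m = 1 := by
        rw [mul_pow, ← zpow_natCast (x ^ a), ← zpow_natCast (y ^ b), ← zpow_mul, ← zpow_mul,
          mul_comm a, mul_comm b, Nat.cast_pow]
        exact h
      obtain ⟨ha, hb⟩ := hkey a b (hmin m (by omega) _ hw)
      rw [pow_succ]
      exact ⟨mul_dvd_mul_left _ ha, mul_dvd_mul_left _ hb⟩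
  haveI : NeZero (p ^ k) := ⟨pow_ne_zero k hp.out.ne_zero⟩
  have hz : ∀ (u : H) (i : ℤ), u ^ i = u ^ ((i : ZMod (p ^ k))).val := fun u i => by
    rw [← zpow_natCast, ZMod.val_intCast, ← zpow_eq_zpow_emod' _ (hall u)]
  let ψ : Multiplicative (ZMod (p ^ k) × ZMod (p ^ k)) →* H := MonoidHom.mk'
    (fun v => x ^ (Multiplicative.toAdd v).1.val * y ^ (Multiplicative.toAdd v).2.val) fun a b => by
      show x ^ (_ + _ : ZMod (p ^ k)).val * y ^ (_ + _ : ZMod (p ^ k)).val = _
      rw [ZMod.val_add, ← pow_eq_pow_mod _ (hall x), ZMod.val_add, ← pow_eq_pow_mod _ (hall y), pow_add,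
        pow_add]
      exact mul_mul_mul_comm _ _ _ _
  have hψs : Function.Surjective ψ := fun w => by
    obtain ⟨i, j, rfl⟩ := hsurj w
    refine ⟨Multiplicative.ofAdd ((i : ZMod (p ^ k)), (j : ZMod (p ^ k))), ?_⟩
    show x ^ (i : ZMod (p ^ k)).val * y ^ (j : ZMod (p ^ k)).val = _
    rw [← hz, ← hz]
  have hψi : Function.Injective ψ := by
    rw [injective_iff_map_eq_one]
    intro v hv
    have h1 := hker k le_rfl _ _ (show x ^ (((Multiplicative.toAdd v).1.val : ℕ) : ℤ) *
      y ^ (((Multiplicative.toAdd v).2.val : ℕ) : ℤ) = 1 by rw [zpow_natCast, zpow_natCast]; exact hv)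
    have h0 : ∀ a : ZMod (p ^ k), ((p : ℤ) ^ k ∣ (a.val : ℤ)) → a = 0 := fun a ha => by
      rw [← Nat.cast_pow, Int.natCast_dvd_natCast] at ha
      exact (ZMod.val_eq_zero a).1 (Nat.eq_zero_of_dvd_of_lt ha (ZMod.val_lt a))
    exact Multiplicative.toAdd.injective (Prod.ext (h0 _ h1.1) (h0 _ h1.2))
  let e := MulEquiv.ofBijective ψ ⟨hψi, hψs⟩
  refine ⟨k, hk1, ?_, ⟨e.symm⟩, hall, fun he => ?_, fun h5 hcore => ?_⟩
  · rw [← Nat.card_congr e.toEquiv, Nat.card_congr Multiplicative.toAdd, Nat.card_prod, Nat.card_zmod, sq]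
  · by_contra hne1
    exact hx (hmin 1 (by omega) x (by rw [pow_one]; exact he x))
  by_contra hexpne
  have hk2 : 2 ≤ k := by
    by_contra h
    refine hexpne fun w => ?_
    have := hall w
    rwa [show k = 1 by omega, pow_one] at this
  haveI := finite_mulAut (G := H)
  have hinj : ((frattiniQuot H).comp A.subtype).ker = ⊥ :=
    hcore _ inferInstance (isPGroup_ker hH A)
  obtain ⟨a, ha, ha1⟩ := exists_ne_one_mem P P' hne
  have hV : Nat.card (H ⧸ frattini H) = p ^ 2 := by rw [← Subgroup.index_eq_card, hi]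
  obtain ⟨e', he', hfix⟩ := exists_fixed_line (p := p) hV
    ((P : Subgroup A).map ((frattiniQuot H).comp A.subtype)) (P.isPGroup'.map _)
  obtain ⟨m, hm⟩ := P.isPGroup' ⟨a, ha⟩
  let ā := frattiniQuot H (a : MulAut H)
  have hfa : ā e' = e' := hfix _ ⟨a, ha, rfl⟩
  have htr := transvection_of_pGroup (t := ā) hV (quot_pow hH) he' (hfix _ ⟨a, ha, rfl⟩)
    ⟨m, by
      rw [← map_pow, show (a : MulAut H) ^ p ^ m = 1 from
        congrArg (fun u : (P : Subgroup A) => ((u : A) : MulAut H)) hm, map_one]⟩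
  have hap : a ^ p = 1 := by
    have hāp : ā ^ p = 1 := by
      refine MulEquiv.ext fun v => ?_
      obtain ⟨i, hi'⟩ := mem_zpowers_iff.1 (htr v)
      have hpow : ∀ n : ℕ, (ā ^ n) v = v * (e' ^ i) ^ n := by
        intro n
        induction n with
        | zero => simp
        | succ n ih =>
          rw [pow_succ', MulAut.mul_apply, ih, map_mul, map_pow, map_zpow, hfa,
            pow_succ', ← mul_assoc]
          congr 1
          rw [hi', mul_inv_cancel_left]
      rw [hpow, quot_pow hH, mul_one]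
      rfl
    exact (Subgroup.eq_bot_iff_forall _).1 hinj _
      (show frattiniQuot H ((a ^ p : A) : MulAut H) = 1 by rw [SubmonoidClass.coe_pow, map_pow]; exact hāp)
  -- the endomorphism `z ↦ a z / z`
  let aE : AddMonoid.End (Additive H) := MonoidHom.toAdditive (a : MulAut H).toMonoidHom
  let n : AddMonoid.End (Additive H) := aE - 1
  have hn : ∀ z : H, n (Additive.ofMul z) = Additive.ofMul ((a : MulAut H) z / z) := fun z => rfl
  have haE : ∀ (j : ℕ) (z : H), (aE ^ j) (Additive.ofMul z) = Additive.ofMul (((a : MulAut H) ^ j) z) := by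
    intro j
    induction j with
    | zero => intro z; rfl
    | succ j ih =>
      intro z
      rw [pow_succ', pow_succ', AddMonoid.End.coe_mul, Function.comp_apply, ih]
      rfl
  have h1n : (1 + n) ^ p = 1 := by
    rw [show 1 + n = aE from add_sub_cancel _ _]
    refine AddMonoidHom.ext fun z => ?_
    obtain ⟨z, rfl⟩ := Additive.ofMul.surjective z
    refine (haE p z).trans ?_
    rw [show (a : MulAut H) ^ p = 1 from congrArg Subtype.val hap]
    rfl
  have h2n : ∀ z, ∃ w, n (n z) = p • w := by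
    intro z
    obtain ⟨z, rfl⟩ := Additive.ofMul.surjective z
    rw [hn, hn]
    have hmem : (a : MulAut H) ((a : MulAut H) z / z) / ((a : MulAut H) z / z) ∈ frattini H := by
      rw [← QuotientGroup.eq_one_iff, QuotientGroup.mk_div, div_eq_one]
      obtain ⟨i, hi'⟩ := mem_zpowers_iff.1 (htr (QuotientGroup.mk z))
      rw [div_eq_inv_mul _ z, QuotientGroup.mk_mul, ← frattiniQuot_mk, QuotientGroup.mk_mul,
        QuotientGroup.mk_inv, ← frattiniQuot_mk, ← hi']
      exact (map_zpow ā e' i).trans (by rw [hfa])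
    obtain ⟨u, hu⟩ := hdiv _ hmem
    exact ⟨Additive.ofMul u, by rw [hu]; rfl⟩
  refine ha1 ((Subgroup.eq_bot_iff_forall _).1 hinj _ ?_)
  show frattiniQuot H (a : MulAut H) = 1
  refine MulEquiv.ext fun v => ?_
  obtain ⟨z, rfl⟩ := QuotientGroup.mk_surjective v
  obtain ⟨u, hu⟩ := unipotent_aux h5 n h1n h2n (Additive.ofMul z)
  obtain ⟨u, rfl⟩ := Additive.ofMul.surjective u
  have hu' : ((a : MulAut H) z / z) ^ p = u ^ p ^ 2 := hu
  have hΦ : (a : MulAut H) z / z ∈ frattini H := by
    have hw : ((a : MulAut H) z / z / u ^ p) ^ p ^ 1 = 1 := by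
      rw [pow_one, div_pow, hu', ← pow_mul, sq, div_self']
    have := mul_mem (hmin 1 (by omega) _ hw) (PGroups.pow_mem_frattini hH u)
    rwa [div_mul_cancel] at this
  rw [frattiniQuot_mk, MulAut.one_apply, QuotientGroup.eq]
  have := inv_mem hΦ
  rwa [inv_div, div_eq_inv_mul] at this

end Comm

end Cfsg.Agent.H49
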