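import Cfsg.Agent.H49.SectionFreeFactor
import Cfsg.Agent.H48.SylowIn
import Mathlib

/-!
Factor systems of saturated systems are saturated.
-/

set_option autoImplicit false
set_option linter.unusedSectionVars false
set_option linter.style.haveILetI false

namespace Cfsg.Agent.H49

open Cfsg Cfsg.FusionSystem Cfsg.Agent.FusionSys
open Cfsg.Agent.H89 (mem_preimageAlong preimageAlong_le ker_le_preimageAlong preimageAlong_imageAlong
  mem_imageAlong)

universe u u'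

variable {Ω : Type u} [Group Ω] {S : Subgroup Ω} [Finite S] {p : ℕ} [hp : Fact p.Prime]
  {F : FusionSystem S} {Ω' : Type u'} [Group Ω'] {S' : Subgroup Ω'} {θ : S →* Ω'}
  {E : FusionSystem S'} {Q : Subgroup Ω}

/-- An isomorphism of the factor system lifts to the preimages. -/
theorem exists_iso_lift (hE : F.IsFactorSystem Q θ E) (hQ : F.StronglyClosed Q) {A B : Subgroup Ω'}
    {f' : Ω' → Ω'} (h : IsIso E A B f') :
    ∃ g, IsIso F (preimageAlong θ A) (preimageAlong θ B) g ∧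
      ∀ x : S, θ x ∈ A → ∃ hg : g x ∈ S, θ ⟨g x, hg⟩ = f' (θ x) := by
  obtain ⟨hA, g, hg, hgθ⟩ := factor_map hE h.isMap
  refine ⟨g, ⟨hg, ?_⟩, hgθ⟩
  have hQA : Q ≤ preimageAlong θ A := ker_le_preimageAlong hE.2.1 hQ.1 A
  haveI : Finite Q := finite_of_le hQ.1
  have hgQ : g '' (Q : Set Ω) = Q := (hg.mono hQA).image_eq_of_mapsTo fun x hx =>
    (stronglyClosed_iff.1 hQ).2 Q g le_rfl (hg.mono hQA) x hx
  ext y
  constructor
  · rintro ⟨x, hx, rfl⟩
    obtain ⟨hxS, hx'⟩ := mem_preimageAlong.1 hx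
    obtain ⟨hgS, he⟩ := hgθ ⟨x, hxS⟩ hx'
    exact mem_preimageAlong.2 ⟨hgS, he ▸ h.mem hx'⟩
  · intro hy
    obtain ⟨hyS, hy'⟩ := mem_preimageAlong.1 hy
    obtain ⟨a, ha, hay⟩ := h.exists_preimage hy'
    obtain ⟨s, rfl⟩ := hE.2.2.1.ge (hA ha)
    obtain ⟨hgS, he⟩ := hgθ s ha
    have hker : θ (⟨g s, hgS⟩⁻¹ * ⟨y, hyS⟩) = 1 := by
      rw [map_mul, map_inv, he, ← hay, inv_mul_cancel]
    have hq : (g s)⁻¹ * y ∈ Q := (hE.2.1 _).1 hker
    obtain ⟨r, hr, hre⟩ := hgQ.ge hq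
    have hs : (s : Ω) ∈ preimageAlong θ A := mem_preimageAlong.2 ⟨s.2, ha⟩
    refine ⟨(s : Ω) * r, mul_mem hs (hQA hr), ?_⟩
    rw [hg.map_mul hs (hQA hr), hre, mul_inv_cancel_left]

theorem preimage_isFullyNormalized (hE : F.IsFactorSystem Q θ E) (hQ : F.StronglyClosed Q)
    {P' : Subgroup Ω'} (hP' : E.IsFullyNormalized P') :
    F.IsFullyNormalized (preimageAlong θ P') := by
  have hrange := hE.2.2.1
  refine ⟨preimageAlong_le θ P', fun R hR => ?_⟩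
  obtain ⟨f, hf⟩ := isConj_iff.1 hR
  have hQP : Q ≤ preimageAlong θ P' := ker_le_preimageAlong hE.2.1 hQ.1 P'
  haveI : Finite Q := finite_of_le hQ.1
  have hfQ : f '' (Q : Set Ω) = Q := (hf.isMap.mono hQP).image_eq_of_mapsTo fun x hx =>
    (stronglyClosed_iff.1 hQ).2 Q f le_rfl (hf.isMap.mono hQP) x hx
  have hQR : Q ≤ R := fun x hx => by
    obtain ⟨y, hy, rfl⟩ := hfQ.ge hx
    exact hf.mem (hQP hy)
  have h1 : preimageAlong θ (imageAlong θ R) = R := by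
    rw [preimageAlong_imageAlong hE.2.1 hQ.1 hf.target_le, sup_eq_left.2 hQR]
  obtain ⟨φ, hφ, hφf⟩ := hf.isMap
  obtain ⟨φ', hφ'⟩ := H89.exists_induced hE.2.1 hQ (hP'.1.trans hrange.ge) hφ
  have hconj : E.IsConj P' (imageAlong θ R) := by
    refine isConj_iff.2 ⟨homFun φ', isMap_of_mem ((hE.2.2.2 P' φ').2 ⟨hP'.1, φ, hφ, hφ'⟩), ?_⟩
    obtain ⟨hPS, hv, hP, hi⟩ := hφ'
    ext y
    constructor
    · rintro ⟨z, hz, rfl⟩
      obtain ⟨s, rfl⟩ := (hP'.1.trans hrange.ge) hz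
      have hs : (s : Ω) ∈ preimageAlong θ P' := mem_preimageAlong.2 ⟨s.2, hz⟩
      refine mem_imageAlong.2 ⟨⟨φ ⟨s, hs⟩, hv _⟩,
        (by show φ ⟨s, hs⟩ ∈ R; rw [hφf ⟨s, hs⟩]; exact hf.mem hs), ?_⟩
      rw [homFun_mem φ' hz]
      exact (hi ⟨s, hs⟩).symm
    · intro hy
      obtain ⟨x, hx, rfl⟩ := mem_imageAlong.1 hy
      obtain ⟨r, hr, hre⟩ := hf.exists_preimage hx
      refine ⟨θ ⟨r, hPS hr⟩, hP ⟨r, hr⟩, ?_⟩
      rw [homFun_mem φ' (hP ⟨r, hr⟩), hi ⟨r, hr⟩]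
      exact congrArg θ (Subtype.ext ((hφf ⟨r, hr⟩).trans hre))
  have hNpre : ∀ {Z : Subgroup Ω'}, Z ≤ S' →
      normalizerIn S (preimageAlong θ Z) = preimageAlong θ (normalizerIn S' Z) := fun {Z} hZ =>
    le_antisymm (fun x hx => mem_preimageAlong.2 ⟨hx.1,
      (mem_normalizerIn_preimage hrange hZ ⟨x, hx.1⟩).1 hx⟩)
      fun x hx => (mem_normalizerIn_preimage hrange hZ ⟨x, preimageAlong_le θ _ hx⟩).2
        (mem_preimageAlong.1 hx).2
  have hle : imageAlong θ R ≤ S' := le_of_isConj_right hconj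
  rw [← h1, hNpre hle, hNpre hP'.1, card_preimageAlong (normalizerIn_le.trans hrange.ge),
    card_preimageAlong (normalizerIn_le.trans hrange.ge)]
  exact Nat.mul_le_mul_left _ (hP'.2 _ hconj)

theorem isSaturated_factor (hS : IsPGroup p S) (hF : F.IsSaturated p) (hQ : F.StronglyClosed Q)
    (hE : F.IsFactorSystem Q θ E) : E.IsSaturated p := by
  have hrange := hE.2.2.1
  haveI : Finite S' := hrange ▸ Finite.of_surjective _ θ.rangeRestrict_surjective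
  have hS' : IsPGroup p S' := hrange ▸ hS.of_surjective _ θ.rangeRestrict_surjective
  intro P₀ hP₀
  obtain ⟨P', hconj, hP'⟩ := exists_isFullyNormalized E hP₀
  refine ⟨P', hconj, ?_⟩
  set P := preimageAlong θ P' with hPdef
  have hPS : P ≤ S := preimageAlong_le θ P'
  have hQP : Q ≤ P := ker_le_preimageAlong hE.2.1 hQ.1 P'
  haveI : Finite Q := finite_of_le hQ.1
  haveI := finite_of_le hPS
  haveI := finite_of_le hP'.1
  haveI := finite_mulAut_of_le (S := S) hPS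
  have hPn : F.IsFullyNormalized P := preimage_isFullyNormalized hE hQ hP'
  have hrec := receptive_of_isFullyNormalized hS hF hPn
  have hA := (isFullyAutomized_iff hS).1 (isFullyAutomized_of_isFullyNormalized hS hF hPn)
  have hmemP : ∀ x : S, θ x ∈ P' → (x : Ω) ∈ P := fun x hx => mem_preimageAlong.2 ⟨x.2, hx⟩
  refine ⟨?_, ?_⟩
  · -- automizers
    refine (isFullyAutomized_iff hS').2 ⟨hP'.1, ?_⟩
    have hex : ∀ α : F.autGroup P, ∃ β : MulAut P', β ∈ E.autGroup P' ∧ ∀ (x : S) (_ : θ x ∈ P'),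
        ∃ h : autMap (α : MulAut P) x ∈ S, autMap β (θ x) = θ ⟨autMap (α : MulAut P) x, h⟩ := by
      intro α
      have hα := (isIso_autMap hPS α.2).isMap
      obtain ⟨φ, hφ, hφe⟩ := hα
      obtain ⟨φ', hφ'⟩ := H89.exists_induced hE.2.1 hQ (hP'.1.trans hrange.ge) hφ
      have hmap : IsMap E P' (homFun φ') := isMap_of_mem ((hE.2.2.2 P' φ').2 ⟨hP'.1, φ, hφ, hφ'⟩)
      obtain ⟨hle, hv, hm, hi⟩ := hφ'
      have himg : homFun φ' '' (P' : Set Ω') = P' := hmap.image_eq_of_mapsTo fun y hy => by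
        obtain ⟨s, rfl⟩ := hrange.ge (hP'.1 hy)
        rw [show homFun φ' (θ s) = φ' ⟨θ s, hy⟩ from homFun_mem φ' hy,
          hi ⟨s, hmemP s hy⟩]
        exact (mem_preimageAlong.1 (show φ ⟨s, hmemP s hy⟩ ∈ P from
          (hφe ⟨s, hmemP s hy⟩).symm ▸ autMap_mem _ (hmemP s hy))).2
      obtain ⟨β, hβ, hβe⟩ := (IsIso.mk hmap himg).exists_aut
      refine ⟨β, hβ, fun x hx => ⟨hPS (autMap_mem _ (hmemP x hx)), ?_⟩⟩
      rw [hβe _ hx, show homFun φ' (θ x) = φ' ⟨θ x, hx⟩ from homFun_mem φ' hx, hi ⟨x, hmemP x hx⟩]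
      exact congrArg θ (Subtype.ext (hφe ⟨x, hmemP x hx⟩))
    choose ρ hρ hρv using hex
    have hρmul : ∀ a b, ρ (a * b) = ρ a * ρ b := fun a b => aut_ext fun y hy => by
      obtain ⟨s, rfl⟩ := hrange.ge (hP'.1 hy)
      obtain ⟨h1, e1⟩ := hρv (a * b) s hy
      obtain ⟨h2, e2⟩ := hρv b s hy
      obtain ⟨h3, e3⟩ := hρv a ⟨_, h2⟩ (e2 ▸ autMap_mem _ hy)
      rw [autMap_mul _ _ hy, e1, e2, e3]
      exact congrArg θ (Subtype.ext (autMap_mul _ _ (hmemP s hy)))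
    let ρ' : F.autGroup P →* E.autGroup P' := MonoidHom.mk' (fun α => ⟨ρ α, hρ α⟩) fun a b =>
      Subtype.ext (hρmul a b)
    have hsurj : Function.Surjective ρ' := by
      rintro ⟨β, hβ⟩
      obtain ⟨g, hg, hgθ⟩ := exists_iso_lift hE hQ (isIso_autMap hP'.1 hβ)
      obtain ⟨α, hα, hαe⟩ := hg.exists_aut
      refine ⟨⟨α, hα⟩, Subtype.ext (aut_ext fun y hy => ?_)⟩
      obtain ⟨s, rfl⟩ := hrange.ge (hP'.1 hy)
      obtain ⟨h1, e1⟩ := hρv ⟨α, hα⟩ s hy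
      obtain ⟨h2, e2⟩ := hgθ s hy
      show autMap (ρ ⟨α, hα⟩) (θ s) = _
      rw [e1, ← e2]
      exact congrArg θ (Subtype.ext (hαe _ (hmemP s hy)))
    have hle : ((autInducedBy S P).subgroupOf (F.autGroup P)).map ρ' ≤
        (autInducedBy S' P').subgroupOf (E.autGroup P') := by
      rintro _ ⟨α, hα, rfl⟩
      obtain ⟨x, hxS, hxn, hxe⟩ := mem_autInducedBy.1 (Subgroup.mem_subgroupOf.1 hα)
      have hxn' : θ ⟨x, hxS⟩ ∈ normalizerIn S' P' :=
        (mem_normalizerIn_preimage hrange hP'.1 ⟨x, hxS⟩).1 ⟨hxS, hxn⟩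
      refine Subgroup.mem_subgroupOf.2 (mem_autInducedBy.2 ⟨_, hxn'.1, hxn'.2, aut_ext fun y hy => ?_⟩)
      obtain ⟨s, rfl⟩ := hrange.ge (hP'.1 hy)
      obtain ⟨h1, e1⟩ := hρv α s hy
      show autMap (ρ α) (θ s) = _
      rw [autMap_conjAut hxn'.2 hy, e1, conjMap_apply, ← map_inv, ← map_mul, ← map_mul]
      refine congrArg θ (Subtype.ext ?_)
      show autMap (α : MulAut P) (s : Ω) = _
      rw [hxe, autMap_conjAut hxn (hmemP s hy)]
      rfl
    intro hd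
    exact hA.2 (hd.trans ((Subgroup.index_dvd_of_le hle).trans (Subgroup.index_map_dvd _ hsurj)))
  · -- receptivity
    refine receptive_of_extend hP'.1 fun A f' N hf' hAN hN => ?_
    obtain ⟨g, hg, hgθ⟩ := exists_iso_lift hE hQ hf'
    set A₀ := preimageAlong θ A with hA₀
    set M := preimageAlong θ N with hM
    have hN' : N ≤ normalizerIn S' A := fun x hx => ⟨((hN x).1 hx).1, ((hN x).1 hx).2.1⟩
    have hAS : A ≤ S' := hf'.source_le
    have hMn : M ≤ normalizerIn S A₀ := fun x hx => by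
      obtain ⟨hxS, hx'⟩ := mem_preimageAlong.1 hx
      exact (mem_normalizerIn_preimage hrange hAS ⟨x, hxS⟩).2 (hN' hx')
    haveI := finite_of_le hg.source_le
    -- automorphisms trivial modulo `Q`
    let K : Subgroup (MulAut P) :=
      { carrier := {χ | χ ∈ F.autGroup P ∧ ∀ x ∈ P, x⁻¹ * autMap χ x ∈ Q}
        one_mem' := ⟨one_mem _, fun x hx => by
          rw [show autMap (1 : MulAut P) x = x by rw [autMap_apply _ hx]; rfl, inv_mul_cancel]
          exact Q.one_mem⟩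
        mul_mem' := fun {a b} ha hb => ⟨mul_mem ha.1 hb.1, fun x hx => by
          rw [autMap_mul _ _ hx, show x⁻¹ * autMap a (autMap b x) =
            (x⁻¹ * autMap b x) * ((autMap b x)⁻¹ * autMap a (autMap b x)) by group]
          exact mul_mem (hb.2 x hx) (ha.2 _ (autMap_mem b hx))⟩
        inv_mem' := fun {a} ha => ⟨inv_mem ha.1, fun x hx => by
          have h1 := ha.2 _ (autMap_mem a⁻¹ hx)
          rw [autMap_inv_apply _ hx] at h1
          simpa using inv_mem h1⟩ }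
    have hKle : K ≤ F.autGroup P := fun χ hχ => hχ.1
    have hKn : ∀ a ∈ F.autGroup P, ∀ χ ∈ K, a * χ * a⁻¹ ∈ K := fun a ha χ hχ =>
      ⟨mul_mem (mul_mem ha hχ.1) (inv_mem ha), fun x hx => by
        have hy := autMap_mem a⁻¹ hx
        have hm := (isIso_autMap hPS ha).isMap
        rw [autMap_mul _ _ hx, autMap_mul _ _ hy]
        have hz := autMap_mem χ hy
        rw [show x⁻¹ * autMap a (autMap χ (autMap a⁻¹ x)) =
            autMap a ((autMap a⁻¹ x)⁻¹ * autMap χ (autMap a⁻¹ x)) by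
          rw [hm.map_mul (inv_mem hy) hz, hm.map_inv hy, autMap_inv_apply _ hx]]
        exact (stronglyClosed_iff.1 hQ).2 Q _ le_rfl (hm.mono hQP) _ (hχ.2 _ hy)⟩
    set AS := autInducedBy S P with hAS'
    have hASle : AS ≤ F.autGroup P := autInducedBy_le_autGroup F hPS
    set B := (autInducedBy S A₀ ⊓ autInducedBy M A₀).map hg.autEquiv.toMonoidHom with hB
    have hBle : B ≤ K ⊔ AS := by
      rintro _ ⟨a, ha, rfl⟩
      obtain ⟨x, hxM, hxn, rfl⟩ := mem_autInducedBy.1 ha.2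
      obtain ⟨hxS, hx'⟩ := mem_preimageAlong.1 hxM
      obtain ⟨-, -, k, hkS, hk⟩ := (hN _).1 hx'
      obtain ⟨s, rfl⟩ := hrange.ge hkS
      have hsn : (s : Ω) ∈ normalizerIn S P := by
        refine (mem_normalizerIn_preimage hrange hP'.1 s).2 ⟨hrange ▸ ⟨s, rfl⟩,
          mem_normalizer_of_maps fun z hz => ?_⟩
        obtain ⟨y, hy, rfl⟩ := hf'.exists_preimage hz
        rw [← hk y hy]
        exact hf'.mem ((Subgroup.mem_normalizer_iff.1 (hN' hx').2 y).1 hy)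
      have hb : hg.autEquiv (conjAut hxn) ∈ F.autGroup P := hg.autEquiv_mem_autGroup
        (conjAut_mem_autGroup F hg.source_le ⟨hxS, hxn⟩)
      have hc : conjAut hsn.2 ∈ AS := mem_autInducedBy.2 ⟨s, s.2, hsn.2, rfl⟩
      suffices hdiff : (conjAut hsn.2)⁻¹ * hg.autEquiv (conjAut hxn) ∈ K by
        have h2 := Subgroup.mul_mem _ (Subgroup.mem_sup_right (S := K) hc) (Subgroup.mem_sup_left hdiff)
        rwa [mul_inv_cancel_left] at h2
      refine ⟨mul_mem (inv_mem (hASle hc)) hb, fun z hz => ?_⟩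
      obtain ⟨y, hy, rfl⟩ := hg.exists_preimage hz
      obtain ⟨hyS, hy'⟩ := mem_preimageAlong.1 hy
      rw [autMap_mul _ _ (hg.mem hy), hg.autMap_autEquiv _ hy, autMap_conjAut hxn hy]
      set u := g (conjMap x y) with hu
      have hxy : conjMap x y ∈ A₀ := (Subgroup.mem_normalizer_iff.1 hxn y).1 hy
      have hw := autMap_inv_apply (conjAut hsn.2) (hg.mem hxy)
      rw [autMap_conjAut hsn.2 (autMap_mem _ (hg.mem hxy)), conjMap_apply] at hw
      rw [show autMap (conjAut hsn.2)⁻¹ u = (s : Ω)⁻¹ * u * s by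
        rw [← hu] at hw
        calc autMap (conjAut hsn.2)⁻¹ u
            = (s : Ω)⁻¹ * ((s : Ω) * autMap (conjAut hsn.2)⁻¹ u * (s : Ω)⁻¹) * s := by group
          _ = _ := by rw [hw]]
      obtain ⟨h1, e1⟩ := hgθ ⟨y, hyS⟩ hy'
      obtain ⟨h2, e2⟩ := hgθ (⟨x, hxS⟩ * ⟨y, hyS⟩ * ⟨x, hxS⟩⁻¹)
        (mem_preimageAlong.1 hxy).2
      have e3 : θ ⟨u, h2⟩ = θ s * f' (θ ⟨y, hyS⟩) * (θ s)⁻¹ := by
        refine e2.trans ?_
        rw [map_mul, map_mul, map_inv]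
        exact hk _ hy'
      refine (hE.2.1 (⟨g y, h1⟩⁻¹ * (s⁻¹ * ⟨u, h2⟩ * s))).1 ?_
      simp only [map_mul, map_inv, e1, e3]
      group
    have hBp : IsPGroup p B := ((isPGroup_autInducedBy hS A₀).to_le inf_le_left).map _
    have hsyl : H48.IsSylowIn p AS (K ⊔ AS) := ⟨le_sup_right, isPGroup_autInducedBy hS P, fun hd =>
      hA.2 (hd.trans (Dvd.intro _ (Subgroup.relIndex_mul_relIndex _ _ _ le_sup_right
        (sup_le hKle hASle))))⟩
    obtain ⟨m, hm, hmB⟩ := hsyl.exists_cj_le hBp hBle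
    have hnorm : AS ≤ Subgroup.normalizer (K : Set (MulAut P)) := fun a ha =>
      Subgroup.mem_normalizer_iff.2 fun χ => ⟨hKn a (hASle ha) χ, fun h => by
        simpa [mul_assoc] using hKn a⁻¹ (inv_mem (hASle ha)) _ h⟩
    have hm' : m ∈ ((K ⊔ AS : Subgroup (MulAut P)) : Set (MulAut P)) := hm
    rw [Subgroup.coe_mul_of_right_le_normalizer_left K AS hnorm] at hm'
    obtain ⟨k₀, hk₀, a₀, ha₀, rfl⟩ := hm'
    set χ := a₀⁻¹ * k₀ * a₀ with hχ
    have hχK : χ ∈ K := by simpa [hχ] using hKn a₀⁻¹ (inv_mem (hASle ha₀)) k₀ hk₀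
    have hχB : ∀ b ∈ B, χ * b * χ⁻¹ ∈ AS := fun b hb => by
      have h1 : k₀ * a₀ * b * (k₀ * a₀)⁻¹ ∈ AS := hmB ⟨b, hb, rfl⟩
      have := mul_mem (mul_mem (inv_mem ha₀) h1) ha₀
      convert this using 1
      rw [hχ]
      group
    have hiso : IsIso F A₀ P (autMap χ ∘ g) := hg.comp (isIso_autMap hPS hχK.1)
    have hInExt : ∀ x ∈ M, InExt S A₀ (autMap χ ∘ g) x := fun x hx => by
      have hxn := hMn hx
      obtain ⟨k, hkS, hkn, hk⟩ := mem_autInducedBy.1 (hχB _ ⟨conjAut hxn.2,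
        ⟨mem_autInducedBy.2 ⟨x, hxn.1, hxn.2, rfl⟩, mem_autInducedBy.2 ⟨x, hx, hxn.2, rfl⟩⟩, rfl⟩)
      refine ⟨hxn.1, hxn.2, k, hkS, fun y hy => ?_⟩
      have h2 := congrArg (fun a : MulAut P => autMap a (autMap χ (g y))) hk
      rw [autMap_conjAut hkn (autMap_mem _ (hg.mem hy)), autMap_mul _ _ (autMap_mem _ (hg.mem hy)),
        ← autMap_mul _ _ (hg.mem hy), inv_mul_cancel,
        show autMap (1 : MulAut P) (g y) = g y by rw [autMap_apply _ (hg.mem hy)]; rfl,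
        autMap_mul _ _ (hg.mem hy)] at h2
      show autMap χ (g (x * y * x⁻¹)) = k * autMap χ (g y) * k⁻¹
      rw [show x * y * x⁻¹ = autMap (conjAut hxn.2) y from (autMap_conjAut hxn.2 hy).symm,
        ← hg.autMap_autEquiv _ hy]
      exact h2
    obtain ⟨G, hG, hGe⟩ := receptive_extend hrec hiso hInExt
    have hNS : N ≤ S' := fun x hx => ((hN x).1 hx).1
    obtain ⟨ψ, hψ, hψe⟩ := hG.mono (le_sup_left : M ≤ M ⊔ A₀)
    obtain ⟨ψ', hψ'⟩ := H89.exists_induced hE.2.1 hQ (hNS.trans hrange.ge) hψ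
    refine ⟨homFun ψ', isMap_of_mem ((hE.2.2.2 N ψ').2 ⟨hNS, ψ, hψ, hψ'⟩), fun y hy => ?_⟩
    obtain ⟨hle, hv, hmem, hi⟩ := hψ'
    obtain ⟨s, rfl⟩ := hrange.ge (hAS hy)
    have hsA : (s : Ω) ∈ A₀ := mem_preimageAlong.2 ⟨s.2, hy⟩
    have hsM : (s : Ω) ∈ M := mem_preimageAlong.2 ⟨s.2, hAN hy⟩
    rw [show homFun ψ' (θ s) = ψ' ⟨θ s, hAN hy⟩ from homFun_mem ψ' (hAN hy), hi ⟨s, hsM⟩]
    obtain ⟨h1, e1⟩ := hgθ s hy
    rw [← e1]
    have h3 : ψ ⟨s, hsM⟩ = autMap χ (g s) := (hψe ⟨s, hsM⟩).trans (hGe _ hsA)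
    have h4 := hχK.2 _ (hg.mem hsA)
    have h5 : θ (⟨g s, h1⟩⁻¹ * ⟨ψ ⟨s, hsM⟩, hv _⟩) = 1 := (hE.2.1 _).2 (by
      show (g s)⁻¹ * ψ ⟨s, hsM⟩ ∈ Q
      rw [h3]
      exact h4)
    rw [map_mul, map_inv, inv_mul_eq_one] at h5
    exact h5.symm

end Cfsg.Agent.H49
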