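import Cfsg.Prelude.Def_ConjugacyFunctors
import Cfsg.Agent.PGroups.Basic

/-!
The K-sequence of a finite `p`-group (Def_ConjugacyFunctors): monotonicity, stabilisation,
self-centralizing maximal members, normal abelian subgroups, restriction to a subgroup containing
all terms, behaviour under injective homomorphisms.
-/

set_option autoImplicit false
set_option linter.style.haveILetI false

namespace Cfsg.Agent.H49

open Subgroup
open scoped commutatorElement

variable {P : Type*} [Group P]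

/-- The centre of a subgroup, inside the ambient group. -/
def zc (B : Subgroup P) : Subgroup P := B ⊓ centralizer (B : Set P)

theorem zc_le (B : Subgroup P) : zc B ≤ B := inf_le_left

theorem commutator_zc (B : Subgroup P) : ⁅zc B, B⁆ = ⊥ :=
  commutator_eq_bot_iff_le_centralizer.mpr inf_le_right

theorem zc_comm {B : Subgroup P} {z b : P} (hz : z ∈ zc B) (hb : b ∈ B) : b * z = z * b :=
  mem_centralizer_iff.mp hz.2 b hb

theorem mem_zc {B : Subgroup P} {z : P} : z ∈ zc B ↔ z ∈ B ∧ ∀ b ∈ B, b * z = z * b :=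
  Iff.rfl.trans (and_congr Iff.rfl mem_centralizer_iff)

theorem derived_le_zc {B : Subgroup P} (h : B ∈ classTwoSubgroups P) : ⁅B, B⁆ ≤ zc B :=
  le_inf B.commutator_le_self h

theorem le_normalizer_zc (B : Subgroup P) : B ≤ normalizer (zc B : Set P) := by
  refine le_normalizer_iff_commutator_le_right.mpr ?_
  rw [commutator_comm, commutator_zc]; exact bot_le

theorem normalizer_le_normalizer_centralizer' (B : Subgroup P) :
    normalizer (B : Set P) ≤ normalizer (centralizer (B : Set P) : Set P) := by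
  refine le_normalizer_iff.mpr fun g hg c hc => ?_
  refine mem_centralizer_iff.mpr fun b hb => ?_
  have hb' : g⁻¹ * b * g ∈ B := (mem_normalizer_iff''.mp hg b).mp hb
  have := mem_centralizer_iff.mp hc _ hb'
  calc b * (g * c * g⁻¹) = g * (g⁻¹ * b * g * c) * g⁻¹ := by group
    _ = g * (c * (g⁻¹ * b * g)) * g⁻¹ := by rw [this]
    _ = g * c * g⁻¹ * b := by group

theorem mem_classTwo {B : Subgroup P} : B ∈ classTwoSubgroups P ↔ ⁅B, B⁆ ≤ centralizer (B : Set P) :=
  Iff.rfl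

theorem classTwo_of_comm {B : Subgroup P} (h : ⁅B, B⁆ = ⊥) : B ∈ classTwoSubgroups P := by
  rw [mem_classTwo, h]; exact bot_le

/-- If `⁅B, Q⁆ ≤ B` then `Q` normalizes `B`. -/
theorem le_normalizer_of_commutator_le {B Q : Subgroup P} (h : ⁅B, Q⁆ ≤ B) :
    Q ≤ normalizer (B : Set P) :=
  le_normalizer_iff_commutator_le_right.mpr (by rwa [commutator_comm Q B])

theorem commutator_le_of_le_normalizer {B Q : Subgroup P} (h : Q ≤ normalizer (B : Set P)) :
    ⁅B, Q⁆ ≤ B := by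
  rw [commutator_comm B Q]; exact le_normalizer_iff_commutator_le_right.mp h

theorem kUpperStar_mem {B Q : Subgroup P} :
    B ∈ kUpperStarFamily Q ↔ B ∈ classTwoSubgroups P ∧ ⁅B, Q⁆ ≤ zc B := Iff.rfl

theorem kLowerStar_mem {B Q : Subgroup P} :
    B ∈ kLowerStarFamily Q ↔ B ∈ classTwoSubgroups P ∧ Q ≤ normalizer (B : Set P) ∧
      ∀ A ∈ classTwoSubgroups P, A ≤ Q → B ≤ normalizer (A : Set P) → ⁅B, ⁅A, A⁆⁆ = ⊥ →
        ⁅⁅zc B, A⁆, A⁆ = ⊥ → ⁅B, A⁆ ≤ zc B := Iff.rfl

theorem kUpperStar_anti {Q Q' : Subgroup P} (h : Q' ≤ Q) :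
    kUpperStarFamily Q ⊆ kUpperStarFamily Q' :=
  fun _ hB => ⟨hB.1, (commutator_mono le_rfl h).trans hB.2⟩

theorem kLowerStar_anti {Q Q' : Subgroup P} (h : Q' ≤ Q) :
    kLowerStarFamily Q ⊆ kLowerStarFamily Q' :=
  fun _ hB => ⟨hB.1, h.trans hB.2.1, fun A hA hAQ => hB.2.2 A hA (hAQ.trans h)⟩

theorem kSeqEven_def (n : ℕ) : kSeqEven P n = sSup (kLowerStarFamily (kSeqOdd P n)) := rfl

theorem kSeqOdd_zero : kSeqOdd P 0 = ⊤ := rfl

theorem kSeqOdd_succ (n : ℕ) : kSeqOdd P (n + 1) = sSup (kUpperStarFamily (kSeqEven P n)) := rfl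

theorem kSeqOdd_succ_le : ∀ n : ℕ, kSeqOdd P (n + 1) ≤ kSeqOdd P n
  | 0 => le_top
  | n + 1 => by
      rw [kSeqOdd_succ, kSeqOdd_succ n, kSeqEven_def, kSeqEven_def]
      exact sSup_le_sSup (kUpperStar_anti (sSup_le_sSup (kLowerStar_anti (kSeqOdd_succ_le n))))

theorem kSeqEven_le_succ (n : ℕ) : kSeqEven P n ≤ kSeqEven P (n + 1) :=
  sSup_le_sSup (kLowerStar_anti (kSeqOdd_succ_le n))

theorem kSeqOdd_antitone : Antitone (kSeqOdd P) := antitone_nat_of_succ_le kSeqOdd_succ_le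

theorem kSeqEven_monotone : Monotone (kSeqEven P) := monotone_nat_of_le_succ kSeqEven_le_succ

theorem exists_stable [Finite P] : ∃ n : ℕ, ∀ m : ℕ, n ≤ m →
    kSeqEven P m = kInfLower P ∧ kSeqOdd P m = kInfUpper P := by
  obtain ⟨a, ha⟩ := WellFoundedGT.monotone_chain_condition ⟨kSeqEven P, kSeqEven_monotone⟩
  obtain ⟨b, hb⟩ := WellFoundedLT.antitone_chain_condition (kSeqOdd_antitone (P := P))
  refine ⟨max a b, fun m hm => ⟨le_antisymm (le_iSup (kSeqEven P) m) (iSup_le fun k => ?_),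
    le_antisymm (le_iInf fun k => ?_) (iInf_le (kSeqOdd P) m)⟩⟩
  · calc kSeqEven P k ≤ kSeqEven P (max k m) := kSeqEven_monotone (le_max_left _ _)
      _ = kSeqEven P a := (ha _ ((le_max_left a b).trans (hm.trans (le_max_right _ _)))).symm
      _ = kSeqEven P m := ha _ ((le_max_left a b).trans hm)
  · calc kSeqOdd P m = kSeqOdd P b := (hb _ ((le_max_right a b).trans hm)).symm
      _ = kSeqOdd P (max k m) := hb _ ((le_max_right a b).trans (hm.trans (le_max_right _ _)))
      _ ≤ kSeqOdd P k := kSeqOdd_antitone (le_max_left _ _)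

/-! ### Adjoining an element -/

theorem mem_sup_zpowers {B : Subgroup P} {x : P} (hx : ∀ b ∈ B, b * x = x * b) {y : P}
    (hy : y ∈ B ⊔ zpowers x) : ∃ b ∈ B, ∃ k : ℤ, y = b * x ^ k := by
  have hn : zpowers x ≤ normalizer (B : Set P) := by
    refine (zpowers_le.mpr ?_).trans (centralizer_le_normalizer _)
    exact mem_centralizer_iff.mpr hx
  have hy' : y ∈ ((B ⊔ zpowers x : Subgroup P) : Set P) := hy
  rw [Subgroup.coe_mul_of_right_le_normalizer_left B (zpowers x) hn] at hy'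
  obtain ⟨b, hb, c, hc, rfl⟩ := Set.mem_mul.mp hy'
  obtain ⟨k, rfl⟩ := mem_zpowers_iff.mp hc
  exact ⟨b, hb, k, rfl⟩

theorem commutator_sup_zpowers_self {B : Subgroup P} {x : P} (hx : ∀ b ∈ B, b * x = x * b) :
    ⁅B ⊔ zpowers x, B ⊔ zpowers x⁆ ≤ ⁅B, B⁆ := by
  refine commutator_le.mpr fun y hy z hz => ?_
  obtain ⟨b, hb, k, rfl⟩ := mem_sup_zpowers hx hy
  obtain ⟨c, hc, l, rfl⟩ := mem_sup_zpowers hx hz
  have h1 : Commute (x ^ k) c := Commute.zpow_left ((hx c hc).symm : Commute x c) k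
  have h2 : Commute (x ^ l) b := Commute.zpow_left ((hx b hb).symm : Commute x b) l
  have h3 : Commute (x ^ k) (x ^ l) := (Commute.refl x).zpow_zpow k l
  have : ⁅b * x ^ k, c * x ^ l⁆ = ⁅b, c⁆ := by
    rw [commutatorElement_mul_left_eq_conj_mul, commutatorElement_mul_right_eq_mul_conj,
      commutatorElement_mul_right_eq_mul_conj]
    simp [h1.commutator_eq, h3.commutator_eq, h2.symm.commutator_eq]
  rw [this]
  exact commutator_mem_commutator hb hc

theorem zc_le_zc_sup {B : Subgroup P} {x : P} (hx : ∀ b ∈ B, b * x = x * b) :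
    zc B ≤ zc (B ⊔ zpowers x) := by
  intro z hz
  refine mem_zc.mpr ⟨mem_sup_left hz.1, fun y hy => ?_⟩
  obtain ⟨b, hb, k, rfl⟩ := mem_sup_zpowers hx hy
  have h1 : Commute (x ^ k) z := Commute.zpow_left ((hx z hz.1).symm : Commute x z) k
  exact (Commute.mul_left (zc_comm hz hb : Commute b z) h1).eq

theorem classTwo_sup {B : Subgroup P} {x : P} (hB : B ∈ classTwoSubgroups P)
    (hx : ∀ b ∈ B, b * x = x * b) : B ⊔ zpowers x ∈ classTwoSubgroups P :=
  ((commutator_sup_zpowers_self hx).trans (derived_le_zc hB)).trans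
    ((zc_le_zc_sup hx).trans inf_le_right)

/-- If `⁅x, q⁆ ∈ zc B` for all `q ∈ Q` and `⁅B, Q⁆ ≤ M` with `zc B ≤ M`, where `B` normalizes `M`,
then `⁅B ⊔ ⟨x⟩, Q⁆ ≤ M`. -/
theorem commutator_sup_zpowers_le {B Q M : Subgroup P} {x : P} (hx : ∀ b ∈ B, b * x = x * b)
    (hBQ : ⁅B, Q⁆ ≤ M) (hzM : zc B ≤ M) (hBM : B ≤ normalizer (M : Set P))
    (hxQ : ∀ q ∈ Q, ⁅x, q⁆ ∈ zc B) : ⁅B ⊔ zpowers x, Q⁆ ≤ M := by
  refine commutator_le.mpr fun y hy q hq => ?_
  obtain ⟨b, hb, k, rfl⟩ := mem_sup_zpowers hx hy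
  have hk : ⁅x ^ k, q⁆ ∈ zc B := by
    let S : Subgroup P :=
      { carrier := {y | y ∈ centralizer (B : Set P) ∧ ⁅y, q⁆ ∈ zc B ∧ ∀ w ∈ zc B, y * w = w * y}
        one_mem' := ⟨one_mem _, by simp, by simp⟩
        mul_mem' := by
          rintro a c ⟨ha1, ha2, ha3⟩ ⟨hc1, hc2, hc3⟩
          refine ⟨mul_mem ha1 hc1, ?_, fun w hw => ?_⟩
          · rw [commutatorElement_mul_left_eq_conj_mul, ha3 _ hc2, mul_inv_cancel_right]
            exact mul_mem hc2 ha2
          · rw [mul_assoc, hc3 w hw, ← mul_assoc, ha3 w hw, mul_assoc]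
        inv_mem' := by
          rintro a ⟨ha1, ha2, ha3⟩
          have ha4 : ∀ w ∈ zc B, a⁻¹ * w = w * a⁻¹ := fun w hw =>
            (Commute.inv_left (ha3 w hw : Commute a w)).eq
          refine ⟨inv_mem ha1, ?_, ha4⟩
          have h := inv_mem ha2
          rw [commutatorElement_inv] at h
          rwa [commutatorElement_inv_left, mul_assoc, ← ha3 _ h, inv_mul_cancel_left] }
    have : x ∈ S := ⟨mem_centralizer_iff.mpr hx, hxQ q hq,
      fun w hw => (hx w hw.1).symm⟩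
    exact (S.zpow_mem this k).2.1
  rw [commutatorElement_mul_left_eq_conj_mul]
  exact mul_mem ((mem_normalizer_iff.mp (hBM hb) _).mp (hzM hk))
    (hBQ (commutator_mem_commutator hb hq))

/-! ### Maximal members are self-centralizing -/

/-- In a finite `p`-group, a subgroup `Q` normalizing `N < M` fixes a nontrivial element of `M/N`
when `N` is normalized by `M`. -/
theorem exists_fixed_mod [Finite P] {p : ℕ} [Fact p.Prime] (hP : IsPGroup p P) {N M : Subgroup P}
    (hlt : N < M) (Q : Subgroup P) (hQN : Q ≤ normalizer (N : Set P))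
    (hQM : Q ≤ normalizer (M : Set P)) (hMN : M ≤ normalizer (N : Set P)) :
    ∃ x ∈ M, x ∉ N ∧ ∀ q ∈ Q, ⁅x, q⁆ ∈ N := by
  haveI : (M.subgroupOf (M ⊔ Q)).Normal :=
    normal_subgroupOf_of_le_normalizer (sup_le le_normalizer hQM)
  haveI : (N.subgroupOf (M ⊔ Q)).Normal :=
    normal_subgroupOf_of_le_normalizer (sup_le hMN hQN)
  have hlt' : N.subgroupOf (M ⊔ Q) < M.subgroupOf (M ⊔ Q) := by
    refine ⟨fun z hz => hlt.le hz, fun h => hlt.not_ge fun z hz => ?_⟩
    exact h (show (⟨z, mem_sup_left hz⟩ : ↥(M ⊔ Q)) ∈ M.subgroupOf (M ⊔ Q) from hz)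
  let f := QuotientGroup.mk' (N.subgroupOf (M ⊔ Q))
  haveI : ((M.subgroupOf (M ⊔ Q)).map f).Normal :=
    Subgroup.Normal.map ‹_› _ (QuotientGroup.mk'_surjective _)
  have hne : (M.subgroupOf (M ⊔ Q)).map f ≠ ⊥ := by
    intro h
    rw [Subgroup.map_eq_bot_iff, QuotientGroup.ker_mk'] at h
    exact hlt'.not_ge h
  obtain ⟨z, hz, hzc, ho⟩ :=
    PGroups.exists_mem_center_orderOf_eq (((hP.to_subgroup _).to_quotient _)) _ hne
  obtain ⟨⟨x, hxX⟩, hxM, rfl⟩ := hz
  refine ⟨x, hxM, fun hxN => ?_, fun q hq => ?_⟩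
  · have : f ⟨x, hxX⟩ = 1 := (QuotientGroup.eq_one_iff _).mpr hxN
    rw [this, orderOf_one] at ho
    exact (Fact.out : p.Prime).one_lt.ne ho
  · have := Subgroup.mem_center_iff.mp hzc (f ⟨q, mem_sup_right hq⟩)
    have h2 : f ⁅(⟨x, hxX⟩ : ↥(M ⊔ Q)), ⟨q, mem_sup_right hq⟩⁆ = 1 := by
      rw [map_commutatorElement]
      exact Commute.commutator_eq this.symm
    have h3 : ⁅(⟨x, hxX⟩ : ↥(M ⊔ Q)), ⟨q, mem_sup_right hq⟩⁆ ∈ N.subgroupOf (M ⊔ Q) :=
      (QuotientGroup.eq_one_iff _).mp h2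
    exact mem_subgroupOf.mp h3

theorem centralizer_le_of_maximal [Finite P] {p : ℕ} [Fact p.Prime] (hP : IsPGroup p P)
    (Q B : Subgroup P) (hQ : Q ≤ normalizer (B : Set P))
    (hstep : ∀ x ∈ centralizer (B : Set P), (∀ q ∈ Q, ⁅x, q⁆ ∈ zc B) → x ∈ B) :
    centralizer (B : Set P) ≤ B := by
  by_contra hne
  have hlt : zc B < centralizer (B : Set P) :=
    lt_of_le_of_ne inf_le_right fun h => hne (h ▸ zc_le B)
  have hQC : Q ≤ normalizer (centralizer (B : Set P) : Set P) :=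
    hQ.trans (normalizer_le_normalizer_centralizer' _)
  have hQZ : Q ≤ normalizer (zc B : Set P) :=
    (le_inf hQ hQC).trans inf_normalizer_le_normalizer_inf
  have hCZ : centralizer (B : Set P) ≤ normalizer (zc B : Set P) :=
    (le_inf (centralizer_le_normalizer _) le_normalizer).trans inf_normalizer_le_normalizer_inf
  obtain ⟨x, hxC, hxn, hx⟩ := exists_fixed_mod hP hlt Q hQZ hQC hCZ
  exact hxn ⟨hstep x hxC hx, hxC⟩

theorem kUpperStar_max_selfcent [Finite P] {p : ℕ} [Fact p.Prime] (hP : IsPGroup p P)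
    (Q B : Subgroup P) (hB : B ∈ kUpperStarFamily Q)
    (hmax : ∀ C ∈ kUpperStarFamily Q, B ≤ C → C = B) : centralizer (B : Set P) ≤ B := by
  refine centralizer_le_of_maximal hP Q B
    (le_normalizer_of_commutator_le (hB.2.trans (zc_le B))) fun x hxC hx => ?_
  have hxB : ∀ b ∈ B, b * x = x * b := mem_centralizer_iff.mp hxC
  have hmem : B ⊔ zpowers x ∈ kUpperStarFamily Q := by
    refine ⟨classTwo_sup hB.1 hxB, ?_⟩
    refine le_trans ?_ (zc_le_zc_sup hxB)
    exact commutator_sup_zpowers_le hxB hB.2 le_rfl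
      (le_normalizer_zc B) hx
  exact (hmax _ hmem le_sup_left) ▸ mem_sup_right (mem_zpowers x)

theorem kLowerStar_max_selfcent [Finite P] {p : ℕ} [Fact p.Prime] (hP : IsPGroup p P)
    (Q B : Subgroup P) (hB : B ∈ kLowerStarFamily Q)
    (hmax : ∀ C ∈ kLowerStarFamily Q, B ≤ C → C = B) : centralizer (B : Set P) ≤ B := by
  refine centralizer_le_of_maximal hP Q B hB.2.1 fun x hxC hx => ?_
  have hxB : ∀ b ∈ B, b * x = x * b := mem_centralizer_iff.mp hxC
  have hmem : B ⊔ zpowers x ∈ kLowerStarFamily Q := by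
    refine kLowerStar_mem.mpr ⟨classTwo_sup hB.1 hxB, ?_, ?_⟩
    · refine le_normalizer_of_commutator_le ?_
      exact commutator_sup_zpowers_le hxB
        ((commutator_le_of_le_normalizer hB.2.1).trans le_sup_left)
        ((zc_le B).trans le_sup_left) ((le_sup_left).trans le_normalizer) hx
    · intro A hA hAQ hBA h1 h2
      have hBA' : B ≤ normalizer (A : Set P) := le_sup_left.trans hBA
      have h1' : ⁅B, ⁅A, A⁆⁆ = ⊥ := le_bot_iff.mp (h1 ▸ commutator_mono le_sup_left le_rfl)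
      have h2' : ⁅⁅zc B, A⁆, A⁆ = ⊥ :=
        le_bot_iff.mp (h2 ▸ commutator_mono (commutator_mono (zc_le_zc_sup hxB) le_rfl) le_rfl)
      refine le_trans ?_ (zc_le_zc_sup hxB)
      exact commutator_sup_zpowers_le hxB ((kLowerStar_mem.mp hB).2.2 A hA hAQ hBA' h1' h2') le_rfl
        (le_normalizer_zc B)
        fun q hq => hx q (hAQ hq)
  exact (hmax _ hmem le_sup_left) ▸ mem_sup_right (mem_zpowers x)

theorem bot_mem_kLowerStar (Q : Subgroup P) : (⊥ : Subgroup P) ∈ kLowerStarFamily Q := by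
  refine kLowerStar_mem.mpr ⟨classTwo_of_comm (commutator_bot_left _), ?_, ?_⟩
  · rw [normalizer_eq_top]; exact le_top
  · intros; rw [commutator_bot_left]; exact bot_le

theorem bot_mem_kUpperStar (Q : Subgroup P) : (⊥ : Subgroup P) ∈ kUpperStarFamily Q :=
  ⟨classTwo_of_comm (commutator_bot_left _), by rw [commutator_bot_left]; exact bot_le⟩

theorem exists_max_of_mem [Finite P] (F : Set (Subgroup P)) {B₀ : Subgroup P} (h : B₀ ∈ F) :
    ∃ B ∈ F, ∀ C ∈ F, B ≤ C → C = B := by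
  obtain ⟨B, hB, hmax⟩ := Set.Finite.exists_maximal (s := F) (Set.toFinite _) ⟨B₀, h⟩
  exact ⟨B, hB, fun C hC hle => le_antisymm (hmax hC hle) hle⟩

theorem centralizer_sSup_le [Finite P] (F : Set (Subgroup P)) {B₀ : Subgroup P} (h : B₀ ∈ F)
    (hF : ∀ B ∈ F, (∀ C ∈ F, B ≤ C → C = B) → centralizer (B : Set P) ≤ B) :
    centralizer ((sSup F : Subgroup P) : Set P) ≤ sSup F := by
  obtain ⟨B, hB, hmax⟩ := exists_max_of_mem F h
  exact ((Subgroup.centralizer_le (le_sSup hB : B ≤ sSup F)).trans (hF B hB hmax)).trans (le_sSup hB)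

/-! ### Normal abelian subgroups -/

theorem normal_abelian_kLower (A : Subgroup P) [A.Normal] (hA : IsMulCommutative A)
    (Q : Subgroup P) : A ∈ kLowerStarFamily Q := by
  have hAA : ⁅A, A⁆ = ⊥ := commutator_self_eq_bot_iff.mpr hA
  have hz : zc A = A := inf_eq_left.mpr (le_centralizer_iff_isMulCommutative.mpr hA)
  refine kLowerStar_mem.mpr ⟨classTwo_of_comm hAA, by rw [normalizer_eq_top]; exact le_top, ?_⟩
  intro B _ _ _ _ _
  rw [hz]; exact commutator_le_left A B

theorem normal_abelian_kUpper (A : Subgroup P) [A.Normal] (hA : IsMulCommutative A)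
    (Q : Subgroup P) : A ∈ kUpperStarFamily Q := by
  have hAA : ⁅A, A⁆ = ⊥ := commutator_self_eq_bot_iff.mpr hA
  have hz : zc A = A := inf_eq_left.mpr (le_centralizer_iff_isMulCommutative.mpr hA)
  exact kUpperStar_mem.mpr ⟨classTwo_of_comm hAA, by rw [hz]; exact commutator_le_left A Q⟩

/-! ### Transport along an injective homomorphism -/

section map

variable {Q : Type*} [Group Q] (f : Q →* P) (hf : Function.Injective f)

include hf

theorem map_centralizer_inf (B : Subgroup Q) :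
    (centralizer (B : Set Q)).map f = f.range ⊓ centralizer ((B.map f : Subgroup P) : Set P) := by
  ext x
  constructor
  · rintro ⟨y, hy, rfl⟩
    refine ⟨⟨y, rfl⟩, ?_⟩
    rintro _ ⟨b, hb, rfl⟩
    rw [← map_mul, hy b hb, map_mul]
  · rintro ⟨⟨y, rfl⟩, hy⟩
    exact ⟨y, fun b hb => hf (by simpa using hy (f b) ⟨b, hb, rfl⟩), rfl⟩

theorem map_zc (B : Subgroup Q) : (zc B).map f = zc (B.map f) := by
  rw [zc, Subgroup.map_inf _ _ _ hf, map_centralizer_inf f hf, ← inf_assoc,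
    inf_eq_left.mpr (map_le_range f B)]
  rfl

theorem classTwo_map (B : Subgroup Q) :
    B.map f ∈ classTwoSubgroups P ↔ B ∈ classTwoSubgroups Q := by
  rw [mem_classTwo, mem_classTwo, ← map_commutator]
  constructor
  · intro h x hx
    obtain ⟨y, hy, hxy⟩ := (map_centralizer_inf f hf B).symm.le ⟨⟨x, rfl⟩, h ⟨x, hx, rfl⟩⟩
    exact hf hxy ▸ hy
  · exact fun h => (Subgroup.map_mono h).trans ((map_centralizer_inf f hf B).le.trans inf_le_right)

theorem map_le_map_iff' (A B : Subgroup Q) : A.map f ≤ B.map f ↔ A ≤ B :=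
  Subgroup.map_le_map_iff_of_injective hf

theorem map_le_normalizer_map (A B : Subgroup Q) :
    A.map f ≤ normalizer (B.map f : Set P) ↔ A ≤ normalizer (B : Set Q) := by
  rw [le_normalizer_iff_commutator_le_right, ← map_commutator, map_le_map_iff' f hf,
    le_normalizer_iff_commutator_le_right]

theorem kUpperStar_map (B R : Subgroup Q) :
    B.map f ∈ kUpperStarFamily (R.map f) ↔ B ∈ kUpperStarFamily R := by
  rw [kUpperStar_mem, kUpperStar_mem, classTwo_map f hf, ← map_commutator, ← map_zc f hf,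
    map_le_map_iff' f hf]

theorem kLowerStar_map (B R : Subgroup Q) :
    B.map f ∈ kLowerStarFamily (R.map f) ↔ B ∈ kLowerStarFamily R := by
  rw [kLowerStar_mem, kLowerStar_mem, classTwo_map f hf, map_le_normalizer_map f hf]
  refine and_congr Iff.rfl (and_congr Iff.rfl ⟨fun h A hA hAR hBA h1 h2 => ?_,
    fun h A hA hAR hBA h1 h2 => ?_⟩)
  · have := h (A.map f) ((classTwo_map f hf A).mpr hA) (map_mono hAR)
      ((map_le_normalizer_map f hf B A).mpr hBA)
      (by rw [← map_commutator, ← map_commutator, h1, Subgroup.map_bot])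
      (by rw [← map_zc f hf, ← map_commutator, ← map_commutator, h2, Subgroup.map_bot])
    rwa [← map_zc f hf, ← map_commutator, map_le_map_iff' f hf] at this
  · obtain ⟨A', rfl⟩ : ∃ A' : Subgroup Q, A'.map f = A :=
      ⟨A.comap f, map_comap_eq_self (hAR.trans (map_le_range f R))⟩
    rw [← map_zc f hf, ← map_commutator, map_le_map_iff' f hf]
    refine h A' ((classTwo_map f hf A').mp hA) ((map_le_map_iff' f hf _ _).mp hAR)
      ((map_le_normalizer_map f hf B A').mp hBA) ?_ ?_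
    · rw [← map_commutator, ← map_commutator] at h1
      exact (map_eq_bot_iff_of_injective _ hf).mp h1
    · rw [← map_zc f hf, ← map_commutator, ← map_commutator] at h2
      exact (map_eq_bot_iff_of_injective _ hf).mp h2

/-- If `f(Q)` contains every term of nonnegative index, the two K-sequences interleave. -/
theorem kSeq_interleave (hQ : ∀ n : ℕ, kSeqEven P n ≤ f.range ∧ kSeqOdd P (n + 1) ≤ f.range) :
    ∀ n : ℕ, (kSeqEven P n ≤ (kSeqEven Q n).map f ∧ (kSeqOdd Q n).map f ≤ kSeqOdd P n) ∧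
      ((kSeqEven Q n).map f ≤ kSeqEven P (n + 1) ∧ kSeqOdd P (n + 1) ≤ (kSeqOdd Q n).map f) := by
  have fromP : ∀ (B : Subgroup P), B ≤ f.range → ∃ B' : Subgroup Q, B'.map f = B := fun B hB =>
    ⟨B.comap f, map_comap_eq_self hB⟩
  have hE1 : ∀ n : ℕ, (kSeqOdd Q n).map f ≤ kSeqOdd P n →
      kSeqEven P n ≤ (kSeqEven Q n).map f := fun n h => by
    refine sSup_le fun B hB => ?_
    obtain ⟨B', rfl⟩ := fromP B ((le_sSup hB).trans (hQ n).1)
    exact map_mono (le_sSup ((kLowerStar_map f hf B' _).mp (kLowerStar_anti h hB)))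
  have hE2 : ∀ n : ℕ, kSeqOdd P (n + 1) ≤ (kSeqOdd Q n).map f →
      (kSeqEven Q n).map f ≤ kSeqEven P (n + 1) := fun n h => by
    rw [map_le_iff_le_comap]
    exact sSup_le fun B hB => map_le_iff_le_comap.mp
      (le_sSup (kLowerStar_anti h ((kLowerStar_map f hf B _).mpr hB)))
  intro n
  induction n with
  | zero =>
    have a : (kSeqOdd Q 0).map f ≤ kSeqOdd P 0 := le_top
    have b : kSeqOdd P (0 + 1) ≤ (kSeqOdd Q 0).map f := by
      rw [kSeqOdd_zero (P := Q), ← MonoidHom.range_eq_map]; exact (hQ 0).2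
    exact ⟨⟨hE1 0 a, a⟩, hE2 0 b, b⟩
  | succ n ih =>
    have a : (kSeqOdd Q (n + 1)).map f ≤ kSeqOdd P (n + 1) := by
      rw [map_le_iff_le_comap]
      exact sSup_le fun B hB => map_le_iff_le_comap.mp
        (le_sSup (kUpperStar_anti ih.1.1 ((kUpperStar_map f hf B _).mpr hB)))
    have b : kSeqOdd P (n + 1 + 1) ≤ (kSeqOdd Q (n + 1)).map f := by
      refine sSup_le fun B hB => ?_
      obtain ⟨B', rfl⟩ := fromP B ((le_sSup hB).trans (hQ (n + 1)).2)
      exact map_mono (le_sSup ((kUpperStar_map f hf B' _).mp (kUpperStar_anti ih.2.1 hB)))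
    exact ⟨⟨hE1 _ a, a⟩, hE2 _ b, b⟩

theorem kInf_map (hQ : ∀ n : ℕ, kSeqEven P n ≤ f.range ∧ kSeqOdd P (n + 1) ≤ f.range) :
    (kInfLower Q).map f = kInfLower P ∧ (kInfUpper Q).map f = kInfUpper P := by
  have h := kSeq_interleave f hf hQ
  constructor
  · refine le_antisymm ?_ (iSup_le fun n => (h n).1.1.trans (map_mono (le_iSup (kSeqEven Q) n)))
    rw [kInfLower, Subgroup.map_iSup]
    exact iSup_le fun n => (h n).2.1.trans (le_iSup (kSeqEven P) _)
  · rw [kInfUpper, kInfUpper, Subgroup.map_iInf _ hf]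
    exact le_antisymm (le_iInf fun n => (iInf_le _ n).trans (h n).1.2)
      (le_iInf fun n => (iInf_le _ (n + 1)).trans (h n).2.2)

end map

end Cfsg.Agent.H49
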