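import Cfsg.Agent.H49.KFunctor
import Cfsg.Agent.S1972

/-!
Transfer is controlled by the K-infinity subgroups for primes at least 5.
-/

set_option autoImplicit false
set_option linter.style.haveILetI false

namespace Cfsg.Agent.H49

open Subgroup

universe u

theorem ctl_kInf {G : Type u} [Group G] [Finite G] {p : ℕ} [Fact p.Prime] (hp : 5 ≤ p)
    (W : ∀ (Q : Type u) [Group Q], Subgroup Q) (hW : KLike W)
    (hWor : ∀ {H : Type u} [Group H] (S : Subgroup H), ¬ (inducedFunctor W S).Normal →
      ¬ (inducedFunctor kInfLower S).Normal ∨ ¬ (inducedFunctor kInfUpper S).Normal) :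
    Fusion.Ctl {W} p G := by
  have hc := hW.isCharPFunctor p
  haveI : ((⊥ : Subgroup G).subgroupOf ⊤).Normal := by rw [bot_subgroupOf]; infer_instance
  have h := Cfsg.Agent.S1972.result W hc (fun K R hR hcen T hn => ?_) (⊤ : Subgroup G) ⊥
  · refine Fusion.Ctl.congr ?_ (by rintro _ rfl; exact hc) ((Fusion.ctl_singleton_iff hc).mp h)
    exact ((QuotientGroup.quotientMulEquivOfEq (bot_subgroupOf ⊤)).trans QuotientGroup.quotientBot).trans
      Subgroup.topEquiv
  · obtain ⟨g, hgT, hgO, hfac, -, -⟩ := Cfsg.Agent.S1983.result T (hWor _ hn)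
    refine ⟨g, hgT, hgO, fun U V hc hU => ?_⟩
    haveI := hc.2.1
    exact (iter_antitone U _ (show 4 ≤ p - 1 by omega)).trans (hfac U V hc hU)

theorem inf_commutator_eq_of_ctl {G : Type u} [Group G] {p : ℕ}
    {W : ∀ (Q : Type u) [Group Q], Subgroup Q} (h : Fusion.Ctl {W} p G) (S : Sylow p G) :
    (S : Subgroup G) ⊓ commutator G = (S : Subgroup G) ⊓
      ⁅normalizer ((inducedFunctor W (S : Subgroup G) : Subgroup G) : Set G),
        normalizer ((inducedFunctor W (S : Subgroup G) : Subgroup G) : Set G)⁆ := by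
  refine le_antisymm ?_ (le_inf inf_le_left (inf_le_right.trans (commutator_mono le_top le_top)))
  have e : Fusion.Tj {W} (S : Subgroup G) = (S : Subgroup G) ⊓
      ⁅normalizer ((inducedFunctor W (S : Subgroup G) : Subgroup G) : Set G),
        normalizer ((inducedFunctor W (S : Subgroup G) : Subgroup G) : Set G)⁆ := by
    simp [Fusion.Tj]
  rw [inf_comm, ← e]
  exact h S

theorem ctl_kInfLower {G : Type u} [Group G] [Finite G] {p : ℕ} [Fact p.Prime] (hp : 5 ≤ p) :
    Fusion.Ctl {fun Q [Group Q] => kInfLower Q} p G :=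
  ctl_kInf hp _ kLike_lower fun _ h => Or.inl h

theorem ctl_kInfUpper {G : Type u} [Group G] [Finite G] {p : ℕ} [Fact p.Prime] (hp : 5 ≤ p) :
    Fusion.Ctl {fun Q [Group Q] => kInfUpper Q} p G :=
  ctl_kInf hp _ kLike_upper fun _ h => Or.inr h

end Cfsg.Agent.H49
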