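import Cfsg.Agent.H49.RankTwoFusion
import Cfsg.Agent.H90.CenterIndex

/-!
Groups of order `p⁴` whose automorphisms have several Sylow `p`-subgroups.
-/

set_option autoImplicit false
set_option linter.unusedSectionVars false
set_option linter.style.haveILetI false

namespace Cfsg.Agent.H49

open Subgroup Cfsg
open scoped commutatorElement

variable {p : ℕ} [hp : Fact p.Prime] {G : Type*} [Group G] [Finite G]

/-- No invariant series from the Frattini subgroup to the group has all steps of index at most `p`. -/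
theorem not_chain (hG : IsPGroup p G) (A : Subgroup (MulAut G)) (P P' : Sylow p A) (hne : P ≠ P')
    (n : ℕ) (C : ℕ → Subgroup G) (h0 : C 0 = frattini G) (hn : C n = ⊤)
    (hmono : ∀ i < n, C i ≤ C (i + 1) ∧ (C i).relIndex (C (i + 1)) ≤ p)
    (hinv : ∀ i ≤ n, ∀ a ∈ A, ∀ x ∈ C i, a x ∈ C i) : False := by
  haveI := finite_mulAut (G := G)
  have hΦC : ∀ i, i ≤ n → frattini G ≤ C i := by
    intro i
    induction i with
    | zero => exact fun _ => h0.ge
    | succ i ih => exact fun hi => (ih (by omega)).trans (hmono i (by omega)).1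
  have hnorm : ∀ i ≤ n, (C i).Normal := fun i hi =>
    Subgroup.Normal.of_commutator_le G ((PGroups.commutator_le_frattini hG).trans (hΦC i hi))
  let U : Subgroup A :=
    { carrier := {a | ∀ i, i < n → ∀ x ∈ C (i + 1), x⁻¹ * (a : MulAut G) x ∈ C i}
      one_mem' := fun i _ x _ => by simp
      mul_mem' := fun {a b} ha hb i hi x hx => by
        show x⁻¹ * (a : MulAut G) ((b : MulAut G) x) ∈ C i
        rw [show x⁻¹ * (a : MulAut G) ((b : MulAut G) x) =
          (x⁻¹ * (b : MulAut G) x) * (((b : MulAut G) x)⁻¹ * (a : MulAut G) ((b : MulAut G) x)) by group]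
        exact mul_mem (hb i hi x hx) (ha i hi _ (hinv (i + 1) hi _ b.2 x hx))
      inv_mem' := fun {a} ha i hi x hx => by
        have h := ha i hi _ (hinv (i + 1) hi _ (inv_mem a.2) x hx)
        rw [MulAut.apply_inv_self] at h
        show x⁻¹ * (a : MulAut G)⁻¹ x ∈ C i
        simpa using inv_mem h }
  have hUn : U.Normal := ⟨fun u hu a i hi x hx => by
    have h := hinv i hi.le _ a.2 _ (hu i hi _ (hinv (i + 1) hi _ (inv_mem a.2) x hx))
    rw [map_mul, map_inv, MulAut.apply_inv_self] at h
    exact h⟩
  have hUp : IsPGroup p U := by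
    rintro ⟨a, ha⟩
    have hfix : ∀ i, i ≤ n → ∀ x ∈ C i, x⁻¹ * ((a : MulAut G) ^ p ^ i) x ∈ frattini G := by
      intro i
      induction i with
      | zero =>
        intro _ x hx
        rw [pow_zero, pow_one]
        exact mul_mem (inv_mem (h0 ▸ hx)) (h0 ▸ hinv 0 (Nat.zero_le _) _ a.2 x hx)
      | succ i ih =>
        intro hi x hx
        have hb : a ^ p ^ i ∈ U := pow_mem ha _
        set b : MulAut G := (a : MulAut G) ^ p ^ i with hbdef
        have hd : x⁻¹ * b x ∈ C i := by
          have h := hb i (by omega) x hx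
          rwa [SubmonoidClass.coe_pow] at h
        have hpow : ∀ j : ℕ, QuotientGroup.mk' (frattini G) ((b ^ j) x) =
            QuotientGroup.mk' (frattini G) (x * (x⁻¹ * b x) ^ j) := by
          intro j
          induction j with
          | zero => simp
          | succ j ihj =>
            have h2 : QuotientGroup.mk' (frattini G) (b ((x⁻¹ * b x))) =
                QuotientGroup.mk' (frattini G) (x⁻¹ * b x) := by
              exact (QuotientGroup.eq.2 (ih (by omega) _ hd)).symm
            have h3 : ∀ u v : G, QuotientGroup.mk' (frattini G) u = QuotientGroup.mk' (frattini G) v →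
                QuotientGroup.mk' (frattini G) (b u) = QuotientGroup.mk' (frattini G) (b v) := by
              intro u v huv
              refine QuotientGroup.eq.2 ?_
              rw [← map_inv, ← map_mul]
              exact (h0 ▸ hinv 0 (Nat.zero_le _) _ (by rw [hbdef]; exact pow_mem a.2 _) _
                (h0.symm ▸ QuotientGroup.eq.1 huv) : b (u⁻¹ * v) ∈ frattini G)
            rw [pow_succ', MulAut.mul_apply, h3 _ _ ihj, map_mul b, map_pow b,
              map_mul (QuotientGroup.mk' (frattini G)) (b x),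
              map_pow (QuotientGroup.mk' (frattini G)) (b (x⁻¹ * b x)), h2, ← map_pow, ← map_mul,
              pow_succ', ← mul_assoc, mul_inv_cancel_left]
        have h4 := hpow p
        rw [map_mul (QuotientGroup.mk' (frattini G)) x, map_pow] at h4
        rw [show QuotientGroup.mk' (frattini G) (x⁻¹ * b x) ^ p = 1 from quot_pow hG _, mul_one] at h4
        rw [pow_succ, pow_mul]
        exact QuotientGroup.eq.1 h4.symm
    have hmem : a ^ p ^ n ∈ ((frattiniQuot G).comp A.subtype).ker := by
      refine MulEquiv.ext fun v => ?_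
      obtain ⟨x, rfl⟩ := QuotientGroup.mk_surjective v
      show QuotientGroup.mk (((a ^ p ^ n : A) : MulAut G) x) = QuotientGroup.mk x
      rw [SubmonoidClass.coe_pow]
      exact (QuotientGroup.eq.2 (hfix n le_rfl x (hn ▸ mem_top x))).symm
    obtain ⟨k, hk⟩ := isPGroup_ker hG A ⟨_, hmem⟩
    refine ⟨n + k, Subtype.ext ?_⟩
    show a ^ p ^ (n + k) = 1
    rw [pow_add, pow_mul]
    exact congrArg Subtype.val hk
  have hall : ∀ R : Sylow p A, (R : Subgroup A) ≤ U := by
    intro R a ha i hi x hx
    obtain ⟨k, hk⟩ := R.isPGroup' ⟨a, ha⟩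
    have hak : (a : MulAut G) ^ p ^ k = 1 := congrArg (fun u : (R : Subgroup A) => ((u : A) : MulAut G)) hk
    let X := C (i + 1)
    let N : Subgroup X := (C i).subgroupOf X
    haveI := hnorm i hi.le
    haveI : N.Normal := Subgroup.normal_subgroupOf
    let β : MulAut X :=
      { toFun := fun x => ⟨(a : MulAut G) x, hinv (i + 1) hi _ a.2 x x.2⟩
        invFun := fun x => ⟨(a : MulAut G)⁻¹ x, hinv (i + 1) hi _ (inv_mem a.2) x x.2⟩
        left_inv := fun x => Subtype.ext (MulAut.inv_apply_self _ _ _)
        right_inv := fun x => Subtype.ext (MulAut.apply_inv_self _ _ _)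
        map_mul' := fun u v => Subtype.ext (map_mul (a : MulAut G) (u : G) v) }
    have hNmap : N.map (β : X ≃* X).toMonoidHom = N := by
      ext z
      constructor
      · rintro ⟨w, hw, rfl⟩
        exact hinv i hi.le _ a.2 _ hw
      · intro hz
        exact ⟨β⁻¹ z, hinv i hi.le _ (inv_mem a.2) _ hz, MulAut.apply_inv_self _ β z⟩
    let γ : MulAut (X ⧸ N) := QuotientGroup.congr N N (β : X ≃* X) hNmap
    have hγ : ∀ (j : ℕ) (z : X), ∃ w : X, (w : G) = ((a : MulAut G) ^ j) z ∧
        (γ ^ j) (QuotientGroup.mk z) = QuotientGroup.mk w := by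
      intro j
      induction j with
      | zero => intro z; exact ⟨z, rfl, rfl⟩
      | succ j ih =>
        intro z
        obtain ⟨w, hw, hw'⟩ := ih z
        refine ⟨β w, ?_, ?_⟩
        · rw [pow_succ', MulAut.mul_apply, ← hw]
          rfl
        · rw [pow_succ', MulAut.mul_apply, hw']
          rfl
    have hγp : γ ^ p ^ k = 1 := MulEquiv.ext fun q => by
      obtain ⟨z, rfl⟩ := QuotientGroup.mk_surjective q
      obtain ⟨w, hw, hw'⟩ := hγ (p ^ k) z
      rw [hw', show w = z from Subtype.ext (by rw [hw, hak]; rfl)]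
      rfl
    obtain ⟨e, he⟩ := IsPGroup.iff_card.1 ((hG.to_subgroup X).to_quotient N)
    have hγ1 : γ = 1 := by
      have hle : Nat.card (X ⧸ N) ≤ p := (hmono i hi).2
      haveI : IsCyclic (X ⧸ N) := by
        rw [he] at hle
        rcases e with _ | _ | e
        · haveI : Subsingleton (X ⧸ N) := (Nat.card_eq_one_iff_unique.1 (by simpa using he)).1
          infer_instance
        · exact isCyclic_of_prime_card (p := p) (by simpa using he)
        · exact absurd hle (not_le.2 (by
            calc p = p ^ 1 := (pow_one p).symm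
              _ < p ^ (e + 1 + 1) := Nat.pow_lt_pow_right hp.out.one_lt (by omega)))
      have h2 : orderOf γ ∣ Nat.totient (p ^ e) := by
        rw [← he, ← IsCyclic.card_mulAut]; exact orderOf_dvd_natCard γ
      refine orderOf_eq_one_iff.1 (Nat.eq_one_of_dvd_coprimes ?_ (orderOf_dvd_of_pow_eq_one hγp) h2)
      rw [he] at hle
      rcases e with _ | _ | e
      · simp
      · rw [Nat.totient_prime_pow_succ hp.out, pow_zero, one_mul]
        refine Nat.Coprime.pow_left k (hp.out.coprime_iff_not_dvd.2 fun hd => ?_)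
        have := Nat.le_of_dvd (Nat.sub_pos_of_lt hp.out.one_lt) hd
        have := hp.out.two_le
        omega
      · exact absurd hle (not_le.2 (by
          calc p = p ^ 1 := (pow_one p).symm
            _ < p ^ (e + 1 + 1) := Nat.pow_lt_pow_right hp.out.one_lt (by omega)))
    obtain ⟨w, hw, hw'⟩ := hγ 1 ⟨x, hx⟩
    rw [pow_one, hγ1, MulAut.one_apply] at hw'
    have h5 : (⟨x, hx⟩ : X)⁻¹ * w ∈ N := QuotientGroup.eq.1 hw'
    have h6 : x⁻¹ * (w : G) ∈ C i := h5
    rwa [hw, pow_one] at h6
  exact hne (Sylow.ext ((P.is_maximal' hUp (hall P)).symm.trans (P'.is_maximal' hUp (hall P'))))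

theorem extraspecial_of_card_cube {X : Type*} [Group X] [Finite X] (hcard : Nat.card X = p ^ 3)
    (hna : ¬ ∀ a b : X, a * b = b * a) : IsExtraspecial p X := by
  have hX : IsPGroup p X := IsPGroup.of_card hcard
  obtain ⟨j, hj⟩ := IsPGroup.iff_card.1 (hX.to_subgroup (center X))
  have hci : Nat.card (center X) * (center X).index = p ^ 3 := by rw [Subgroup.card_mul_index, hcard]
  have hle : j ≤ 3 := (Nat.pow_dvd_pow_iff_le_right hp.out.one_lt).1 (hj ▸ hcard ▸ card_subgroup_dvd_card _)
  have hj1 : j = 1 := by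
    rw [hj] at hci
    interval_cases j
    · exfalso
      haveI : Nontrivial X :=
        Finite.one_lt_card_iff_nontrivial.1 (hcard ▸ Nat.one_lt_pow (by norm_num) hp.out.one_lt)
      haveI := hX.center_nontrivial
      exact absurd hj (ne_of_gt (by rw [pow_zero]; exact Finite.one_lt_card))
    · rfl
    · exfalso
      refine PGroups.center_index_ne_prime (p := p) (G := X)
        (Nat.eq_of_mul_eq_mul_left (pow_pos hp.out.pos 2) ?_)
      rw [hci]; ring
    · exfalso
      refine hna fun a b => Subgroup.mem_center_iff.1 ?_ a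
      rw [Subgroup.eq_top_of_card_eq _ (hj.trans hcard.symm)]
      exact mem_top b
  rw [hj1, pow_one] at hj
  have hi : (center X).index = p ^ 2 := Nat.eq_of_mul_eq_mul_left hp.out.pos (by
    rw [hj] at hci; rw [hci]; ring)
  have hcomm : commutator X ≤ center X := PGroups.commutator_le_of_index_dvd_sq _ (dvd_of_eq hi)
  have hcomm' : commutator X = center X := by
    refine Subgroup.eq_of_le_of_card_ge hcomm ?_
    rw [hj]
    refine Nat.le_of_dvd Nat.card_pos (PGroups.dvd_card_of_ne_bot hX fun h => hna fun a b => ?_)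
    exact commutatorElement_eq_one_iff_mul_comm.1
      (Subgroup.mem_bot.1 (h ▸ commutator_mem_commutator (mem_top a) (mem_top b)))
  have hpow : ∀ x : X, x ^ p ∈ center X := by
    intro x
    rw [← QuotientGroup.eq_one_iff, QuotientGroup.mk_pow]
    set q : X ⧸ center X := QuotientGroup.mk x
    obtain ⟨k, hk, hk'⟩ := (Nat.dvd_prime_pow hp.out).1
      (hi ▸ Subgroup.index_eq_card (center X) ▸ orderOf_dvd_natCard q)
    refine orderOf_dvd_iff_pow_eq_one.1 (hk' ▸ ?_)
    rcases hk.lt_or_eq with h | rfl
    · exact (pow_dvd_pow p (by omega : k ≤ 1)).trans (by rw [pow_one])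
    · exfalso
      haveI : IsCyclic (X ⧸ center X) :=
        isCyclic_of_orderOf_eq_card q (by rw [hk', ← Subgroup.index_eq_card, hi])
      exact hna (MonoidHom.isMulCommutative_of_isCyclic_of_ker_le_center (QuotientGroup.mk' (center X))
        (le_of_eq (QuotientGroup.ker_mk' _))).is_comm.comm
  exact ⟨⟨hX, le_antisymm (PGroups.frattini_le_of_commutator_le (p := p) _ hcomm hpow)
    (hcomm' ▸ PGroups.commutator_le_frattini hX), hcomm'⟩, hj⟩

/-- The decomposition `G = E × ⟨w⟩`. -/
theorem prod_iso (E : Subgroup G) [E.Normal] {w : G} (hwc : w ∈ center G) (hw : orderOf w = p)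
    (hwE : w ∉ E) (hcard : p * Nat.card E = Nat.card G) :
    Nonempty (G ≃* E × Multiplicative (ZMod p)) := by
  have hwp : w ^ p = 1 := hw ▸ pow_orderOf_eq_one w
  let f : E × Multiplicative (ZMod p) →* G := MonoidHom.mk'
    (fun e => (e.1 : G) * w ^ (Multiplicative.toAdd e.2).val) fun a b => by
      show (a.1 : G) * (b.1 : G) * w ^ (_ + _ : ZMod p).val = _
      rw [pow_val_add hwp]
      have hc : (b.1 : G) * w ^ (Multiplicative.toAdd a.2).val = w ^ (Multiplicative.toAdd a.2).val * b.1 :=
        Subgroup.mem_center_iff.1 (pow_mem hwc _) _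
      calc (a.1 : G) * b.1 * (w ^ (Multiplicative.toAdd a.2).val * w ^ (Multiplicative.toAdd b.2).val)
          = (a.1 : G) * (b.1 * w ^ (Multiplicative.toAdd a.2).val) * w ^ (Multiplicative.toAdd b.2).val := by
            group
        _ = _ := by rw [hc]; group
  have hsurj : Function.Surjective f := by
    rw [← MonoidHom.range_eq_top]
    have hle : E ⊔ zpowers w ≤ f.range := sup_le
      (fun e he => ⟨(⟨e, he⟩, 1), by
        show e * w ^ (0 : ZMod p).val = e
        rw [ZMod.val_zero, pow_zero, mul_one]⟩)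
      (zpowers_le.2 ⟨(1, Multiplicative.ofAdd 1), by
        show (1 : G) * w ^ (1 : ZMod p).val = w
        rw [ZMod.val_one, pow_one, one_mul]⟩)
    refine top_le_iff.1 (le_trans (Eq.ge ?_) hle)
    refine Subgroup.eq_top_of_card_eq _ ?_
    rw [PGroups.card_sup_zpowers _ hwE (hwp ▸ one_mem E), hcard]
  have hb : Function.Bijective f := (Nat.bijective_iff_surjective_and_card f).2 ⟨hsurj, by
    rw [Nat.card_prod, Nat.card_congr Multiplicative.toAdd, Nat.card_zmod, ← hcard, mul_comm]⟩
  exact ⟨(MulEquiv.ofBijective f hb).symm⟩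

theorem comm_order_fourth {H : Type*} [CommGroup H] [Finite H] (hcard : Nat.card H = p ^ 4)
    (A : Subgroup (MulAut H)) (P P' : Sylow p A) (hne : P ≠ P')
    (hcore : ∀ N : Subgroup A, N.Normal → IsPGroup p N → N = ⊥) :
    (∀ x : H, x ^ p = 1) ∨ Nonempty (H ≃* Multiplicative (ZMod (p ^ 2) × ZMod p × ZMod p)) ∨
      ((p = 2 ∨ p = 3) ∧ Nonempty (H ≃* Multiplicative (ZMod (p ^ 2) × ZMod (p ^ 2)))) := by
  have hH : IsPGroup p H := IsPGroup.of_card hcard
  have hp1 := hp.out.one_lt
  obtain ⟨r, hr⟩ := hH.index (H := frattini H)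
  have hmul := (frattini H).card_mul_index
  rw [hr, hcard] at hmul
  have hr4 : r ≤ 4 := (Nat.pow_dvd_pow_iff_le_right hp1).1 (Dvd.intro_left _ hmul)
  by_cases hr2 : r ≤ 2
  · obtain ⟨k, -, hk, ⟨e⟩, -, hexp, h5⟩ := homocyclic_of_two_sylow hH A P P' hne
      (hr.le.trans (Nat.pow_le_pow_right hp.out.pos hr2))
    rw [hcard, ← pow_mul] at hk
    have h4 := Nat.pow_right_injective hp.out.two_le hk
    obtain rfl : k = 2 := by omega
    refine Or.inr (Or.inr ⟨?_, ⟨e⟩⟩)
    have := hp.out.two_le
    by_contra hcon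
    have h5' : 5 ≤ p := by
      by_contra h
      have h4 : p = 4 := by omega
      have := hp.out
      rw [h4] at this
      norm_num at this
    exact absurd (hexp (h5 h5' hcore)) (by norm_num)
  by_cases hall : ∀ x : H, x ^ p = 1
  · exact Or.inl hall
  refine Or.inr (Or.inl ?_)
  push Not at hall
  obtain ⟨x, hx⟩ := hall
  have hr3 : r = 3 := by
    by_contra h
    have h4 : r = 4 := by omega
    rw [h4] at hmul
    have h1 : Nat.card (frattini H) = 1 := Nat.eq_of_mul_eq_mul_right (pow_pos hp.out.pos 4) (by rw [hmul, one_mul])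
    exact hx (Subgroup.mem_bot.1 (Subgroup.card_eq_one.1 h1 ▸ PGroups.pow_mem_frattini hH x))
  rw [hr3] at hmul
  have hΦ : Nat.card (frattini H) = p := Nat.eq_of_mul_eq_mul_right (pow_pos hp.out.pos 3) (by rw [hmul]; ring)
  have hΦp : ∀ z ∈ frattini H, z ^ p = 1 := fun z hz => by
    have h := orderOf_dvd_natCard (⟨z, hz⟩ : frattini H)
    rw [hΦ, orderOf_dvd_iff_pow_eq_one] at h
    exact congrArg Subtype.val h
  set K := (powMonoidHom (α := H) p).ker with hKdef
  have hK : p ^ 3 ≤ Nat.card K := by
    have h := K.card_mul_index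
    have h1 : K.index ≤ p := by
      rw [hKdef, Subgroup.index_ker]
      refine le_trans (Subgroup.card_le_of_le ?_) hΦ.le
      rintro _ ⟨z, rfl⟩
      exact PGroups.pow_mem_frattini hH z
    rw [hcard] at h
    by_contra hlt
    have := Nat.mul_lt_mul_of_lt_of_le (not_le.1 hlt) h1 hp.out.pos
    rw [h, ← pow_succ] at this
    exact lt_irrefl _ this
  have hΦK : frattini H ≤ K := fun z hz => hΦp z hz
  obtain ⟨y, hyK, hyΦ⟩ := SetLike.exists_of_lt (lt_of_le_of_ne hΦK fun h => by
    rw [← h, hΦ] at hK
    exact absurd hK (not_le.2 (by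
      calc p = p ^ 1 := (pow_one p).symm
        _ < p ^ 3 := Nat.pow_lt_pow_right hp1 (by norm_num))))
  have hc2 : Nat.card (frattini H ⊔ zpowers y : Subgroup H) = p * p := by
    rw [PGroups.card_sup_zpowers _ hyΦ (PGroups.pow_mem_frattini hH y), hΦ]
  obtain ⟨w, hwK, hwy⟩ := SetLike.exists_of_lt (lt_of_le_of_ne
    (sup_le hΦK (zpowers_le.2 hyK) : frattini H ⊔ zpowers y ≤ K) fun h => by
      rw [← h, hc2, ← sq] at hK
      exact absurd hK (not_le.2 (Nat.pow_lt_pow_right hp1 (by norm_num))))
  have hc3 : Nat.card (frattini H ⊔ zpowers y ⊔ zpowers w : Subgroup H) = p * (p * p) := by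
    rw [PGroups.card_sup_zpowers _ hwy (mem_sup_left (PGroups.pow_mem_frattini hH w)), hc2]
  have hxK : x ∉ frattini H ⊔ zpowers y ⊔ zpowers w := fun h =>
    hx ((sup_le (sup_le hΦK (zpowers_le.2 hyK)) (zpowers_le.2 hwK) :
      frattini H ⊔ zpowers y ⊔ zpowers w ≤ K) h : x ∈ K)
  have hgen : zpowers y ⊔ zpowers w ⊔ zpowers x = ⊤ := by
    refine frattini_nongenerating ?_
    refine Subgroup.eq_top_of_card_eq _ ?_
    rw [show zpowers y ⊔ zpowers w ⊔ zpowers x ⊔ frattini H =
      frattini H ⊔ zpowers y ⊔ zpowers w ⊔ zpowers x by ac_rfl,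
      PGroups.card_sup_zpowers _ hxK (mem_sup_left (mem_sup_left (PGroups.pow_mem_frattini hH x))), hc3,
      hcard]
    ring
  haveI : NeZero (p ^ 2) := ⟨pow_ne_zero 2 hp.out.ne_zero⟩
  haveI : Fact (1 < p ^ 2) := ⟨Nat.one_lt_pow two_ne_zero hp1⟩
  have hx2 : x ^ p ^ 2 = 1 := by
    rw [sq, pow_mul]
    exact hΦp _ (PGroups.pow_mem_frattini hH x)
  have hyp : y ^ p = 1 := hyK
  have hwp : w ^ p = 1 := hwK
  let f : Multiplicative (ZMod (p ^ 2) × ZMod p × ZMod p) →* H := MonoidHom.mk'
    (fun v => x ^ (Multiplicative.toAdd v).1.val *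
      (y ^ (Multiplicative.toAdd v).2.1.val * w ^ (Multiplicative.toAdd v).2.2.val)) fun a b => by
      show x ^ (_ + _ : ZMod (p ^ 2)).val * (y ^ (_ + _ : ZMod p).val * w ^ (_ + _ : ZMod p).val) = _
      rw [ZMod.val_add, ← pow_eq_pow_mod _ hx2, pow_add, pow_val_add hyp, pow_val_add hwp,
        mul_mul_mul_comm (y ^ _), mul_mul_mul_comm]
  have hsurj : Function.Surjective f := by
    rw [← MonoidHom.range_eq_top, eq_top_iff, ← hgen]
    refine sup_le (sup_le (zpowers_le.2 ⟨Multiplicative.ofAdd (0, 1, 0), ?_⟩)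
      (zpowers_le.2 ⟨Multiplicative.ofAdd (0, 0, 1), ?_⟩)) (zpowers_le.2 ⟨Multiplicative.ofAdd (1, 0, 0), ?_⟩)
    · show x ^ (0 : ZMod (p ^ 2)).val * (y ^ (1 : ZMod p).val * w ^ (0 : ZMod p).val) = y
      simp [ZMod.val_one]
    · show x ^ (0 : ZMod (p ^ 2)).val * (y ^ (0 : ZMod p).val * w ^ (1 : ZMod p).val) = w
      simp [ZMod.val_one]
    · show x ^ (1 : ZMod (p ^ 2)).val * (y ^ (0 : ZMod p).val * w ^ (0 : ZMod p).val) = x
      simp [ZMod.val_one]
  have hb : Function.Bijective f := (Nat.bijective_iff_surjective_and_card f).2 ⟨hsurj, by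
    rw [Nat.card_congr Multiplicative.toAdd, Nat.card_prod, Nat.card_prod, Nat.card_zmod, Nat.card_zmod, hcard]
    ring⟩
  exact ⟨(MulEquiv.ofBijective f hb).symm⟩

theorem noncomm_order_fourth (hcard : Nat.card G = p ^ 4) (hna : ¬ ∀ a b : G, a * b = b * a)
    (A : Subgroup (MulAut G)) (P P' : Sylow p A) (hne : P ≠ P') :
    (Odd p ∧ ∃ (E : Type) (_ : Group E) (_ : Finite E), IsExtraspecial p E ∧ Nat.card E = p ^ 3 ∧
        (∀ x : E, x ^ p = 1) ∧ Nonempty (G ≃* E × Multiplicative (ZMod p))) ∨
      (p = 2 ∧ Nonempty (G ≃* QuaternionGroup 2 × Multiplicative (ZMod 2))) ∨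
      ((∀ x : G, x ^ (p ^ 2) = 1) ∧ IsCyclic (center G) ∧ Nat.card (center G) = p ^ 2) := by
  have hG : IsPGroup p G := IsPGroup.of_card hcard
  have hp1 := hp.out.one_lt
  obtain ⟨r, hr⟩ := hG.index (H := frattini G)
  have hΦmul := (frattini G).card_mul_index
  rw [hr, hcard] at hΦmul
  have hr4 : r ≤ 4 := (Nat.pow_dvd_pow_iff_le_right hp1).1 (Dvd.intro_left _ hΦmul)
  have hcomne : commutator G ≠ ⊥ := fun h => hna fun a b => commutatorElement_eq_one_iff_mul_comm.1
    (Subgroup.mem_bot.1 (h ▸ commutator_mem_commutator (mem_top a) (mem_top b)))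
  have hΦne : frattini G ≠ ⊥ := fun h => hcomne (le_bot_iff.1 (h ▸ PGroups.commutator_le_frattini hG))
  have hr3 : r = 3 := by
    by_contra hne3
    have hr2 : r ≤ 2 := by
      rcases hr4.lt_or_eq with h | h
      · omega
      · exfalso
        rw [h] at hΦmul
        exact hΦne (Subgroup.card_eq_one.1
          (Nat.eq_of_mul_eq_mul_right (pow_pos hp.out.pos 4) (by rw [hΦmul, one_mul])))
    have hi := frattini_index hG A P P' hne (hr.le.trans (Nat.pow_le_pow_right hp.out.pos hr2))
    rw [hr] at hi
    rw [hi] at hΦmul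
    have hΦ : Nat.card (frattini G) = p ^ 2 := Nat.eq_of_mul_eq_mul_right (pow_pos hp.out.pos 2) (by rw [hΦmul]; ring)
    have hiΦ : (frattini G).index = p ^ 2 := by rw [hr, hi]
    have hZne : center G ≠ ⊤ := fun h => hna fun a b => Subgroup.mem_center_iff.1 (h ▸ mem_top b) a
    have hZΦ : center G ≤ frattini G := le_frattini hG hiΦ A P P' hne _ hZne fun a _ x hx =>
      Subgroup.mem_center_iff.2 fun y => (a : MulAut G).symm.injective (by
        rw [map_mul, map_mul, MulEquiv.symm_apply_apply, Subgroup.mem_center_iff.1 hx])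
    rcases hZΦ.lt_or_eq with hlt | heq
    · -- the Frattini subgroup is not central
      obtain ⟨j, hj⟩ := IsPGroup.iff_card.1 (hG.to_subgroup (center G))
      have hj2 : j < 2 := by
        by_contra h
        exact hlt.ne (Subgroup.eq_of_le_of_card_ge hlt.le
          (by rw [hΦ, hj]; exact Nat.pow_le_pow_right hp.out.pos (not_lt.1 h)))
      obtain ⟨w, hwΦ, hwZ⟩ := SetLike.exists_of_lt hlt
      have hj1 : Nat.card (center G) = p := by
        haveI : Nontrivial G := Finite.one_lt_card_iff_nontrivial.1 (hcard ▸ Nat.one_lt_pow (by norm_num) hp1)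
        haveI := hG.center_nontrivial
        have h1 : 1 < Nat.card (center G) := Finite.one_lt_card
        rw [hj] at h1 ⊢
        interval_cases j
        · simp at h1
        · exact pow_one p
      haveI : Nontrivial G := ⟨⟨w, 1, fun h => hwZ (h ▸ one_mem _)⟩⟩
      -- `[G, w] ≤ Z`
      let q := QuotientGroup.mk' (center G)
      have hmapc : Nat.card ((frattini G).map q) = p := by
        have h1 := Subgroup.card_mul_index ((center G).subgroupOf (frattini G))
        rw [Nat.card_congr (subgroupOfEquivOfLe hZΦ).toEquiv, hj1, hΦ] at h1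
        have h2 : Nat.card ((frattini G).map q) = ((center G).subgroupOf (frattini G)).index := by
          rw [show (frattini G).map q = (q.comp (frattini G).subtype).range by
            rw [MonoidHom.range_comp, Subgroup.range_subtype], ← Subgroup.index_ker]
          congr 1
          ext z
          simp [q, Subgroup.mem_subgroupOf]
        rw [h2]
        exact Nat.eq_of_mul_eq_mul_left hp.out.pos (by rw [h1, sq])
      haveI : ((frattini G).map q).Normal := Subgroup.Normal.map inferInstance q (QuotientGroup.mk'_surjective _)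
      have hcen := PGroups.le_center_of_card_eq (hG.to_quotient (center G)) _ hmapc
      have hval : ∀ g : G, g * w * g⁻¹ * w⁻¹ ∈ center G := fun g => by
        rw [← QuotientGroup.eq_one_iff]
        have := Subgroup.mem_center_iff.1 (hcen ⟨w, hwΦ, rfl⟩) (q g)
        show q (g * w * g⁻¹ * w⁻¹) = 1
        rw [map_mul, map_mul, map_mul, map_inv, map_inv, this]
        group
      haveI : IsCyclic (center G) := isCyclic_of_prime_card (p := p) hj1
      let ψ : G →* center G := MonoidHom.mk' (fun g => ⟨g * w * g⁻¹ * w⁻¹, hval g⟩) fun a b => Subtype.ext (by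
        show a * b * w * (a * b)⁻¹ * w⁻¹ = (a * w * a⁻¹ * w⁻¹) * (b * w * b⁻¹ * w⁻¹)
        have h1 := Subgroup.mem_center_iff.1 (hval b)
        calc a * b * w * (a * b)⁻¹ * w⁻¹ = a * (b * w * b⁻¹ * w⁻¹) * (w * a⁻¹ * w⁻¹) := by group
          _ = (b * w * b⁻¹ * w⁻¹) * (a * w * a⁻¹ * w⁻¹) := by rw [h1 a]; group
          _ = _ := (h1 _).symm)
      let C := centralizer ((frattini G : Subgroup G) : Set G)
      have hker : ψ.ker ≤ C := by
        intro g hg
        have hgw : g * w * g⁻¹ * w⁻¹ = 1 := congrArg Subtype.val (MonoidHom.mem_ker.1 hg)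
        rw [mul_inv_eq_one, mul_inv_eq_iff_eq_mul] at hgw
        refine Subgroup.mem_centralizer_iff.2 fun z hz => ?_
        have hgen : frattini G ≤ center G ⊔ zpowers w := by
          refine (Subgroup.eq_of_le_of_card_ge (sup_le hZΦ (zpowers_le.2 hwΦ)) ?_).ge
          have hwp : w ^ p ∈ center G := by
            rw [← QuotientGroup.eq_one_iff]
            have h := orderOf_dvd_natCard (⟨_, ⟨w, hwΦ, rfl⟩⟩ : (frattini G).map q)
            rw [hmapc, orderOf_dvd_iff_pow_eq_one] at h
            exact congrArg Subtype.val h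
          rw [PGroups.card_sup_zpowers (center G) hwZ hwp, hj1, hΦ, sq]
        have hle : center G ⊔ zpowers w ≤ centralizer ({g} : Set G) :=
          sup_le (fun u hu => mem_centralizer_singleton_iff.2 (Subgroup.mem_center_iff.1 hu g).symm)
            (zpowers_le.2 (mem_centralizer_singleton_iff.2 hgw.symm))
        exact mem_centralizer_singleton_iff.1 (hle (hgen hz))
      have hCidx : C.index ≤ p := le_trans
        (Nat.le_of_dvd (Nat.pos_of_ne_zero index_ne_zero_of_finite) (index_dvd_of_le hker))
        (by rw [Subgroup.index_ker, ← hj1]; exact Nat.card_le_card_of_injective _ Subtype.val_injective)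
      have hCne : C ≠ ⊤ := fun h => hwZ (Subgroup.mem_center_iff.2 fun g =>
        (Subgroup.mem_centralizer_iff.1 (h ▸ mem_top g : g ∈ C) w hwΦ).symm)
      have hCΦ := le_frattini hG hiΦ A P P' hne C hCne fun a _ g hg =>
        Subgroup.mem_centralizer_iff.2 fun z hz => (a : MulAut G).symm.injective (by
          rw [map_mul, map_mul, MulEquiv.symm_apply_apply]
          exact Subgroup.mem_centralizer_iff.1 hg _
            (by
              have h := Subgroup.characteristic_iff_map_le.1 (inferInstance : (frattini G).Characteristic)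
                (a : MulAut G).symm
              exact h ⟨z, hz, rfl⟩))
      have h1 := Nat.le_of_dvd (Nat.pos_of_ne_zero index_ne_zero_of_finite) (index_dvd_of_le hCΦ)
      rw [hiΦ] at h1
      have := h1.trans hCidx
      rw [sq] at this
      nlinarith [hp.out.two_le]
    · -- the Frattini subgroup is the centre
      have hiZ : (center G).index = p ^ 2 := by rw [heq, hiΦ]
      have hc := H90.CI.card_commutator (p := p) hiZ
      let K : Subgroup G :=
        ((powMonoidHom (α := Abelianization G) p).comp Abelianization.of).ker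
      have hmemK : ∀ g, g ∈ K ↔ g ^ p ∈ commutator G := fun g => by
        rw [MonoidHom.mem_ker, MonoidHom.comp_apply, powMonoidHom_apply, ← map_pow]
        exact (QuotientGroup.eq_one_iff _)
      have hKi : K.index ≤ p := by
        rw [Subgroup.index_ker]
        have hle : ((powMonoidHom (α := Abelianization G) p).comp Abelianization.of).range ≤
            (frattini G).map Abelianization.of := by
          rintro _ ⟨g, rfl⟩
          exact ⟨g ^ p, PGroups.pow_mem_frattini hG g, map_pow _ _ _⟩
        refine (Subgroup.card_le_of_le hle).trans ?_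
        have h1 := Subgroup.card_mul_index ((commutator G).subgroupOf (frattini G))
        rw [Nat.card_congr (subgroupOfEquivOfLe (PGroups.commutator_le_frattini hG)).toEquiv, hc, hΦ] at h1
        have h2 : Nat.card ((frattini G).map Abelianization.of) =
            ((commutator G).subgroupOf (frattini G)).index := by
          rw [show (frattini G).map (Abelianization.of (G := G)) =
            ((Abelianization.of (G := G)).comp (frattini G).subtype).range by
              rw [MonoidHom.range_comp, Subgroup.range_subtype], ← Subgroup.index_ker]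
          congr 1
          ext z
          rw [MonoidHom.mem_ker, Subgroup.mem_subgroupOf]
          exact QuotientGroup.eq_one_iff _
        rw [h2]
        exact (Nat.eq_of_mul_eq_mul_left hp.out.pos (h1.trans (sq p))).le
      have hKne : K ≠ ⊤ := fun h => by
        have hle : frattini G ≤ commutator G :=
          PGroups.frattini_le_of_commutator_le (p := p) _ le_rfl fun g => (hmemK g).1 (h ▸ mem_top g)
        have h1 := Subgroup.card_le_of_le hle
        rw [hc, hΦ, sq] at h1
        nlinarith [hp.out.two_le]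
      have hKΦ := le_frattini hG hiΦ A P P' hne K hKne fun a _ g hg => by
        rw [hmemK] at hg ⊢
        rw [← map_pow]
        exact (Subgroup.characteristic_iff_map_le.1 (inferInstance : (commutator G).Characteristic)
          (a : MulAut G)) ⟨_, hg, rfl⟩
      have h1 := Nat.le_of_dvd (Nat.pos_of_ne_zero index_ne_zero_of_finite) (index_dvd_of_le hKΦ)
      rw [hiΦ] at h1
      have := h1.trans hKi
      rw [sq] at this
      nlinarith [hp.out.two_le]
  rw [hr3] at hΦmul
  have hiΦ : (frattini G).index = p ^ 3 := by rw [hr, hr3]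
  have hΦ : Nat.card (frattini G) = p :=
    Nat.eq_of_mul_eq_mul_right (pow_pos hp.out.pos 3) (by rw [hΦmul]; ring)
  have hΦc : frattini G ≤ center G := PGroups.le_center_of_card_eq hG _ hΦ
  have hcom : commutator G = frattini G := by
    refine Subgroup.eq_of_le_of_card_ge (PGroups.commutator_le_frattini hG) ?_
    rw [hΦ]
    exact Nat.le_of_dvd Nat.card_pos (PGroups.dvd_card_of_ne_bot hG hcomne)
  have hΦp : ∀ z ∈ frattini G, z ^ p = 1 := fun z hz => by
    have h := orderOf_dvd_natCard (⟨z, hz⟩ : frattini G)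
    rw [hΦ, orderOf_dvd_iff_pow_eq_one] at h
    exact congrArg Subtype.val h
  have hexp : ∀ x : G, x ^ (p ^ 2) = 1 := fun x => by
    rw [sq, pow_mul]
    exact hΦp _ (PGroups.pow_mem_frattini hG x)
  obtain ⟨j, hj⟩ := IsPGroup.iff_card.1 (hG.to_subgroup (center G))
  have hZ : Nat.card (center G) = p ^ 2 := by
    have hle : j ≤ 4 := (Nat.pow_dvd_pow_iff_le_right hp1).1 (hj ▸ hcard ▸ card_subgroup_dvd_card _)
    have hci := Subgroup.card_mul_index (center G)
    rw [hj, hcard] at hci
    rw [hj]
    interval_cases j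
    · exfalso
      haveI : Nontrivial G := Finite.one_lt_card_iff_nontrivial.1 (hcard ▸ Nat.one_lt_pow (by norm_num) hp1)
      haveI := hG.center_nontrivial
      exact absurd hj (ne_of_gt (by rw [pow_zero]; exact Finite.one_lt_card))
    · exfalso
      obtain ⟨n, hn⟩ := PGroups.card_eq_of_center_card hG (hcom.le.trans hΦc) (hj.trans (pow_one p))
      rw [hcard] at hn
      have := Nat.pow_right_injective hp.out.two_le hn
      omega
    · rfl
    · exfalso
      exact PGroups.center_index_ne_prime (p := p) (G := G)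
        (Nat.eq_of_mul_eq_mul_left (pow_pos hp.out.pos 3) (by rw [hci]; ring))
    · exfalso
      exact hna fun a b => Subgroup.mem_center_iff.1
        (by rw [Subgroup.eq_top_of_card_eq _ (hj.trans hcard.symm)]; exact mem_top b) a
  by_cases hZc : IsCyclic (center G)
  · exact Or.inr (Or.inr ⟨hexp, hZc, hZ⟩)
  have hiZ : (center G).index = p ^ 2 := Nat.eq_of_mul_eq_mul_left (pow_pos hp.out.pos 2) (by
    have h := Subgroup.card_mul_index (center G)
    rw [hZ, hcard] at h
    rw [h]; ring)
  have hZexp : ∀ z ∈ center G, z ^ p = 1 := by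
    intro z hz
    by_contra hzp
    obtain ⟨k, hk, hk'⟩ := (Nat.dvd_prime_pow hp.out).1 (hZ ▸ orderOf_dvd_natCard (⟨z, hz⟩ : center G))
    refine hZc (isCyclic_of_orderOf_eq_card (⟨z, hz⟩ : center G) ?_)
    rcases hk.lt_or_eq with h | h
    · exfalso
      refine hzp ?_
      have : (⟨z, hz⟩ : center G) ^ p = 1 := orderOf_dvd_iff_pow_eq_one.1
        (hk' ▸ (pow_dvd_pow p (by omega : k ≤ 1)).trans (by rw [pow_one]))
      exact congrArg Subtype.val this
    · rw [hk', h, hZ]
  have hlt : frattini G < center G := lt_of_le_of_ne hΦc fun h => by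
    rw [h, hZ, sq] at hΦ
    nlinarith [hp.out.two_le]
  obtain ⟨w, hwZ, hwΦ⟩ := SetLike.exists_of_lt hlt
  have hΦZ : frattini G ⊔ zpowers w = center G := Subgroup.eq_of_le_of_card_ge
    (sup_le hΦc (zpowers_le.2 hwZ))
    (by rw [PGroups.card_sup_zpowers _ hwΦ (PGroups.pow_mem_frattini hG w), hΦ, hZ, sq])
  have hw : orderOf w = p := orderOf_eq_prime (hZexp w hwZ) fun h => hwΦ (h ▸ one_mem _)
  -- an invariant maximal subgroup over the centre is impossible
  have hnoK : ∀ K : Subgroup G, center G ≤ K → K ≠ ⊤ → (∃ g ∈ K, g ∉ center G) →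
      (∀ a ∈ A, ∀ x ∈ K, a x ∈ K) → False := by
    intro K hle hKne ⟨g, hg, hgZ⟩ hinv
    have hm := Subgroup.relIndex_mul_index hle
    rw [hiZ] at hm
    obtain ⟨m, hm2, hm'⟩ := (Nat.dvd_prime_pow hp.out).1 (hm ▸ dvd_mul_left K.index _)
    have hKi : K.index = p ∧ (center G).relIndex K = p := by
      interval_cases m
      · exact absurd (Subgroup.index_eq_one.1 (by simpa using hm')) hKne
      · rw [pow_one] at hm'
        rw [hm', sq] at hm
        exact ⟨hm', Nat.eq_of_mul_eq_mul_right hp.out.pos hm⟩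
      · rw [hm'] at hm
        have : (center G).relIndex K = 1 :=
          Nat.eq_of_mul_eq_mul_right (pow_pos hp.out.pos 2) (by rw [hm, one_mul])
        exact absurd (Subgroup.relIndex_eq_one.1 this hg) hgZ
    refine not_chain hG A P P' hne 3 (fun i => match i with
      | 0 => frattini G
      | 1 => center G
      | 2 => K
      | _ => ⊤) rfl rfl ?_ ?_
    · intro i hi
      interval_cases i
      · refine ⟨hΦc, ?_⟩
        have h := Subgroup.relIndex_mul_index hΦc
        rw [hiΦ, hiZ] at h
        exact (Nat.eq_of_mul_eq_mul_right (pow_pos hp.out.pos 2) (h.trans (by ring))).le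
      · exact ⟨hle, hKi.2.le⟩
      · refine ⟨le_top, ?_⟩
        show K.relIndex ⊤ ≤ p
        rw [Subgroup.relIndex_top_right, hKi.1]
    · intro i hi a ha x hx
      interval_cases i
      · exact Subgroup.characteristic_iff_map_le.1 (inferInstance : (frattini G).Characteristic) a ⟨x, hx, rfl⟩
      · exact Subgroup.characteristic_iff_map_le.1 (inferInstance : (center G).Characteristic) a ⟨x, hx, rfl⟩
      · exact hinv a ha x hx
      · exact mem_top _
  -- two noncommuting elements and the subgroup they generate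
  have hmkE : ∀ x y : G, x * y ≠ y * x → ∃ E : Subgroup G, E.Normal ∧ x ∈ E ∧ y ∈ E ∧
      Nat.card E = p ^ 3 ∧ Nonempty (G ≃* E × Multiplicative (ZMod p)) ∧ ¬ ∀ a b : E, a * b = b * a := by
    intro x y hxy
    have hc : ⁅x, y⁆ ∈ frattini G := PGroups.commutator_le_frattini hG
      (commutator_mem_commutator (mem_top x) (mem_top y))
    have hc1 : ⁅x, y⁆ ≠ 1 := fun h => hxy (commutatorElement_eq_one_iff_mul_comm.1 h)
    let E := Subgroup.closure ({x, y} : Set G)
    have hxE : x ∈ E := Subgroup.subset_closure (by simp)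
    have hyE : y ∈ E := Subgroup.subset_closure (by simp)
    have hΦE : frattini G ≤ E := by
      rw [← PGroups.zpowers_eq_of_card_eq hΦ hc hc1]
      exact zpowers_le.2 (mul_mem (mul_mem (mul_mem hxE hyE) (inv_mem hxE)) (inv_mem hyE))
    have hEn : E.Normal := Subgroup.Normal.of_commutator_le G ((PGroups.commutator_le_frattini hG).trans hΦE)
    have hEne : E ≠ ⊤ := fun h => by
      classical
      obtain ⟨hle, -⟩ := PGroups.burnside_basis hG hiΦ (S := ({x, y} : Finset G)) (by simpa using h)
      have := (Finset.card_insert_le x ({y} : Finset G)).trans_eq (by rw [Finset.card_singleton])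
      omega
    have hxZ : x ∉ center G := fun h => hxy (Subgroup.mem_center_iff.1 h y).symm
    have hyx : y ∉ center G ⊔ zpowers x := fun h => hxy (by
      have hle : center G ⊔ zpowers x ≤ centralizer ({x} : Set G) :=
        sup_le (fun u hu => mem_centralizer_singleton_iff.2 (Subgroup.mem_center_iff.1 hu x).symm)
          (zpowers_le.2 (mem_centralizer_singleton_iff.2 rfl))
      exact (mem_centralizer_singleton_iff.1 (hle h)).symm)
    haveI : (center G ⊔ zpowers x).Normal :=
      Subgroup.Normal.of_commutator_le G ((PGroups.commutator_le_frattini hG).trans (hΦc.trans le_sup_left))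
    have htop : center G ⊔ zpowers x ⊔ zpowers y = ⊤ := by
      refine Subgroup.eq_top_of_card_eq _ ?_
      rw [PGroups.card_sup_zpowers _ hyx (mem_sup_left (hΦc (PGroups.pow_mem_frattini hG y))),
        PGroups.card_sup_zpowers _ hxZ (hΦc (PGroups.pow_mem_frattini hG x)), hZ, hcard]
      ring
    have hEw : E ⊔ zpowers w = ⊤ := by
      rw [eq_top_iff, ← htop, ← hΦZ]
      exact sup_le (sup_le (sup_le (hΦE.trans le_sup_left) le_sup_right)
        ((zpowers_le.2 hxE).trans le_sup_left)) ((zpowers_le.2 hyE).trans le_sup_left)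
    have hwE : w ∉ E := fun h => hEne (eq_top_iff.2 (hEw.ge.trans (sup_le le_rfl (zpowers_le.2 h))))
    have hcE : p * Nat.card E = Nat.card G := by
      rw [← PGroups.card_sup_zpowers (p := p) E hwE (hZexp w hwZ ▸ one_mem E), hEw, Subgroup.card_top]
    refine ⟨E, hEn, hxE, hyE, Nat.eq_of_mul_eq_mul_left hp.out.pos (by rw [hcE, hcard]; ring),
      prod_iso E hwZ hw hwE hcE, fun h => hxy ?_⟩
    exact congrArg Subtype.val (h ⟨x, hxE⟩ ⟨y, hyE⟩)
  obtain ⟨x₀, y₀, hxy₀⟩ : ∃ x y : G, x * y ≠ y * x := by push Not at hna; exact hna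
  rcases hp.out.eq_two_or_odd' with rfl | hodd
  · refine Or.inr (Or.inl ⟨rfl, ?_⟩)
    obtain ⟨E, hEn, hxE, hyE, hEc, ⟨e⟩, hEna⟩ := hmkE x₀ y₀ hxy₀
    let c := ⁅y₀, x₀⁆
    have hc : c ∈ frattini G := PGroups.commutator_le_frattini hG
      (commutator_mem_commutator (mem_top y₀) (mem_top x₀))
    have hc1 : c ≠ 1 := fun h => hxy₀ (commutatorElement_eq_one_iff_mul_comm.1 h).symm
    have hval : ∀ z ∈ frattini G, z = 1 ∨ z = c := by
      intro z hz
      rw [← PGroups.zpowers_eq_of_card_eq hΦ hc hc1] at hz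
      obtain ⟨i, rfl⟩ := mem_zpowers_iff.1 hz
      rw [zpow_eq_zpow_emod' i (n := 2) (hΦp c hc)]
      rcases Int.emod_two_eq i with h | h
      · left; simp [h]
      · right; simp [h]
    have hsq : ∀ g, g ^ 2 ∈ frattini G := PGroups.pow_mem_frattini hG
    have hprod : (x₀ * y₀) ^ 2 = x₀ ^ 2 * y₀ ^ 2 * c := by
      rw [PGroups.mul_pow_of_commutator_mem_center (hΦc hc)]
      simp [c]
    have hccc : c * c = 1 := by rw [← sq]; exact hΦp c hc
    -- either both squares equal `c`, or the subgroup of elements over `Z` with that square is invariant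
    by_cases hboth : x₀ ^ 2 = c ∧ y₀ ^ 2 = c
    · refine ⟨e.trans (MulEquiv.prodCongr (Classical.choice ?_) (MulEquiv.refl _))⟩
      have hxc : orderOf (⟨x₀, hxE⟩ : E) = 2 * 2 := by
        rw [← Subgroup.orderOf_coe]
        have h := orderOf_eq_prime_pow (p := 2) (x := x₀) (n := 1)
          (by simp only [pow_one]; rw [hboth.1]; exact hc1) (hexp x₀)
        simpa using h
      refine PGroups.nonempty_mulEquiv_quaternion hxc (y := ⟨y₀, hyE⟩) ?_ ?_ ?_ (by rw [hEc]; norm_num)
      · intro h
        obtain ⟨i, hi⟩ := mem_zpowers_iff.1 h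
        refine hxy₀ ?_
        rw [show y₀ = x₀ ^ i from (congrArg Subtype.val hi).symm]
        exact (Commute.self_zpow x₀ i).eq
      · exact Subtype.ext (by simp only [SubmonoidClass.coe_pow]; rw [hboth.2, hboth.1])
      · refine Subtype.ext ?_
        show y₀ * x₀ * y₀⁻¹ = x₀⁻¹
        calc y₀ * x₀ * y₀⁻¹ = c * x₀ := by simp only [c, commutatorElement_def]; group
          _ = x₀⁻¹ := by
            refine eq_inv_of_mul_eq_one_left ?_
            rw [mul_assoc, ← sq, hboth.1, hccc]
    exfalso
    -- find `u` with `u² = c` and `v` with `v² = 1`, not commuting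
    obtain ⟨u, v, huv, hu, hv⟩ : ∃ u v : G, u * v ≠ v * u ∧ u ^ 2 = c ∧ v ^ 2 = 1 := by
      rcases hval _ (hsq x₀) with hx | hx <;> rcases hval _ (hsq y₀) with hy | hy
      · refine ⟨x₀ * y₀, x₀, fun h => hxy₀ ?_, by rw [hprod, hx, hy, one_mul, one_mul], hx⟩
        rw [mul_assoc] at h
        exact (mul_left_cancel h).symm
      · exact ⟨y₀, x₀, fun h => hxy₀ h.symm, hy, hx⟩
      · exact ⟨x₀, y₀, hxy₀, hx, hy⟩
      · exact absurd ⟨hx, hy⟩ hboth
    have huvc : ⁅v, u⁆ = c := (hval _ (PGroups.commutator_le_frattini hG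
      (commutator_mem_commutator (mem_top v) (mem_top u)))).resolve_left
        fun h => huv (commutatorElement_eq_one_iff_mul_comm.1 h).symm
    let K := center G ⊔ zpowers u
    have huZ : u ∉ center G := fun h => huv (Subgroup.mem_center_iff.1 h v).symm
    have hKu : ∀ g ∈ K, g * u = u * g := fun g hg => by
      have hle : K ≤ centralizer ({u} : Set G) :=
        sup_le (fun z hz => mem_centralizer_singleton_iff.2 (Subgroup.mem_center_iff.1 hz u).symm)
          (zpowers_le.2 (mem_centralizer_singleton_iff.2 rfl))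
      exact mem_centralizer_singleton_iff.1 (hle hg)
    have hKidx : K.index = 2 := by
      have h := Subgroup.card_mul_index K
      rw [hcard, show Nat.card K = 2 * 2 ^ 2 from
        hZ ▸ PGroups.card_sup_zpowers _ huZ (hΦc (hsq u))] at h
      omega
    have hvK : v ∉ K := fun h => huv (hKu v h).symm
    -- elements outside `K` square to `1`
    have hout : ∀ g, g ∉ K → g ^ 2 = 1 := by
      intro g hg
      have hgv : v⁻¹ * g ∈ K := by
        rw [Subgroup.mul_mem_iff_of_index_two hKidx]
        exact ⟨fun h => absurd h (fun h' => hvK (by simpa using inv_mem h')), fun h => absurd h hg⟩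
      haveI : K.Normal := Subgroup.normal_of_index_eq_two hKidx
      obtain ⟨z, hz, m, hm, hzm⟩ := Subgroup.mem_sup_of_normal_left.1 (show v⁻¹ * g ∈ center G ⊔ zpowers u from hgv)
      obtain ⟨i, rfl⟩ := mem_zpowers_iff.1 hm
      have hge : g = v * u ^ i * z := by
        rw [mul_assoc, (Subgroup.mem_center_iff.1 hz (u ^ i)), hzm, mul_inv_cancel_left]
      have hcomm : ∀ a : G, a * z = z * a := Subgroup.mem_center_iff.1 hz
      rw [hge, (Commute.mul_pow (hcomm (v * u ^ i)) 2), hZexp z hz, mul_one,
        zpow_eq_zpow_emod' i (n := 4) (by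
          have := hexp u
          simpa using this)]
      have h2 : (v * u) ^ 2 = 1 := by
        rw [PGroups.mul_pow_of_commutator_mem_center (hΦc (PGroups.commutator_le_frattini hG
          (commutator_mem_commutator (mem_top u) (mem_top v)))), hv, hu, one_mul]
        simp only [Nat.choose_self, pow_one]
        rw [show ⁅u, v⁆ = c⁻¹ by rw [← huvc, commutatorElement_inv]]
        exact mul_inv_cancel c
      have hcz : ∀ a : G, a * c = c * a := Subgroup.mem_center_iff.1 (hΦc hc)
      have hu2 : u ^ (2 : ℤ) = c := by rw [show (2 : ℤ) = ((2 : ℕ) : ℤ) from rfl, zpow_natCast, hu]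
      have hlt := Int.emod_lt_of_pos i (show (0 : ℤ) < ((4 : ℕ) : ℤ) by norm_num)
      have hge0 := Int.emod_nonneg i (show ((4 : ℕ) : ℤ) ≠ 0 by norm_num)
      generalize i % ((4 : ℕ) : ℤ) = r at hlt hge0
      push_cast at hlt
      interval_cases r
      · simpa using hv
      · simpa using h2
      · rw [hu2, (Commute.mul_pow (hcz v) 2), hv, one_mul, hΦp c hc]
      · rw [show (3 : ℤ) = 1 + 2 from rfl, zpow_add, hu2, zpow_one, ← mul_assoc,
          (Commute.mul_pow (hcz (v * u)) 2), h2, one_mul, hΦp c hc]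
    refine hnoK K le_sup_left (fun h => hvK (h ▸ mem_top v))
      ⟨u, mem_sup_right (mem_zpowers u), huZ⟩ fun a _ g hg => ?_
    obtain ⟨z, hz, m, hm, rfl⟩ := Subgroup.mem_sup_of_normal_left.1 hg
    obtain ⟨i, rfl⟩ := mem_zpowers_iff.1 hm
    rw [map_mul, map_zpow]
    refine mul_mem (mem_sup_left (Subgroup.characteristic_iff_map_le.1 inferInstance a ⟨z, hz, rfl⟩))
      (zpow_mem ?_ i)
    by_contra hau
    refine hc1 (hu ▸ (a : MulAut G).injective ?_)
    rw [map_pow, map_one]
    exact hout _ hau
  · have hchoose : p ∣ p.choose 2 := hp.out.dvd_choose_self two_ne_zero (by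
      obtain ⟨m, hm⟩ := hodd; omega)
    by_cases hall : ∀ g : G, g ^ p = 1
    · obtain ⟨E, hEn, -, -, hEc, ⟨e⟩, hEna⟩ := hmkE x₀ y₀ hxy₀
      haveI : Small.{0} E := inferInstance
      refine Or.inl ⟨hodd, Shrink.{0} E, inferInstance, Finite.of_equiv _ (equivShrink E), ?_, ?_, ?_, ⟨e.trans
        (MulEquiv.prodCongr (Shrink.mulEquiv (α := E)).symm (MulEquiv.refl _))⟩⟩
      · haveI : Finite (Shrink.{0} E) := Finite.of_equiv _ (equivShrink E)
        refine extraspecial_of_card_cube ?_ fun h => hEna fun a b => ?_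
        · rw [← Nat.card_congr (equivShrink E), hEc]
        · exact (Shrink.mulEquiv (α := E)).symm.injective (by rw [map_mul, map_mul, h])
      · rw [← Nat.card_congr (equivShrink E), hEc]
      · intro g
        refine (Shrink.mulEquiv (α := E)).injective ?_
        rw [map_pow, map_one]
        exact Subtype.ext (hall _)
    exfalso
    push Not at hall
    obtain ⟨g, hg⟩ := hall
    have hcc : ∀ a b : G, ⁅b, a⁆ ∈ center G := fun a b =>
      hΦc (PGroups.commutator_le_frattini hG (commutator_mem_commutator (mem_top b) (mem_top a)))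
    let ψ : G →* frattini G := MonoidHom.mk' (fun x => ⟨x ^ p, PGroups.pow_mem_frattini hG x⟩) fun a b =>
      Subtype.ext (by
        show (a * b) ^ p = a ^ p * b ^ p
        rw [PGroups.mul_pow_of_commutator_mem_center (hcc a b)]
        obtain ⟨d, hd⟩ := hchoose
        rw [hd, pow_mul, hZexp _ (hcc a b), one_pow, mul_one])
    refine hnoK ψ.ker (fun z hz => MonoidHom.mem_ker.2 (Subtype.ext (hZexp z hz))) ?_ ?_ ?_
    · intro h
      have h1 : g ∈ ψ.ker := h ▸ mem_top g
      exact hg (congrArg Subtype.val (MonoidHom.mem_ker.1 h1))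
    · by_contra hcon
      push Not at hcon
      have h2 : ψ.ker.index ≤ p := by
        rw [Subgroup.index_ker, ← hΦ]
        exact Nat.card_le_card_of_injective _ Subtype.val_injective
      have h3 := (Nat.le_of_dvd (Nat.pos_of_ne_zero index_ne_zero_of_finite) (index_dvd_of_le hcon)).trans h2
      rw [hiZ, sq] at h3
      nlinarith [hp.out.two_le]
    · intro a _ x hx
      have hx' : x ^ p = 1 := congrArg Subtype.val (MonoidHom.mem_ker.1 hx)
      refine MonoidHom.mem_ker.2 (Subtype.ext ?_)
      show ((a : MulAut G) x) ^ p = 1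
      rw [← map_pow (a : MulAut G), hx', map_one (a : MulAut G)]

end Cfsg.Agent.H49
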