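import Cfsg.Agent.Fusion.Alperin
import Cfsg.Agent.H48.SylowIn

/-!
Alperin's fusion theorem with the factors taken to be `p`-elements.
-/

set_option autoImplicit false
set_option linter.style.haveILetI false
set_option linter.unusedSectionVars false

namespace Cfsg.Agent.H49

open Subgroup
open Cfsg.Agent.Fusion
open Cfsg.Agent.H48

universe u

variable {G : Type u} [Group G] {p : ℕ}

/-- As `Fusion.Conn`, the factors outside `N(P)` being `p`-elements. -/
inductive PConn (P : Sylow p G) : Set G → G → Prop where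
  | refl (A : Set G) : PConn P A 1
  | step (A : Set G) (g x : G) (Q : Sylow p G) (hQ : IsTame P Q)
      (hA : A ⊆ (((P : Subgroup G) ⊓ (Q : Subgroup G) : Subgroup G) : Set G))
      (hx : x ∈ normalizer ((((P : Subgroup G) ⊓ (Q : Subgroup G)) : Subgroup G) : Set G))
      (hord : (Q : Subgroup G) = (P : Subgroup G) ∨ ∃ k : ℕ, orderOf x = p ^ k)
      (h : PConn P ((fun a => x⁻¹ * a * x) '' A) g) : PConn P A (x * g)

theorem PConn.mono {P : Sylow p G} {A B : Set G} {g : G} (h : PConn P A g) (hBA : B ⊆ A) :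
    PConn P B g := by
  induction h generalizing B with
  | refl A => exact PConn.refl B
  | step A g x Q hQ hA hx ho _ ih =>
    exact PConn.step B g x Q hQ (hBA.trans hA) hx ho (ih (Set.image_mono hBA))

theorem PConn.trans {P : Sylow p G} {A : Set G} {g h : G} (h₁ : PConn P A g)
    (h₂ : PConn P ((fun a => g⁻¹ * a * g) '' A) h) : PConn P A (g * h) := by
  induction h₁ with
  | refl A => simpa using h₂
  | step A g x Q hQ hA hx ho _ ih =>
    rw [mul_assoc]
    refine PConn.step A _ x Q hQ hA hx ho (ih ?_)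
    rw [Set.image_image]
    have he : (fun a => g⁻¹ * (x⁻¹ * a * x) * g) = fun a => (x * g)⁻¹ * a * (x * g) := by
      funext a; group
    rw [he]
    exact h₂

theorem PConn.exists_fin {P : Sylow p G} {A : Set G} {g : G} (h : PConn P A g) :
    ∃ (n : ℕ) (Q : Fin n → Sylow p G) (x : Fin n → G), (List.ofFn x).prod = g ∧
      (∀ i : Fin n, IsTame P (Q i) ∧
        x i ∈ normalizer ((((P : Subgroup G) ⊓ (Q i : Subgroup G)) : Subgroup G) : Set G) ∧
        ((Q i : Subgroup G) = (P : Subgroup G) ∨ ∃ k : ℕ, orderOf (x i) = p ^ k)) ∧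
      ∀ i : Fin n, (fun a => (((List.ofFn x).take i.val).prod)⁻¹ * a * ((List.ofFn x).take i.val).prod) '' A ⊆
        (((P : Subgroup G) ⊓ (Q i : Subgroup G) : Subgroup G) : Set G) := by
  induction h with
  | refl A => exact ⟨0, Fin.elim0, Fin.elim0, by simp, fun i => i.elim0, fun i => i.elim0⟩
  | step A g x Q hQ hA hx ho _ ih =>
    obtain ⟨n, Q', x', hprod, h1, h2⟩ := ih
    refine ⟨n + 1, Fin.cons Q Q', Fin.cons x x', by simp [List.ofFn_succ, hprod], ?_, ?_⟩
    · refine Fin.cases ?_ ?_
      · simpa using ⟨hQ, hx, ho⟩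
      · intro i; simpa using h1 i
    · refine Fin.cases ?_ ?_
      · simpa using hA
      · intro i
        have := h2 i
        rw [Set.image_image] at this
        simpa [List.ofFn_succ, mul_assoc] using this

variable [Finite G] [Fact p.Prime]

/-- A normalizing element of a tame intersection, by `p`-elements. -/
theorem pconn_of_mem_normalizer (P : Sylow p G) : ∀ (d : ℕ) (Q : Sylow p G),
    Nat.card P - Nat.card ↥((P : Subgroup G) ⊓ (Q : Subgroup G)) = d → IsTame P Q →
    ∀ x ∈ normalizer ((((P : Subgroup G) ⊓ (Q : Subgroup G)) : Subgroup G) : Set G),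
      PConn P (((P : Subgroup G) ⊓ (Q : Subgroup G) : Subgroup G) : Set G) x := by
  intro d
  induction d using Nat.strong_induction_on with
  | _ d ih =>
  intro Q hd hQ x hx
  set T := (P : Subgroup G) ⊓ (Q : Subgroup G) with hT
  set N := normalizer (T : Set G) with hN
  by_cases hTP : T = (P : Subgroup G)
  · have hQP : (Q : Subgroup G) = (P : Subgroup G) := by
      refine (eq_of_le_of_card_le ?_ ?_).symm
      · exact hTP.ge.trans inf_le_right
      · rw [P.card_eq_multiplicity, Q.card_eq_multiplicity]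
    simpa using PConn.step (T : Set G) 1 x Q hQ le_rfl hx (Or.inl hQP) (PConn.refl _)
  set R := (P : Subgroup G) ⊓ N with hR
  have hRsyl : IsSylowIn p R N := ⟨inf_le_right, P.isPGroup'.to_le inf_le_left, hQ.1⟩
  have hlt : Nat.card T < Nat.card R :=
    card_lt_card_inf_normalizer P.isPGroup' inf_le_left hTP
  set E : Set G := {y | y ∈ N ∧ ∃ k : ℕ, orderOf y = p ^ k} with hE
  set K := Subgroup.closure E with hK
  have hKN : K ≤ N := (closure_le N).mpr fun y hy => hy.1
  have hRK : R ≤ K := fun r hr => subset_closure ⟨hr.2, by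
    obtain ⟨k, hk⟩ := IsPGroup.iff_orderOf.mp hRsyl.isPGroup ⟨r, hr⟩
    exact ⟨k, by rwa [← Subgroup.orderOf_coe] at hk⟩⟩
  have hNK : ∀ y ∈ N, cj y K = K := fun y hy => cj_eq_self_of_le (by
    rw [hK, show cj y (Subgroup.closure E) = _ from MonoidHom.map_closure _ E]
    refine closure_mono ?_
    rintro _ ⟨z, ⟨hz, k, hk⟩, rfl⟩
    exact ⟨N.mul_mem (N.mul_mem hy hz) (N.inv_mem hy), k,
      by rw [← hk]; exact orderOf_injective _ (MulAut.conj y).injective z⟩)
  have hRsylK : IsSylowIn p R K := ⟨hRK, hRsyl.isPGroup, fun hd' => hRsyl.ndvd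
    (hd'.trans (Dvd.intro _ (relIndex_mul_relIndex R K N hRK hKN)))⟩
  obtain ⟨c, hc, he⟩ : ∃ c ∈ K, cj c (cj x R) = R := by
    have := hRsylK.cj x
    rw [hNK x hx] at this
    exact this.exists_conj hRsylK
  rw [cj_cj] at he
  set y := c * x with hy
  have hyR : y ∈ normalizer (R : Set G) := mem_normalizer_of_cj_eq he
  have hx' : x = c⁻¹ * y := by rw [hy, inv_mul_cancel_left]
  have hstep : ∀ k ∈ K, ∀ h : G, PConn P (T : Set G) h → PConn P (T : Set G) (k * h) := by
    have one : ∀ z : G, z ∈ N → (∃ k : ℕ, orderOf z = p ^ k) → ∀ h : G,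
        PConn P (T : Set G) h → PConn P (T : Set G) (z * h) := fun z hz hzo h hh =>
      PConn.step _ _ z Q hQ le_rfl hz (Or.inr hzo) (hh.mono (by
        rintro _ ⟨t, ht, rfl⟩
        exact (mem_normalizer_iff''.mp hz t).mp ht))
    intro k hk
    induction hk using Subgroup.closure_induction_left with
    | one => intro h hh; rwa [one_mul]
    | mul_left z hz w _ ihw => intro h hh; rw [mul_assoc]; exact one z hz.1 hz.2 _ (ihw h hh)
    | inv_mul_cancel z hz w _ ihw =>
      intro h hh
      rw [mul_assoc]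
      exact one z⁻¹ (inv_mem hz.1) (by simpa using hz.2) _ (ihw h hh)
  -- the remaining factor normalizes the larger subgroup `R`
  have hyconn : PConn P (T : Set G) y := by
    have h1 := alperin P (A := (R : Set G)) (g := y) (fun r hr => hr.1) (by
      rintro _ ⟨r, hr, rfl⟩
      exact ((mem_normalizer_iff''.mp hyR r).mp hr).1)
    suffices h : ∀ (A : Set G) (g : G), Conn P A g →
        (∀ U : Subgroup G, A ⊆ (U : Set G) → Nat.card T < Nat.card U) → PConn P A g from
      (h _ _ h1 fun U hU => hlt.trans_le (Subgroup.card_le_of_le hU)).mono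
        fun t ht => ⟨ht.1, le_normalizer ht⟩
    intro A g hg
    induction hg with
    | refl A => exact fun _ => PConn.refl A
    | step A g z Q' hQ' hA' hz _ ih' =>
      intro hbig
      have hcard := hbig _ hA'
      have hsmall : Nat.card ↥((P : Subgroup G) ⊓ (Q' : Subgroup G)) ≤ Nat.card P :=
        Subgroup.card_le_of_le inf_le_left
      have h2 := (ih _ (by omega) Q' rfl hQ' z hz).mono hA'
      refine h2.trans (ih' fun U hU => ?_)
      have h3 := hbig (U.map (MulAut.conj z).toMonoidHom) fun a ha =>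
        ⟨z⁻¹ * a * z, hU ⟨a, ha, rfl⟩, by simp [mul_assoc]⟩
      rwa [Subgroup.card_map_of_injective (MulAut.conj z).injective] at h3
  rw [hx']
  exact hstep _ (inv_mem hc) _ hyconn

theorem alperin_pElements (P : Sylow p G) {A : Set G} {g : G} (hA : A ⊆ (P : Set G))
    (hAg : (fun a => g⁻¹ * a * g) '' A ⊆ (P : Set G)) : PConn P A g := by
  have h := alperin P hA hAg
  clear hA hAg
  induction h with
  | refl A => exact PConn.refl A
  | step A g x Q hQ hA hx _ ih => exact ((pconn_of_mem_normalizer P _ Q rfl hQ x hx).mono hA).trans ih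

end Cfsg.Agent.H49
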