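import Cfsg.Agent.H49.SteinbergSS
import Cfsg.Agent.H54.ChevSteinberg
import Cfsg.Agent.H37.Chev.Parabolic
import Cfsg.Agent.Coprime.Action
import Cfsg.Agent.H83.ClassConst
import Cfsg.Agent.BlockBasic.Basic

/-!
The Steinberg character of a split Chevalley group at an element of order prime to the characteristic: up to
sign, the `p`-part of the order of the centralizer.
-/

set_option autoImplicit false
set_option linter.unusedSectionVars false

namespace Cfsg.Agent.H49.ChevStValue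

open Cfsg.Agent.H28 Cfsg.Agent.H54 Cfsg.Lie Cfsg.Agent.H37.RootSys
open Cfsg.Agent.H37 (Tits.Ambient)
open scoped Classical

section Ambient

variable {G W : Type*} [Group G] [Group W] (A : Tits.Ambient G W)

theorem N_mul {h h' : G} (hh : h ∈ A.H) (hh' : h' ∈ A.H) (a b : W) :
    ∃ k ∈ A.H, (h * A.n a) * (h' * A.n b) = k * A.n (a * b) := by
  obtain ⟨k, hk, e⟩ := A.n_mul a b
  refine ⟨h * (A.n a * h' * (A.n a)⁻¹) * k, mul_mem (mul_mem hh (A.n_conj_H a h' hh')) hk, ?_⟩
  calc h * A.n a * (h' * A.n b) = h * (A.n a * h' * (A.n a)⁻¹) * (A.n a * A.n b) := by group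
    _ = _ := by rw [e]; group

theorem N_eq {k k' : G} (hk : k ∈ A.H) (hk' : k' ∈ A.H) {a b : W}
    (h : (k * A.n a)⁻¹ * (k' * A.n b) ∈ A.B) : a = b := by
  refine A.n_inj_B ?_
  have h1 : (A.n a)⁻¹ * (k⁻¹ * k') * A.n a ∈ A.B := A.H_le_B (A.n_conj_H' a (mul_mem (inv_mem hk) hk'))
  have := mul_mem (inv_mem h1) h
  simpa [mul_assoc] using this

end Ambient

theorem index_centralizer {G : Type*} [Group G] (g : G) :
    (Subgroup.centralizer ({g} : Set G)).index = Nat.card {h : G // h ∈ conjugatesOf g} := by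
  have h1 : (Subgroup.centralizer ({g} : Set G)).index = (MulAction.stabilizer (ConjAct G) g).index :=
    (congrArg Subgroup.index (Subgroup.centralizer_eq_comap_stabilizer g)).trans
      (Subgroup.index_comap_of_surjective (H := MulAction.stabilizer (ConjAct G) g)
        (f := (ConjAct.toConjAct (G := G)).toMonoidHom) ConjAct.toConjAct.surjective)
  rw [h1, MulAction.index_stabilizer, ← Nat.card_coe_set_eq]
  refine Nat.card_congr (Equiv.subtypeEquivRight fun h => ?_)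
  rw [ConjAct.mem_orbit_conjAct]
  exact isConj_comm

section Chevalley

variable {D : ChevalleyDatum} {F : Type*} [Field F] (Q : H37.Chev.Data D F)
include Q

/-- Conjugation of a root element by a monomial element. -/
theorem conj_root {h : ↥(D.group F)} (hh : h ∈ Q.amb.H) (w : Q.X.M.Group) {r : ℕ} (hr : r < D.nroots)
    (t : F) : ∃ t', (h * Q.amb.n w)⁻¹ * Q.sys.x r t * (h * Q.amb.n w) =
      Q.sys.x (Q.X.good.hom w⁻¹ ⟨r, hr⟩).val t' := by
  obtain ⟨k, hk, e⟩ := Q.sys.rep_inv w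
  obtain ⟨t1, e1⟩ := Q.sys.h_conj h⁻¹ (inv_mem hh) r hr t
  obtain ⟨t2, e2⟩ := Q.sys.rep_conj w⁻¹ r hr t1
  obtain ⟨t3, e3⟩ := Q.sys.h_conj k hk _ (Fin.isLt (Q.X.good.hom w⁻¹ ⟨r, hr⟩)) t2
  refine ⟨t3, ?_⟩
  show (h * Q.sys.rep w)⁻¹ * Q.sys.x r t * (h * Q.sys.rep w) = _
  rw [← e3, ← e2, ← e1, show Q.sys.rep w = ((Q.sys.rep w)⁻¹)⁻¹ from (inv_inv _).symm, e]
  group

theorem nG_eq (i : Fin Q.X.n) :
    ∃ h ∈ Q.amb.H, nG Q.K F i.val = h * Q.amb.n (Q.X.M.simple i) := by
  obtain ⟨h, hh, e⟩ := Q.sys.rep_simple i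
  refine ⟨h⁻¹, inv_mem hh, ?_⟩
  show Q.sys.ns i.val = h⁻¹ * Q.sys.rep _
  rw [e, inv_mul_cancel_left]

theorem radical_transitive [Finite F] (hS : H37.Chev.Sup Q.X.C D Q.X.n) {Jn : Finset ℕ}
    (hJ : Jn ⊆ Finset.range D.rank) {n : ↥(D.group F)} (hn : n ∈ Q.amb.pair.N)
    {L : Finset ↥(D.group F)} (hL : L ⊆ BNSt.gens Q.amb.pair)
    (hrel : ∀ i ∈ Jn, ∃ k ∈ L, StSS.Rel Q.amb.pair n (nG Q.K F i) k)
    {u : ↥(D.group F)} (hu : u ∈ Q.amb.pair.parabolic (nG Q.K F '' (Jn : Set ℕ))) :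
    ∃ v ∈ (D.unipotentRadical F (Jn : Set ℕ)).subgroupOf (D.group F),
      n⁻¹ * (v⁻¹ * u) * n ∈ Q.amb.pair.parabolic (L : Set ↥(D.group F)) := by
  set P := Q.amb.pair
  set V := (D.unipotentRadical F (Jn : Set ℕ)).subgroupOf (D.group F)
  set PJ := P.parabolic (nG Q.K F '' (Jn : Set ℕ)) with hPJdef
  set PL := P.parabolic (L : Set ↥(D.group F))
  let S' : Subgroup ↥(D.group F) := PJ ⊓ PL.comap (MulAut.conj n⁻¹).toMonoidHom
  have hS' : ∀ x, x ∈ S' ↔ x ∈ PJ ∧ n⁻¹ * x * n ∈ PL := fun x => by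
    simp [S', Subgroup.mem_inf, Subgroup.mem_comap]
  have hPJ : PJ = (D.parabolicSubgroup F (Jn : Set ℕ)).subgroupOf (D.group F) :=
    (H54.ChevSt.parabolicIn_eq Q hJ).symm
  have hBJ : P.B ≤ PJ := le_sup_left
  have hnorm : PJ ≤ Subgroup.normalizer (V : Set ↥(D.group F)) := by
    intro x hx
    rw [hPJ, Subgroup.mem_subgroupOf] at hx
    have h := Q.parabolic_le_normalizer hS (J := (Jn : Set ℕ)) hx
    rw [Subgroup.mem_normalizer_iff] at h ⊢
    intro y
    simp only [V, Subgroup.mem_subgroupOf, Subgroup.coe_mul, InvMemClass.coe_inv]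
    exact h _
  obtain ⟨h0, hh0, w, rfl⟩ := hn
  have hnH : ∀ t ∈ Q.amb.H, (h0 * Q.amb.n w)⁻¹ * t * (h0 * Q.amb.n w) ∈ Q.amb.H := fun t ht => by
    have := Q.amb.n_conj_H' w (mul_mem (mul_mem (inv_mem hh0) ht) hh0)
    simpa [mul_assoc] using this
  have hH : Q.amb.H ≤ S' := fun t ht => (hS' t).2
    ⟨hBJ (Q.amb.H_le_B ht), (le_sup_left : P.B ≤ PL) (Q.amb.H_le_B (hnH t ht))⟩
  have hj : ∀ i ∈ Jn, nG Q.K F i ∈ S' := by
    intro i hi
    refine (hS' _).2 ⟨Subgroup.mem_sup_right (Subgroup.subset_closure ⟨i, hi, rfl⟩), ?_⟩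
    obtain ⟨k, hk, hr⟩ := hrel i hi
    have hkP : k ∈ PL := Subgroup.mem_sup_right (Subgroup.subset_closure hk)
    have e : (h0 * Q.amb.n w)⁻¹ * nG Q.K F i * (h0 * Q.amb.n w) =
        k * ((nG Q.K F i * (h0 * Q.amb.n w))⁻¹ * (h0 * Q.amb.n w * k))⁻¹ := by group
    rw [e]
    exact mul_mem hkP (inv_mem ((le_sup_left : P.B ≤ PL) hr))
  have hroot : ∀ r, r < D.nroots → D.nroots / 2 ≤ r → D.InRootSub (Jn : Set ℕ) r →
      ∀ t, Q.sys.x r t ∈ S' := by
    intro r
    induction r using Nat.strong_induction_on with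
    | _ r ih =>
      intro hr hp hJr t
      have hB : Q.sys.x r t ∈ PJ := hBJ (Q.amb.U_le_B (Q.sys.x_mem_U hr hp t))
      rcases H37.Chev.descend Q.X.good Q.K hS hJr hp with ⟨i, hi, hiJ, rfl⟩ | ⟨i, hi, hiJ, h1, h2, h3⟩
      · refine (hS' _).2 ⟨hB, ?_⟩
        obtain ⟨t', e⟩ := conj_root Q hh0 w hr t
        rw [e]
        set r' := (Q.X.good.hom w⁻¹ ⟨D.simple i, hr⟩).val with hr'
        have hr'lt : r' < D.nroots := Fin.isLt _
        rcases Nat.lt_or_ge r' (D.nroots / 2) with hneg | hpos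
        swap
        · exact (le_sup_left : P.B ≤ PL) (Q.amb.U_le_B (Q.sys.x_mem_U hr'lt hpos t'))
        obtain ⟨k, hk, hrk⟩ := hrel i hiJ
        have hkS := (BNSt.mem_gens P).1 (hL hk)
        have hkS' : k ∈ (Finset.range D.rank).image (nG Q.K F) := by
          rw [← H54.ChevSt.gens_eq Q]; exact hL hk
        obtain ⟨l, hl, rfl⟩ := Finset.mem_image.1 hkS'
        have hl' : l < Q.X.n := Q.rank_eq ▸ Finset.mem_range.1 hl
        obtain ⟨ha, hha, ea⟩ := nG_eq Q ⟨i, hi⟩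
        obtain ⟨hb, hhb, eb⟩ := nG_eq Q ⟨l, hl'⟩
        obtain ⟨c1, hc1, f1⟩ := N_mul Q.amb hha hh0 (Q.X.M.simple ⟨i, hi⟩) w
        obtain ⟨c2, hc2, f2⟩ := N_mul Q.amb hh0 hhb w (Q.X.M.simple ⟨l, hl'⟩)
        have hW : Q.X.M.simple ⟨i, hi⟩ * w = w * Q.X.M.simple ⟨l, hl'⟩ := by
          refine N_eq Q.amb hc1 hc2 ?_
          rw [← f1, ← f2, ← ea, ← eb]
          exact hrk
        have hW' : w⁻¹ * Q.X.M.simple ⟨i, hi⟩ = Q.X.M.simple ⟨l, hl'⟩ * w⁻¹ := by
          calc w⁻¹ * Q.X.M.simple ⟨i, hi⟩ = w⁻¹ * (Q.X.M.simple ⟨i, hi⟩ * w) * w⁻¹ := by group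
            _ = _ := by rw [hW]; group
        have hσ : Q.X.C.sigma l r' = D.nroots - 1 - r' := by
          have e1 : (Q.X.good.hom (Q.X.M.simple ⟨l, hl'⟩ * w⁻¹) ⟨D.simple i, hr⟩).val = Q.X.C.sigma l r' := by
            rw [map_mul, Equiv.Perm.mul_apply, Q.X.good.hom_simple, Q.X.good.sigmaPerm_val]
          have e2 : Q.X.good.sigmaPerm ⟨i, hi⟩ ⟨D.simple i, hr⟩ = ⟨D.nroots - 1 - D.simple i, by omega⟩ := by
            refine Fin.ext ?_
            rw [Q.X.good.sigmaPerm_val]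
            exact (neg_simple_eq Q.X.good Q.K hi).trans (Q.K.neg_eq _ hr)
          rw [← e1, ← hW', map_mul, Equiv.Perm.mul_apply, Q.X.good.hom_simple, e2,
            Q.X.good.hom_neg w⁻¹ ⟨D.simple i, hr⟩]
        obtain ⟨t2, e2⟩ := Q.sys.n_conj l hl' r' hr'lt t'
        rw [hσ] at e2
        have hev := Q.X.good.even
        have hmem : Q.sys.x (D.nroots - 1 - r') t2 ∈ PL :=
          (le_sup_left : P.B ≤ PL) (Q.amb.U_le_B (Q.sys.x_mem_U (by omega) (by omega) t2))
        have hnl : Q.sys.ns l ∈ PL := Subgroup.mem_sup_right (Subgroup.subset_closure hk)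
        have e3 : Q.sys.x r' t' = (Q.sys.ns l)⁻¹ * Q.sys.x (D.nroots - 1 - r') t2 * Q.sys.ns l := by
          rw [← e2]; group
        rw [e3]
        exact mul_mem (mul_mem (inv_mem hnl) hmem) hnl
      · obtain ⟨t2, e2⟩ := Q.sys.n_conj i hi r hr t
        have hx := ih _ h1 h3.1 h2 h3 t2
        have hni : Q.sys.ns i ∈ S' := hj i hiJ
        have e3 : Q.sys.x r t = (Q.sys.ns i)⁻¹ * Q.sys.x (Q.X.C.sigma i r) t2 * Q.sys.ns i := by
          rw [← e2]; group
        rw [e3]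
        exact mul_mem (mul_mem (inv_mem hni) hx) hni
  have hU : Q.amb.U ≤ V ⊔ S' := by
    refine XS_le fun r hr t => ?_
    obtain ⟨h1, h2⟩ := mem_posSet.1 hr
    by_cases hJr : D.InRootSub (Jn : Set ℕ) r
    · exact Subgroup.mem_sup_right (hroot r h1 h2 hJr t)
    · refine Subgroup.mem_sup_left ?_
      show _ ∈ D.unipotentRadical F (Jn : Set ℕ)
      rw [Q.radical_eq hS]
      exact Subgroup.subset_closure ⟨r, t, ⟨(Q.ord.isPosRoot_iff r).2 ⟨h1, h2⟩, hJr⟩, h1, rfl⟩
  have hall : PJ ≤ V ⊔ S' := by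
    refine sup_le ?_ ((Subgroup.closure_le _).2 ?_)
    · rw [Q.amb.pair_B, Q.amb.B_eq_sup]
      exact sup_le hU (le_trans hH le_sup_right)
    · rintro _ ⟨i, hi, rfl⟩
      exact Subgroup.mem_sup_right (hj i hi)
  obtain ⟨v, hv, a, ha, e⟩ := (Coprime.mem_sup_iff (inf_le_left.trans hnorm)).1 (hall hu)
  refine ⟨v, hv, ?_⟩
  rw [← e, inv_mul_cancel_left]
  exact ((hS' a).1 ha).2

/-- The Steinberg character at a `p'`-element. -/
theorem value [Finite F] (hS : H37.Chev.Sup Q.X.C D Q.X.n) (p : ℕ) [hp : Fact p.Prime] [CharP F p]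
    (g : ↥(D.group F)) (hg : ¬ p ∣ orderOf g) :
    D.steinbergCharacter F g = ((p ^ (Nat.card ↥(Subgroup.centralizer ({g} : Set ↥(D.group F)))).factorization p : ℕ) : ℂ) ∨
      D.steinbergCharacter F g = -((p ^ (Nat.card ↥(Subgroup.centralizer ({g} : Set ↥(D.group F)))).factorization p : ℕ) : ℂ) := by
  set P := Q.amb.pair with hPdef
  have hex : ∃ m, ∃ J ⊆ BNSt.gens P, J.card = m ∧ ∃ x, x⁻¹ * g * x ∈ P.parabolic (J : Set _) :=
    ⟨_, BNSt.gens P, subset_rfl, rfl, 1, by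
      rw [BNSt.gens, Set.Finite.coe_toFinset, H28.parabolic_S]; trivial⟩
  obtain ⟨J, hJ, hJc, x, hx⟩ := Nat.find_spec hex
  set g' := x⁻¹ * g * x with hg'
  have hmin : ∀ J' ⊆ J, J' ≠ J → ∀ y, y⁻¹ * g' * y ∉ P.parabolic (J' : Set _) := by
    intro J' hJ' hne y hy
    have hlt : J'.card < Nat.find hex :=
      hJc ▸ Finset.card_lt_card (Finset.ssubset_iff_subset_ne.2 ⟨hJ', hne⟩)
    refine Nat.find_min hex hlt ⟨J', hJ'.trans hJ, rfl, x * y, ?_⟩
    simpa [hg', mul_assoc] using hy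
  obtain ⟨w, L, hL, hrel, hval⟩ := StSS.st_minimal hJ hx hmin
  have hJ' : J ⊆ (Finset.range D.rank).image (nG Q.K F) := by rw [← H54.ChevSt.gens_eq Q]; exact hJ
  obtain ⟨Jn, hJn, rfl⟩ := Finset.subset_image_iff.1 hJ'
  rw [Finset.coe_image] at hx
  set V := (D.unipotentRadical F (Jn : Set ℕ)).subgroupOf (D.group F) with hV
  set PJ := P.parabolic (nG Q.K F '' (Jn : Set ℕ))
  have hVU : V ≤ Q.amb.U := by
    rw [Q.amb_U]
    exact fun v hv => Q.radical_le_pos hS hv
  have hVP : V ≤ PJ := fun v hv => (le_sup_left : P.B ≤ PJ) (Q.amb.U_le_B (hVU hv))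
  have hnorm : PJ ≤ Subgroup.normalizer (V : Set ↥(D.group F)) := by
    intro y hy
    rw [show PJ = (D.parabolicSubgroup F (Jn : Set ℕ)).subgroupOf (D.group F) from
      (H54.ChevSt.parabolicIn_eq Q hJn).symm, Subgroup.mem_subgroupOf] at hy
    have h := Q.parabolic_le_normalizer hS (J := (Jn : Set ℕ)) hy
    rw [Subgroup.mem_normalizer_iff] at h ⊢
    intro z
    simp only [hV, Subgroup.mem_subgroupOf, Subgroup.coe_mul, InvMemClass.coe_inv]
    exact h _
  have hpF : ∃ f : ℕ, Nat.card F = p ^ f := by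
    letI := Fintype.ofFinite F
    obtain ⟨f, -, hf⟩ := FiniteField.card F p
    exact ⟨f, by rw [Nat.card_eq_fintype_card, hf]⟩
  obtain ⟨f, hf⟩ := hpF
  have hUp : IsPGroup p Q.amb.U := IsPGroup.of_card (n := f * (D.nroots / 2))
    (by rw [show Nat.card Q.amb.U = Nat.card F ^ (D.nroots / 2) from Q.sys.card_U, hf, pow_mul])
  have hVpg : IsPGroup p V := hUp.to_le hVU
  -- the fixed points
  set Aₐ := Subgroup.zpowers g'
  have hgo : orderOf g' = orderOf g := by
    rw [hg']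
    exact (orderOf_injective (MulAut.conj x⁻¹).toMonoidHom (MulAut.conj x⁻¹).injective g) ▸ by simp
  have hcop : (Nat.card Aₐ).Coprime (Nat.card V) := by
    obtain ⟨e, he⟩ := IsPGroup.iff_card.1 hVpg
    rw [Nat.card_zpowers, hgo, he]
    exact (Nat.Coprime.pow_right e ((hp.out.coprime_iff_not_dvd.2 hg).symm))
  have hAV : Aₐ ≤ Subgroup.normalizer (V : Set ↥(D.group F)) :=
    Subgroup.zpowers_le.2 (hnorm hx)
  have hsolv : Group.IsSolvable Aₐ ∨ Group.IsSolvable V := Or.inl inferInstance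
  let PL := P.parabolic (L : Set ↥(D.group F))
  let n := BNSt.rep P w
  let Y : Set (↥(D.group F) ⧸ PL) :=
    {d | ∃ q ∈ PJ, d = ((q * n : ↥(D.group F)) : ↥(D.group F) ⧸ PL)}
  have hstab : ∀ q ∈ PJ, ∀ d ∈ Y, q • d ∈ Y := by
    rintro q hq _ ⟨q', hq', rfl⟩
    exact ⟨q * q', mul_mem hq hq', by rw [MulAction.Quotient.smul_coe, smul_eq_mul, mul_assoc]⟩
  have htrans : ∀ d ∈ Y, ∀ d' ∈ Y, ∃ v ∈ V, v • d = d' := by
    have key : ∀ d ∈ Y, ∃ v ∈ V, v • ((n : ↥(D.group F)) : ↥(D.group F) ⧸ PL) = d := by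
      rintro _ ⟨q, hq, rfl⟩
      obtain ⟨v, hv, hv'⟩ := radical_transitive Q hS hJn (BNSt.rep_mem P w) hL
        (fun i hi => hrel _ (Finset.mem_image_of_mem _ hi)) hq
      refine ⟨v, hv, ?_⟩
      rw [MulAction.Quotient.smul_coe, smul_eq_mul, QuotientGroup.eq]
      simpa [n, mul_assoc] using hv'
    intro d hd d' hd'
    obtain ⟨v, hv, e⟩ := key d hd
    obtain ⟨v', hv', e'⟩ := key d' hd'
    exact ⟨v' * v⁻¹, mul_mem hv' (inv_mem hv), by rw [mul_smul, ← e, inv_smul_smul, e']⟩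
  obtain ⟨d0, hd0Y, hd0⟩ := Coprime.exists_fixed_point hAV hcop hsolv (S := Y)
    ⟨_, 1, one_mem _, rfl⟩ (fun a ha => hstab a (Subgroup.zpowers_le.2 hx ha)) htrans
    (fun v hv => hstab v (hVP hv))
  set C := V ⊓ Subgroup.centralizer (Aₐ : Set ↥(D.group F))
  have hfix : {d : ↥(D.group F) ⧸ PL | g' • d = d ∧ d ∈ Y} = MulAction.orbit C d0 := by
    ext d
    constructor
    · rintro ⟨hd, hdY⟩
      obtain ⟨v, hv, e⟩ := htrans d0 hd0Y d hdY
      obtain ⟨c, hc, e'⟩ := Coprime.exists_centralizer_smul_eq hAV hcop hsolv hd0 (y := d)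
        (fun a ha => by
          have hle : Aₐ ≤ MulAction.stabilizer _ d := Subgroup.zpowers_le.2 hd
          exact hle ha) hv e
      exact ⟨⟨c, hc⟩, e'⟩
    · rintro ⟨⟨c, hc⟩, rfl⟩
      refine ⟨?_, hstab c (hVP hc.1) d0 hd0Y⟩
      show g' • c • d0 = c • d0
      have e := Subgroup.mem_centralizer_iff.1 hc.2 g' (Subgroup.mem_zpowers g')
      rw [← mul_smul, e, mul_smul, hd0 g' (Subgroup.mem_zpowers g')]
  have hF : Nat.card (StSS.Fix P g' (Jn.image (nG Q.K F)) (L : Set ↥(D.group F)) w) =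
      (MulAction.stabilizer C d0).index := by
    rw [MulAction.index_stabilizer, ← hfix, ← Nat.card_coe_set_eq]
    refine Nat.card_congr (Equiv.subtypeEquivRight fun d => ?_)
    simp only [Finset.coe_image]
    rfl
  have hCg : Nat.card C ∣ Nat.card (Subgroup.centralizer ({g} : Set ↥(D.group F))) := by
    have hle : C.map (MulAut.conj x).toMonoidHom ≤ Subgroup.centralizer ({g} : Set ↥(D.group F)) := by
      rintro _ ⟨c, hc, rfl⟩
      rw [Subgroup.mem_centralizer_singleton_iff]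
      have e := Subgroup.mem_centralizer_iff.1 hc.2 g' (Subgroup.mem_zpowers g')
      have e2 : g = x * g' * x⁻¹ := by rw [hg']; group
      rw [e2]
      simp only [MulEquiv.coe_toMonoidHom, MulAut.conj_apply]
      calc x * c * x⁻¹ * (x * g' * x⁻¹) = x * (c * g') * x⁻¹ := by group
        _ = x * (g' * c) * x⁻¹ := by rw [e]
        _ = _ := by group
    have := Subgroup.card_dvd_of_le hle
    rwa [Subgroup.card_map_of_injective (MulAut.conj x).injective] at this
  set Fv := (MulAction.stabilizer C d0).index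
  obtain ⟨a, ha⟩ : ∃ a, Fv = p ^ a := (hVpg.to_le (inf_le_left : C ≤ V)).index _
  set Cg := Nat.card (Subgroup.centralizer ({g} : Set ↥(D.group F))) with hCgdef
  have hCg0 : Cg ≠ 0 := Nat.card_pos.ne'
  have hle : a ≤ Cg.factorization p :=
    (hp.out.pow_dvd_iff_le_factorization hCg0).1
      (ha ▸ (Subgroup.index_dvd_card _).trans hCg)
  have hst : D.steinbergCharacter F g = (Fv : ℂ) ∨ D.steinbergCharacter F g = -(Fv : ℂ) := by
    have e : D.steinbergCharacter F g = BNSt.st P g' := by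
      rw [H54.ChevSt.steinberg_eq Q, ← BNSt.st_conj P g' x, hg']
      congr 1
      group
    rw [e, ← hF]
    exact hval
  -- divisibility by the `p`-part of the centraliser
  have hirr := H54.ChevSt.isIrr Q (F := F)
  obtain ⟨z, hz⟩ : ∃ z : ℕ, Fv * (Subgroup.centralizer ({g} : Set ↥(D.group F))).index =
      z * Nat.card F ^ (D.nroots / 2) := by
    letI := Fintype.ofFinite ↥(D.group F)
    let c : ↥(D.group F) → ℂ := fun h => if h ∈ conjugatesOf g then 1 else 0
    have hc : Cfsg.IsClassFunction ↥(D.group F) c := by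
      intro h k
      have : k * h * k⁻¹ ∈ conjugatesOf g ↔ h ∈ conjugatesOf g := by
        have hk : IsConj h (k * h * k⁻¹) := isConj_iff.2 ⟨k, rfl⟩
        exact ⟨fun H => IsConj.trans H hk.symm, fun H => IsConj.trans H hk⟩
      simp only [c, this]
    have hint := H83.omega_isIntegral hc (fun h => by
      simp only [c]; split_ifs <;> [exact isIntegral_one; exact isIntegral_zero]) hirr
    have hsum : ∑ h, c h * D.steinbergCharacter F h =
        ((Subgroup.centralizer ({g} : Set ↥(D.group F))).index : ℂ) * D.steinbergCharacter F g := by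
      simp only [c, ite_mul, one_mul, zero_mul]
      rw [← Finset.sum_filter, Finset.sum_congr rfl (g := fun _ => D.steinbergCharacter F g)
        (fun h hh => by
          obtain ⟨y, hy⟩ := isConj_iff.1 (Finset.mem_filter.1 hh).2
          rw [← hy, H54.ChevSt.steinberg_eq Q, BNSt.st_conj]), Finset.sum_const, nsmul_eq_mul]
      congr 2
      rw [index_centralizer g, Nat.card_eq_fintype_card, Fintype.card_subtype]
    rw [hsum, H54.ChevSt.degree Q] at hint
    set m := (Subgroup.centralizer ({g} : Set ↥(D.group F))).index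
    set dd := Nat.card F ^ (D.nroots / 2) with hdd
    have hq : IsIntegral ℤ (((Fv * m : ℕ) : ℚ) / ((dd : ℕ) : ℚ)) := by
      refine (isIntegral_algebraMap_iff (algebraMap ℚ ℂ).injective).1 ?_
      simp only [map_div₀, map_natCast]
      rcases hst with h | h <;> rw [h] at hint
      · convert hint using 1
        rw [hdd]; push_cast; ring
      · convert hint.neg using 1
        rw [hdd]; push_cast; ring
    obtain ⟨z, hz⟩ := IsIntegrallyClosed.isIntegral_iff.1 hq
    have hdd0 : (dd : ℚ) ≠ 0 := Nat.cast_ne_zero.2 (pow_ne_zero _ Nat.card_pos.ne')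
    rw [eq_div_iff hdd0] at hz
    have hz' : ((z * (dd : ℤ) : ℤ) : ℚ) = (((Fv * m : ℕ) : ℤ) : ℚ) := by
      push_cast
      simpa using hz
    have hz'' := Int.cast_inj.1 hz'
    have hdvd : (dd : ℤ) ∣ ((Fv * m : ℕ) : ℤ) := ⟨z, by rw [← hz'']; ring⟩
    obtain ⟨z', hz'⟩ := Int.natCast_dvd_natCast.1 hdvd
    exact ⟨z', by rw [hz', mul_comm]⟩
  have hge : Cg.factorization p ≤ a := by
    have h0 : Cg * (Subgroup.centralizer ({g} : Set ↥(D.group F))).index = Nat.card ↥(D.group F) :=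
      Subgroup.card_mul_index _
    have hd := H54.ChevSt.defect_zero Q (F := F) p
    set dd := Nat.card F ^ (D.nroots / 2) with hdd
    have hdvd : dd ∣ Nat.card ↥(D.group F) := by
      rw [hdd, ← Q.sys.card_U]
      exact Subgroup.card_subgroup_dvd_card _
    have hGf : (Nat.card ↥(D.group F)).factorization p = dd.factorization p := by
      have h1 := Nat.factorization_eq_zero_of_not_dvd hd
      rw [Nat.factorization_div hdvd] at h1
      have h2 : dd.factorization p ≤ (Nat.card ↥(D.group F)).factorization p :=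
        (Nat.factorization_le_iff_dvd (pow_ne_zero _ Nat.card_pos.ne') Nat.card_pos.ne').2 hdvd p
      simp only [Finsupp.tsub_apply] at h1
      omega
    set m := (Subgroup.centralizer ({g} : Set ↥(D.group F))).index
    have hm0 : m ≠ 0 := Subgroup.index_ne_zero_of_finite
    have hFv0 : Fv ≠ 0 := Subgroup.index_ne_zero_of_finite
    have hz0 : z ≠ 0 := by
      rintro rfl
      rw [zero_mul] at hz
      exact mul_ne_zero hFv0 hm0 hz
    have h3 : (Fv * m).factorization p = (z * dd).factorization p :=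
      congrArg (fun k => k.factorization p) hz
    rw [Nat.factorization_mul hFv0 hm0, Nat.factorization_mul hz0 (show dd ≠ 0 from pow_ne_zero _ Nat.card_pos.ne'),
      Finsupp.add_apply, Finsupp.add_apply, ha, hp.out.factorization_pow, Finsupp.single_eq_same] at h3
    have h4 : (Cg * m).factorization p = (Nat.card ↥(D.group F)).factorization p :=
      congrArg (fun k => k.factorization p) h0
    rw [Nat.factorization_mul hCg0 hm0, Finsupp.add_apply, hGf] at h4
    omega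
  rw [← Nat.le_antisymm hle hge, ← ha]
  exact hst

end Chevalley

end Cfsg.Agent.H49.ChevStValue
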