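import Cfsg.Agent.H49.ChiefDeg
import Cfsg.Agent.H49.WeakClosure
import Mathlib

/-!
Weak closure of central elements from elements of degree `p - 1` on the central chief factors of `O_p`
(the setting of S1973).
-/

set_option autoImplicit false
set_option linter.style.haveILetI false
set_option linter.unusedSectionVars false

namespace Cfsg.Agent.H49

open Subgroup
open Cfsg.Agent.H48
open scoped commutatorElement

universe u v w

/-! ### Products over orbits of `p`-groups -/

theorem orbit_prod_aux {p : ℕ} [hp : Fact p.Prime] {A : Type v} [CommGroup A] (E : Subgroup A) :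
    ∀ (n : ℕ) (P : Type u) [Group P] [Finite P], Nat.card P = n → IsPGroup p P →
      ∀ (α : Type w) [MulAction P α] [Fintype α] (C : Set P) (f : α → A),
        (∀ c ∈ C, ∀ a : α, ∏ i ∈ Finset.range p, f (c ^ i • a) ∈ E) →
        (∀ a : α, ∃ c ∈ C, c • a ≠ a) → ∏ a, f a ∈ E := by
  intro n
  induction n using Nat.strong_induction_on with
  | _ n ih =>
  intro P _ _ hn hP α _ _ C f hnorm hfix
  classical
  have horb : ∀ o : α, ∏ a : MulAction.orbit P o, f a ∈ E := by
    intro o
    obtain ⟨k, hk⟩ := IsPGroup.iff_card.mp hP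
    have hS : MulAction.stabilizer P o ≠ ⊤ := fun h => by
      obtain ⟨c, -, hc⟩ := hfix o
      exact hc (h ▸ Subgroup.mem_top c : c ∈ MulAction.stabilizer P o)
    obtain ⟨j, hj⟩ := IsPGroup.iff_card.mp (hP.to_subgroup (MulAction.stabilizer P o))
    have hjk : j < k := by
      rcases lt_or_ge j k with h | h
      · exact h
      · refine absurd (Subgroup.eq_top_of_le_card _ ?_) hS
        rw [hk, hj]; exact Nat.pow_le_pow_right hp.out.pos h
    obtain ⟨Q, hQ, hSQ⟩ := Sylow.exists_subgroup_card_pow_prime_le p (m := k - 1)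
      (hk ▸ Nat.pow_dvd_pow p (by omega)) _ hj (by omega)
    have hidx : Q.index = p := by
      have h := Q.card_mul_index
      rw [hQ, hk, show p ^ k = p ^ (k - 1) * p by rw [← pow_succ]; congr 1; omega] at h
      exact Nat.eq_of_mul_eq_mul_left (pow_pos hp.out.pos _) h
    haveI : Q.Normal := by
      refine Subgroup.normal_of_index_eq_minFac_card ?_
      rw [hidx, hk, Nat.Prime.pow_minFac hp.out (by omega)]
    have hlt : Nat.card Q < n := by
      rw [← hn, hQ, hk]
      exact Nat.pow_lt_pow_right hp.out.one_lt (by omega)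
    by_cases hCQ : C ⊆ (Q : Set P)
    · refine ih _ hlt Q rfl (hP.to_subgroup Q) (MulAction.orbit P o) (Subtype.val ⁻¹' C)
        (fun a => f a) (fun c hc a => ?_) (fun a => ?_)
      · exact hnorm c hc a
      · obtain ⟨c, hc, hca⟩ := hfix a
        exact ⟨⟨c, hCQ hc⟩, hc, fun h => hca (congrArg Subtype.val h)⟩
    obtain ⟨c, hcC, hcQ⟩ := Set.not_subset.mp hCQ
    have hcard : Nat.card (P ⧸ Q) = p := hidx
    have hc1 : (c : P ⧸ Q) ≠ 1 := fun h => hcQ ((QuotientGroup.eq_one_iff c).mp h)
    let Φ : Fin p × MulAction.orbit Q o → MulAction.orbit P o := fun x =>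
      ⟨c ^ (x.1 : ℕ) • (x.2 : α), by
        obtain ⟨q, hq⟩ := x.2.2
        exact ⟨c ^ (x.1 : ℕ) * q, by rw [← hq]; exact mul_smul _ _ _⟩⟩
    have hΦ : Function.Bijective Φ := by
      constructor
      · rintro ⟨i, z, q, rfl⟩ ⟨j, z', q', rfl⟩ h
        have h' : c ^ (i : ℕ) • (q : P) • o = c ^ (j : ℕ) • (q' : P) • o :=
          congrArg Subtype.val h
        have hm : (c ^ (i : ℕ) * q)⁻¹ * (c ^ (j : ℕ) * q') ∈ Q := by
          refine hSQ ?_
          rw [MulAction.mem_stabilizer_iff, mul_smul, mul_smul (c ^ (j : ℕ)), ← h',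
            ← mul_smul (c ^ (i : ℕ)), inv_smul_smul]
        have e : ((c : P ⧸ Q)) ^ (i : ℕ) = (c : P ⧸ Q) ^ (j : ℕ) := by
          have h1 := QuotientGroup.eq.mpr hm
          simpa [(QuotientGroup.eq_one_iff (q : P)).mpr q.2,
            (QuotientGroup.eq_one_iff (q' : P)).mpr q'.2] using h1
        have ho : orderOf (c : P ⧸ Q) = p :=
          ((Nat.dvd_prime hp.out).mp (hcard ▸ orderOf_dvd_natCard _)).resolve_left
            (by simpa using hc1)
        have hij : i = j := Fin.ext (pow_injOn_Iio_orderOf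
          (by simp [ho]) (by simp [ho]) e)
        subst hij
        exact Prod.ext rfl (Subtype.ext (smul_left_cancel _ h'))
      · rintro ⟨a, g, rfl⟩
        obtain ⟨m, hm⟩ := mem_powers_of_prime_card hcard (g' := (g : P ⧸ Q)) hc1
        have hm' : (c ^ (m % p))⁻¹ * g ∈ Q := by
          refine QuotientGroup.eq.mp ?_
          have h1 : ((c : P ⧸ Q)) ^ (m % p) = (c : P ⧸ Q) ^ m := by
            conv_rhs => rw [← Nat.div_add_mod m p]
            rw [pow_add, pow_mul, show (c : P ⧸ Q) ^ p = 1 from hcard ▸ pow_card_eq_one', one_pow,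
              one_mul]
          rw [QuotientGroup.mk_pow, h1]
          exact hm
        refine ⟨(⟨m % p, Nat.mod_lt _ hp.out.pos⟩, ⟨_, ⟨_, hm'⟩, rfl⟩), Subtype.ext ?_⟩
        show c ^ (m % p) • (((c ^ (m % p))⁻¹ * g) • o) = g • o
        rw [← mul_smul, mul_inv_cancel_left]
    rw [← Fintype.prod_bijective Φ hΦ (fun x => f (Φ x)) (fun a => f a) (fun _ => rfl),
      Fintype.prod_prod_type_right]
    refine E.prod_mem fun z _ => ?_
    rw [Fin.prod_univ_eq_prod_range (fun i => f (c ^ i • (z : α))) p]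
    exact hnorm c hcC z
  rw [← Fintype.prod_equiv (MulAction.selfEquivSigmaOrbits P α).symm
    (fun x => f ((MulAction.selfEquivSigmaOrbits P α).symm x)) f (fun _ => rfl), Fintype.prod_sigma]
  refine E.prod_mem fun ω _ => ?_
  convert horb ω.out using 2 with x
  rfl

/-- A function on a `p`-group orbit set multiplies into `E` if it does so along every generator and there is
no common fixed point. -/
theorem orbit_prod_mem {p : ℕ} [Fact p.Prime] {A : Type v} [CommGroup A] (E : Subgroup A)
    {P : Type u} [Group P] [Finite P] (hP : IsPGroup p P) {α : Type w} [MulAction P α] [Fintype α]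
    (C : Set P) (f : α → A) (hnorm : ∀ c ∈ C, ∀ a : α, ∏ i ∈ Finset.range p, f (c ^ i • a) ∈ E)
    (hfix : ∀ a : α, ∃ c ∈ C, c • a ≠ a) : ∏ a, f a ∈ E :=
  orbit_prod_aux E _ P rfl hP α C f hnorm hfix

/-! ### The norm of an endomorphism of degree `p - 1` -/

theorem geom_sum_eq_pow_of_cast_eq_zero {R : Type*} [Ring R] {p : ℕ} (hp : p.Prime) (h0 : (p : R) = 0)
    (D : R) : ∑ i ∈ Finset.range p, (D + 1) ^ i = D ^ (p - 1) := by
  have h := congrArg (Polynomial.aeval D) (Polynomial.geom_sum_X_comp_X_add_one_eq_sum (R := ℤ) p)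
  simp only [Polynomial.aeval_comp, map_sum, map_pow, map_add, map_one, Polynomial.aeval_X, map_mul,
    map_natCast] at h
  rw [h, Finset.sum_eq_single (p - 1)]
  · rw [Nat.sub_add_cancel hp.one_le, Nat.choose_self, Nat.cast_one, one_mul]
  · intro i hi hne
    rw [Finset.mem_range] at hi
    obtain ⟨d, hd⟩ := hp.dvd_choose_self (k := i + 1) (Nat.succ_ne_zero _) (by omega)
    rw [hd, Nat.cast_mul, h0, zero_mul, zero_mul]
  · intro h
    exact absurd (Finset.mem_range.mpr (Nat.sub_lt hp.pos one_pos)) h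

theorem prod_iterate_mem {A : Type*} [CommGroup A] (E : Subgroup A) {p : ℕ} (hp : p.Prime)
    (hexp : ∀ a : A, a ^ p ∈ E) (φ : A →* A) (hφ : E ≤ E.comap φ)
    (hd : ∀ a : A, ((fun b => φ b / b)^[p - 1]) a ∈ E) (a : A) :
    ∏ i ∈ Finset.range p, (φ^[i]) a ∈ E := by
  let F : AddMonoid.End (Additive (A ⧸ E)) := (QuotientGroup.map E E φ hφ).toAdditive
  have happly : ∀ (i : ℕ) (b : A),
      (F ^ i) (Additive.ofMul (b : A ⧸ E)) = Additive.ofMul (((φ^[i]) b : A) : A ⧸ E) := by
    intro i
    induction i with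
    | zero => intro b; rfl
    | succ i ih =>
      intro b
      rw [pow_succ', AddMonoid.End.coe_mul, Function.comp_apply, ih, Function.iterate_succ_apply']
      rfl
  have hD : ∀ (i : ℕ) (b : A), ((F - 1) ^ i) (Additive.ofMul (b : A ⧸ E)) =
      Additive.ofMul ((((fun c => φ c / c)^[i]) b : A) : A ⧸ E) := by
    intro i
    induction i with
    | zero => intro b; rfl
    | succ i ih =>
      intro b
      rw [pow_succ', AddMonoid.End.coe_mul, Function.comp_apply, ih, Function.iterate_succ_apply']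
      rfl
  have h0 : ((p : ℕ) : AddMonoid.End (Additive (A ⧸ E))) = 0 := by
    refine DFunLike.ext _ _ fun x => ?_
    obtain ⟨b, hb⟩ := QuotientGroup.mk_surjective (Additive.toMul x)
    rw [show x = Additive.ofMul (b : A ⧸ E) by rw [hb]; rfl]
    show p • Additive.ofMul (b : A ⧸ E) = 0
    rw [← ofMul_pow, ← QuotientGroup.mk_pow, (QuotientGroup.eq_one_iff _).mpr (hexp b)]
    rfl
  have h1 : (F - 1) ^ (p - 1) = 0 := by
    refine DFunLike.ext _ _ fun x => ?_
    obtain ⟨b, hb⟩ := QuotientGroup.mk_surjective (Additive.toMul x)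
    rw [show x = Additive.ofMul (b : A ⧸ E) by rw [hb]; rfl, hD,
      (QuotientGroup.eq_one_iff _).mpr (hd b)]
    rfl
  have h2 : ∑ i ∈ Finset.range p, F ^ i = 0 := by
    have := geom_sum_eq_pow_of_cast_eq_zero hp h0 (F - 1)
    rw [sub_add_cancel] at this
    rw [this, h1]
  have h3 := DFunLike.congr_fun h2 (Additive.ofMul (a : A ⧸ E))
  replace h3 : ∑ i ∈ Finset.range p, (F ^ i) (Additive.ofMul (a : A ⧸ E)) = 0 :=
    (AddMonoidHom.finsetSum_apply _ _ _).symm.trans h3
  simp only [happly] at h3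
  rw [← ofMul_prod, ← QuotientGroup.mk_prod] at h3
  exact (QuotientGroup.eq_one_iff _).mp (Additive.ofMul.injective h3)

/-! ### The local statement -/

/-- Where `W(T)` is not normal in `H`, some element of `T` outside `O_p(H)` has degree at most `p - 1` on the
chief factors of `H` inside `Z(O_p(H))`, chief factors being read in the ambient group. -/
def EngelHyp {G : Type*} [Group G] (p : ℕ) (W : Subgroup G → Subgroup G) : Prop :=
  ∀ H T : Subgroup G, T ≤ H → IsPGroup p ↥T → ¬ p ∣ T.relIndex H →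
    ¬ H ≤ normalizer ((W T : Subgroup G) : Set G) → ∃ g : G, g ∈ T ∧ g ∉ pCoreOf p H ∧
      ∀ U E : Subgroup G, E < U →
        U ≤ pCoreOf p H ⊓ centralizer ((pCoreOf p H : Subgroup G) : Set G) →
        H ≤ normalizer (U : Set G) → H ≤ normalizer (E : Set G) →
        (∀ D : Subgroup G, H ≤ normalizer (D : Set G) → E ≤ D → D ≤ U → D = E ∨ D = U) →
        iterCommutator U (zpowers g) (p - 1) ≤ E

variable {G : Type u} [Group G] [Finite G] {p : ℕ} [hp : Fact p.Prime]

theorem normal_ambient {U H : Subgroup G} (hn : H ≤ normalizer (U : Set G)) {h : G} (hh : h ∈ H)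
    {a : G} (ha : a ∈ U) : h * a * h⁻¹ ∈ U :=
  (mem_normalizer_iff.mp (hn hh) a).mp ha

/-- A minimal invariant section of an abelian `p`-group has exponent `p`. -/
theorem pow_mem_of_minimal {H U E : Subgroup G} (hUp : IsPGroup p U)
    (hUc : U ≤ centralizer (U : Set G)) (hnU : H ≤ normalizer (U : Set G))
    (hnE : H ≤ normalizer (E : Set G)) (hlt : E < U)
    (hmin : ∀ D : Subgroup G, H ≤ normalizer (D : Set G) → E ≤ D → D ≤ U → D = E ∨ D = U) :
    ∀ a ∈ U, a ^ p ∈ E := by
  let D : Subgroup G :=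
    { carrier := {a | a ∈ U ∧ a ^ p ∈ E}
      one_mem' := ⟨one_mem _, by rw [one_pow]; exact one_mem _⟩
      mul_mem' := fun {a b} ha hb => ⟨mul_mem ha.1 hb.1, by
        rw [Commute.mul_pow (mem_centralizer_iff.mp (hUc hb.1) a ha.1)]
        exact mul_mem ha.2 hb.2⟩
      inv_mem' := fun {a} ha => ⟨inv_mem ha.1, by rw [inv_pow]; exact inv_mem ha.2⟩ }
  have hD : H ≤ normalizer (D : Set G) := by
    rw [le_normalizer_iff]
    rintro h hh a ⟨ha1, ha2⟩
    exact ⟨normal_ambient hnU hh ha1, by rw [conj_pow]; exact normal_ambient hnE hh ha2⟩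
  rcases hmin D hD (fun a ha => ⟨hlt.le ha, pow_mem ha p⟩) (fun a ha => ha.1) with h | h
  · exfalso
    obtain ⟨b, hbU, hbE⟩ := SetLike.exists_of_lt hlt
    classical
    obtain ⟨k, hk⟩ := hUp ⟨b, hbU⟩
    have hk' : b ^ p ^ k = 1 := by simpa using congrArg Subtype.val hk
    have hex : ∃ n, b ^ p ^ n ∈ E := ⟨k, hk' ▸ one_mem E⟩
    obtain ⟨m, hm⟩ : ∃ m, Nat.find hex = m + 1 := by
      refine Nat.exists_eq_succ_of_ne_zero fun h0 => hbE ?_
      have := Nat.find_spec hex
      rwa [h0, pow_zero, pow_one] at this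
    refine Nat.find_min hex (show m < Nat.find hex by omega) (h ▸ ⟨pow_mem hbU _, ?_⟩)
    have := Nat.find_spec hex
    rwa [hm, pow_succ, pow_mul] at this
  · intro a ha
    exact (h.ge ha).2

/-- The product over an orbit of `⟨g⟩` in a section on which `g` has degree `p - 1`. -/
theorem norm_mem {U E : Subgroup G} [IsMulCommutative U] {g : G} (φ : ↥U →* ↥U)
    (hφ : ∀ a : ↥U, (φ a : G) = g * a * g⁻¹) (hgE : ∀ a ∈ E, g * a * g⁻¹ ∈ E)
    (hexp : ∀ a ∈ U, a ^ p ∈ E) (hiter : iterCommutator U (zpowers g) (p - 1) ≤ E) (a : ↥U) :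
    open scoped IsMulCommutative in ∏ i ∈ Finset.range p, (φ^[i]) a ∈ E.subgroupOf U := by
  open scoped IsMulCommutative in
  refine prod_iterate_mem (E.subgroupOf U) hp.out
    (fun b => by rw [mem_subgroupOf, SubgroupClass.coe_pow]; exact hexp _ b.2) φ ?_ ?_ a
  · intro b hb
    rw [mem_comap, mem_subgroupOf, hφ]
    exact hgE _ hb
  · intro b
    rw [mem_subgroupOf]
    refine hiter ?_
    generalize p - 1 = n
    induction n with
    | zero => exact b.2
    | succ n ih =>
      rw [Function.iterate_succ_apply', iter_succ]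
      set c := ((fun b => φ b / b)^[n]) b
      have e : ((φ c / c : ↥U) : G) = ⁅g, (c : G)⁆ := by
        simp [div_eq_mul_inv, hφ, commutatorElement_def, mul_assoc]
      rw [e, commutator_comm]
      exact commutator_mem_commutator (mem_zpowers g) ih

theorem local_engel (W : Subgroup G → Subgroup G) (hloc : EngelHyp p W) (x : G) :
    ∀ (H R : Subgroup G), IsSylowIn p R H → x ∈ pCoreOf p H → (∀ r ∈ R, r * x = x * r) →
      H ⊓ normalizer ((W R : Subgroup G) : Set G) ≤ centralizer {x} → H ≤ centralizer {x} := by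
  intro H
  induction H using WellFoundedLT.induction with
  | _ H ih =>
  intro R hR hxV hxR hM
  by_cases hW : H ≤ normalizer ((W R : Subgroup G) : Set G)
  · rwa [inf_eq_left.mpr hW] at hM
  classical
  obtain ⟨g, hgR, hgV, hdeg⟩ := hloc H R hR.le hR.isPGroup hR.ndvd hW
  set V := pCoreOf p H with hV
  have hVR : V ≤ R := pCoreOf_le_sylowIn hR
  -- the conjugates of `g` in `R`
  set C : Set G := {c | c ∈ R ∧ ∃ h ∈ H, c = h * g * h⁻¹} with hC
  set T0 : Subgroup G := Subgroup.closure C with hT0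
  have hT0R : T0 ≤ R := (closure_le R).mpr fun c hc => hc.1
  have hgT0 : g ∈ T0 := subset_closure ⟨hgR, 1, one_mem H, by simp⟩
  have hCconj : ∀ k ∈ H, (∀ c ∈ C, k * c * k⁻¹ ∈ R) → cj k T0 ≤ T0 := by
    intro k hk hkR
    rw [hT0, show cj k (closure C) = _ from MonoidHom.map_closure _ C]
    refine closure_mono ?_
    rintro _ ⟨c, hc, rfl⟩
    obtain ⟨hcR, h, hh, rfl⟩ := hc
    refine ⟨hkR _ ⟨hcR, h, hh, rfl⟩, k * h, mul_mem hk hh, ?_⟩
    simp [mul_assoc]
  set N := H ⊓ normalizer (T0 : Set G) with hN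
  have hRN : R ≤ N := le_inf hR.le fun r hr => mem_normalizer_of_cj_eq (cj_eq_self_of_le
    (hCconj r (hR.le hr) fun c hc => mul_mem (mul_mem hr hc.1) (inv_mem hr)))
  have hNlt : N < H := by
    refine lt_of_le_of_ne inf_le_left fun h => hgV ?_
    exact le_pCoreOf (hT0R.trans hR.le) (hR.isPGroup.to_le hT0R) (inf_eq_left.mp h) hgT0
  have hNx : N ≤ centralizer {x} := by
    refine ih N hNlt R ⟨hRN, hR.isPGroup, fun hd => hR.ndvd ?_⟩ ?_ hxR
      ((inf_le_inf_right _ hNlt.le).trans hM)
    · exact hd.trans (Dvd.intro _ (relIndex_mul_relIndex R N H hRN hNlt.le))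
    · exact le_pCoreOf (hVR.trans hRN) (pCoreOf_isPGroup H)
        (hNlt.le.trans (le_normalizer_pCoreOf H)) hxV
  -- descent along invariant subgroups of `Z(V)`
  suffices key : ∀ U : Subgroup G, U ≤ V ⊓ centralizer (V : Set G) → H ≤ normalizer (U : Set G) →
      ∀ y ∈ U, R ≤ centralizer {y} → N ≤ centralizer {y} → H ≤ centralizer {y} by
    refine key _ le_rfl ?_ x ⟨hxV, mem_centralizer_iff.mpr fun v hv => hxR v (hVR hv)⟩
      (fun r hr => mem_centralizer_singleton_iff.mpr (hxR r hr)) hNx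
    rw [le_normalizer_iff]
    rintro h hh z ⟨hz1, hz2⟩
    refine ⟨normal_ambient (le_normalizer_pCoreOf H) hh hz1, mem_centralizer_iff.mpr fun v hv => ?_⟩
    have hv' : h⁻¹ * v * h ∈ V := (mem_normalizer_iff''.mp (le_normalizer_pCoreOf H hh) v).mp hv
    calc v * (h * z * h⁻¹) = h * (h⁻¹ * v * h * z) * h⁻¹ := by group
      _ = h * (z * (h⁻¹ * v * h)) * h⁻¹ := by rw [mem_centralizer_iff.mp hz2 _ hv']
      _ = h * z * h⁻¹ * v := by group
  intro U
  induction U using WellFoundedLT.induction with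
  | _ U ihU =>
  intro hUZ hnU y hyU hyR hyN
  by_cases hUbot : U = ⊥
  · rw [hUbot, mem_bot] at hyU
    subst hyU
    exact fun h _ => mem_centralizer_singleton_iff.mpr (by simp)
  obtain ⟨E, ⟨hnE, hEU⟩, hmax⟩ := Set.Finite.exists_maximal
    (s := {E : Subgroup G | H ≤ normalizer (E : Set G) ∧ E < U}) (Set.toFinite _)
    ⟨⊥, fun h _ => mem_normalizer_iff.mpr (by simp), bot_lt_iff_ne_bot.mpr hUbot⟩
  have hmin : ∀ D : Subgroup G, H ≤ normalizer (D : Set G) → E ≤ D → D ≤ U → D = E ∨ D = U := by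
    intro D hD hED hDU
    rcases eq_or_lt_of_le hDU with h | h
    · exact Or.inr h
    · exact Or.inl (le_antisymm (hmax ⟨hD, h⟩ hED) hED)
  have hiter := hdeg U E hEU hUZ hnU hnE hmin
  have hUc : U ≤ centralizer (U : Set G) := hUZ.trans
    (inf_le_right.trans (centralizer_le (fun a ha => (hUZ ha).1)))
  haveI : IsMulCommutative U := le_centralizer_iff_isMulCommutative.mp hUc
  have hexp := pow_mem_of_minimal ((pCoreOf_isPGroup H).to_le (hUZ.trans inf_le_left)) hUc hnU hnE
    hEU hmin
  open scoped IsMulCommutative in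
  -- conjugation on `U`
  let ψ : (h : G) → h ∈ H → (↥U →* ↥U) := fun h hh =>
    { toFun := fun a => ⟨h * a * h⁻¹, normal_ambient hnU hh a.2⟩
      map_one' := Subtype.ext (by simp)
      map_mul' := fun a b => Subtype.ext (by simp [mul_assoc]) }
  open scoped IsMulCommutative in
  -- the class of `y`
  let X : Finset ↥U := ((Set.toFinite {z : ↥U | ∃ h ∈ H, h * y * h⁻¹ = (z : G)}).toFinset)
  have hX : ∀ z : ↥U, z ∈ X ↔ ∃ h ∈ H, h * y * h⁻¹ = (z : G) := fun z => by simp [X]
  have hyX : (⟨y, hyU⟩ : ↥U) ∈ X := (hX _).mpr ⟨1, one_mem H, by simp⟩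
  let α := {z : ↥U // z ∈ X.erase ⟨y, hyU⟩}
  haveI : Fintype α := Fintype.ofFinite α
  have hTH : T0 ≤ H := hT0R.trans hR.le
  have hfixy : ∀ t ∈ T0, t * y * t⁻¹ = y := fun t ht => by
    rw [mem_centralizer_singleton_iff.mp (hyR (hT0R ht)), mul_inv_cancel_right]
  letI act : MulAction ↥T0 α :=
    { smul := fun t z => ⟨⟨(t : G) * (z.1 : G) * (t : G)⁻¹, normal_ambient hnU (hTH t.2) z.1.2⟩, by
        obtain ⟨hne, hz⟩ := Finset.mem_erase.mp z.2
        obtain ⟨h, hh, e⟩ := (hX _).mp hz
        refine Finset.mem_erase.mpr ⟨fun he => hne (Subtype.ext ?_), (hX _).mpr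
          ⟨t * h, mul_mem (hTH t.2) hh, ?_⟩⟩
        · have h1 : (t : G) * (z.1 : G) * (t : G)⁻¹ = y := congrArg Subtype.val he
          exact (MulAut.conj (t : G)).injective (h1.trans (hfixy t t.2).symm)
        · show (t : G) * h * y * ((t : G) * h)⁻¹ = (t : G) * (z.1 : G) * (t : G)⁻¹
          simp only [← e]
          group⟩
      one_smul := fun z => Subtype.ext (Subtype.ext (by
        show ((1 : ↥T0) : G) * (z.1 : G) * ((1 : ↥T0) : G)⁻¹ = z.1
        simp))
      mul_smul := fun s t z => Subtype.ext (Subtype.ext (by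
        show ((s * t : ↥T0) : G) * (z.1 : G) * ((s * t : ↥T0) : G)⁻¹
          = (s : G) * ((t : G) * (z.1 : G) * (t : G)⁻¹) * (s : G)⁻¹
        simp [mul_assoc])) }
  have hact : ∀ (t : ↥T0) (z : α), ((t • z).1 : G) = (t : G) * (z.1 : G) * (t : G)⁻¹ := fun _ _ => rfl
  open scoped IsMulCommutative in
  have hprod : ∏ z : α, z.1 ∈ E.subgroupOf U := by
    refine orbit_prod_mem (p := p) _ (hR.isPGroup.to_le hT0R) (Subtype.val ⁻¹' C)
      (fun z : α => z.1) ?_ ?_
    · rintro c ⟨hcR, h, hh, hc⟩ z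
      have hφ := norm_mem (p := p) (ψ g (hR.le hgR)) (fun _ => rfl)
        (fun a ha => normal_ambient hnE (hR.le hgR) ha) hexp hiter (ψ h⁻¹ (inv_mem hh) z.1)
      have hit : ∀ i : ℕ, ((((ψ g (hR.le hgR))^[i]) (ψ h⁻¹ (inv_mem hh) z.1) : ↥U) : G)
          = g ^ i * (h⁻¹ * (z.1 : G) * h) * (g ^ i)⁻¹ := by
        intro i
        induction i with
        | zero => simp [ψ]
        | succ i ih =>
          rw [Function.iterate_succ_apply', pow_succ']
          show g * _ * g⁻¹ = _
          rw [ih]; group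
      have hval : ∀ i : ℕ, (c ^ i • z).1 = ψ h hh (((ψ g (hR.le hgR))^[i])
          (ψ h⁻¹ (inv_mem hh) z.1)) := by
        intro i
        refine Subtype.ext ?_
        rw [hact]
        show _ = h * _ * h⁻¹
        rw [hit, SubgroupClass.coe_pow, hc, conj_pow]
        group
      simp only [hval, ← map_prod]
      rw [mem_subgroupOf]
      exact normal_ambient hnE hh hφ
    · intro z
      by_contra hcon
      push Not at hcon
      obtain ⟨hne, hz⟩ := Finset.mem_erase.mp z.2
      obtain ⟨h, hh, e⟩ := (hX _).mp hz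
      refine hne (Subtype.ext ?_)
      have hle : cj h⁻¹ T0 ≤ H ⊓ centralizer {y} := by
        rw [hT0, show cj h⁻¹ (closure C) = _ from MonoidHom.map_closure _ C, closure_le]
        rintro _ ⟨c, hc, rfl⟩
        have h1 : c * (z.1 : G) * c⁻¹ = z.1 := by
          have := hcon ⟨c, subset_closure hc⟩ hc
          exact (hact _ _).symm.trans (congrArg (fun a : α => (a.1 : G)) this)
        refine ⟨by simpa using mul_mem (mul_mem (inv_mem hh) (hR.le hc.1)) hh,
          mem_centralizer_singleton_iff.mpr ?_⟩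
        rw [← e] at h1
        have h2 : c * (h * y * h⁻¹) = h * y * h⁻¹ * c := mul_inv_eq_iff_eq_mul.mp h1
        simp only [MulEquiv.coe_toMonoidHom, MulAut.conj_apply, inv_inv]
        calc h⁻¹ * c * h * y = h⁻¹ * (c * (h * y * h⁻¹)) * h := by group
          _ = h⁻¹ * (h * y * h⁻¹ * c) * h := by rw [h2]
          _ = y * (h⁻¹ * c * h) := by group
      have hRM : IsSylowIn p R (H ⊓ centralizer {y}) := ⟨le_inf hR.le hyR, hR.isPGroup, fun hd =>
        hR.ndvd (hd.trans (Dvd.intro _ (relIndex_mul_relIndex R _ H (le_inf hR.le hyR) inf_le_left)))⟩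
      obtain ⟨m, hm, hle'⟩ := hRM.exists_cj_le (isPGroup_cj (hR.isPGroup.to_le hT0R)) hle
      rw [cj_cj] at hle'
      have hk : m * h⁻¹ ∈ H := mul_mem hm.1 (inv_mem hh)
      have hkN : m * h⁻¹ ∈ N := ⟨hk, mem_normalizer_of_cj_eq (cj_eq_self_of_le
        (hCconj _ hk fun c hc => hle' (conj_mem_cj (subset_closure hc))))⟩
      have hh' : h ∈ centralizer {y} := by
        have hm2 : m ∈ centralizer {y} := hm.2
        have := mul_mem (inv_mem hm2) (hyN hkN)
        rw [inv_mul_cancel_left] at this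
        simpa using inv_mem this
      show (z.1 : G) = y
      rw [← e, mem_centralizer_singleton_iff.mp hh', mul_inv_cancel_right]
  open scoped IsMulCommutative in
  -- the product over the class is central
  have hsum : (∏ z ∈ X, z : ↥U) = ⟨y, hyU⟩ * ∏ z : α, z.1 := by
    rw [← Finset.mul_prod_erase X (fun z => z) hyX]
    congr 1
    exact Finset.prod_subtype _ (fun _ => Iff.rfl) _
  open scoped IsMulCommutative in
  have hcent : ∀ h ∈ H, Commute h ((∏ z ∈ X, z : ↥U) : G) := by
    intro h hh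
    have h1 : ψ h hh (∏ z ∈ X, z) = ∏ z ∈ X, z := by
      rw [map_prod]
      refine Finset.prod_nbij' (fun z => ψ h hh z) (fun z => ψ h⁻¹ (inv_mem hh) z) ?_ ?_
        (fun z _ => Subtype.ext (by simp [ψ, mul_assoc]))
        (fun z _ => Subtype.ext (by simp [ψ, mul_assoc])) (fun z _ => rfl)
      · intro z hz
        obtain ⟨k, hk, e⟩ := (hX _).mp hz
        exact (hX _).mpr ⟨h * k, mul_mem hh hk, by simp [ψ, ← e, mul_assoc]⟩
      · intro z hz
        obtain ⟨k, hk, e⟩ := (hX _).mp hz
        exact (hX _).mpr ⟨h⁻¹ * k, mul_mem (inv_mem hh) hk, by simp [ψ, ← e, mul_assoc]⟩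
    exact mul_inv_eq_iff_eq_mul.mp (congrArg Subtype.val h1)
  open scoped IsMulCommutative in
  have hc0 : ((∏ z ∈ X, z : ↥U) : G) = y * ((∏ z : α, z.1 : ↥U) : G) := by rw [hsum]; rfl
  open scoped IsMulCommutative in
  have hzc : ∀ k ∈ H, (Commute k ((∏ z : α, z.1 : ↥U) : G) ↔ Commute k y) := by
    intro k hk
    have h1 := hcent k hk
    rw [hc0] at h1
    constructor
    · intro h2
      simpa using h1.mul_right h2.inv_right
    · intro h2
      simpa using h2.inv_right.mul_right h1
  have hsingle : ∀ {k a : G}, k ∈ centralizer ({a} : Set G) ↔ Commute k a := fun {k a} =>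
    mem_centralizer_singleton_iff
  open scoped IsMulCommutative in
  have hrec := ihU E hEU (hEU.le.trans hUZ) hnE _ (mem_subgroupOf.mp hprod)
    (fun r hr => hsingle.mpr ((hzc r (hR.le hr)).mpr (hsingle.mp (hyR hr))))
    (fun n hn => hsingle.mpr ((hzc n hn.1).mpr (hsingle.mp (hyN hn))))
  exact fun k hk => hsingle.mpr ((hzc k hk).mp (hsingle.mp (hrec hk)))

/-! ### The global statement -/

theorem global_engel (P : Sylow p G) (W : Subgroup G → Subgroup G) (hW : IsConjugacyFunctor p W)
    (hWZ : ∀ Q : Subgroup G, IsPGroup p Q → Q ⊓ centralizer (Q : Set G) ≤ W Q)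
    (hloc : EngelHyp p W) (x : G) (hxP : x ∈ (P : Subgroup G))
    (hxN : normalizer ((W (P : Subgroup G) : Subgroup G) : Set G) ≤ centralizer {x}) :
    ∀ g : G, g * x * g⁻¹ ∈ (P : Subgroup G) → g * x * g⁻¹ = x := by
  have hS := P.isPGroup'
  set S : Subgroup G := (P : Subgroup G) with hSdef
  have hxS : ∀ r ∈ S, r * x = x * r := fun r hr =>
    mem_centralizer_singleton_iff.mp (hxN (le_normalizer_functor hW hS hr))
  have key : ∀ T : Subgroup G, T ≠ ⊥ → IsWellPlaced p W S T → x ∈ T →
      normalizer (T : Set G) ≤ centralizer {x} := by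
    intro T hne hT
    refine wellPlaced_induction hS hW (fun T => x ∈ T → normalizer (T : Set G) ≤ centralizer {x})
      (fun T _ hT ih hxT => ?_) T hne hT
    have hR := IsWellPlaced.isSylowIn hS hT
    have hM : normalizer ((W (S ⊓ normalizer (T : Set G)) : Subgroup G) : Set G) ≤ centralizer {x} := by
      by_cases hRS : S ⊓ normalizer (T : Set G) = S
      · rw [hRS]; exact hxN
      · exact ih hRS (hWZ _ (hS.to_le inf_le_left)
          ⟨⟨hT.1 hxT, le_normalizer hxT⟩, mem_centralizer_iff.mpr fun r hr => hxS r hr.1⟩)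
    exact local_engel W hloc x (normalizer (T : Set G)) _ hR
      (le_pCoreOf le_normalizer (hS.to_le hT.1) le_rfl hxT) (fun r hr => hxS r hr.1)
      (inf_le_right.trans hM)
  have hmain : ∀ g : G, rimg {x} g ⊆ (S : Set G) → g ∈ centralizer {x} := by
    intro g hg
    have hchain := chain_wellPlaced P hW {x} g (Set.singleton_subset_iff.mpr hxP) hg
    suffices h : ∀ (B : Set G) (k : G), Chain {T : Subgroup G | IsWellPlaced p W S T} B k → B = {x} →
        k ∈ centralizer {x} from h _ g hchain rfl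
    intro B k hc
    induction hc with
    | nil B => exact fun _ => one_mem _
    | cons B T y k hT hy hB h ih =>
      intro hBA
      subst hBA
      have hxT : x ∈ T := hB (Set.mem_singleton x)
      have hyx : y ∈ centralizer {x} := by
        by_cases hne : T = ⊥
        · rw [hne, mem_bot] at hxT
          exact mem_centralizer_singleton_iff.mpr (by simp [hxT])
        · exact key T hne hT hxT hy
      refine mul_mem hyx (ih ?_)
      rw [rimg, Set.image_singleton, mul_assoc, ← mem_centralizer_singleton_iff.mp hyx,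
        inv_mul_cancel_left]
  intro g hg
  have h := hmain g⁻¹ (by rw [rimg, Set.image_singleton, inv_inv, Set.singleton_subset_iff]; exact hg)
  have h' : g ∈ centralizer {x} := inv_inv g ▸ inv_mem h
  rw [mem_centralizer_singleton_iff.mp h', mul_inv_cancel_right]

end Cfsg.Agent.H49
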