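import Cfsg.Agent.H49.Engel

/-!
The Engel criterion in every subgroup: the functor controls weak closure of elements.
-/

set_option autoImplicit false
set_option linter.style.haveILetI false
set_option linter.unusedSectionVars false

namespace Cfsg.Agent.H49

open Subgroup
open Cfsg.Agent.H48

variable {G : Type*} [Group G] [Finite G] {p : ℕ} [hp : Fact p.Prime]

theorem le_normalizer_comap_iff {X : Type*} [Group X] {f : X →* G} (hf : Function.Injective f)
    {K U : Subgroup X} : K.map f ≤ normalizer ((U.map f : Subgroup G) : Set G) ↔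
      K ≤ normalizer (U : Set X) := by
  refine ⟨fun h k hk => mem_normalizer_iff.mpr fun u => ?_, fun h => ?_⟩
  · have := mem_normalizer_iff.mp (h ⟨k, hk, rfl⟩) (f u)
    rwa [mem_map_iff_mem hf, ← map_inv, ← map_mul, ← map_mul, mem_map_iff_mem hf] at this
  · exact (Subgroup.map_mono h).trans (le_normalizer_map f)

theorem pCoreOf_map {X : Type*} [Group X] [Finite X] {f : X →* G} (hf : Function.Injective f)
    (K : Subgroup X) : (pCoreOf p K).map f = pCoreOf p (K.map f) := by
  refine le_antisymm (le_pCoreOf (Subgroup.map_mono (pCoreOf_le K)) ((pCoreOf_isPGroup K).map f)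
    ((le_normalizer_comap_iff hf).mpr (le_normalizer_pCoreOf K))) ?_
  have hle : pCoreOf p (K.map f) ≤ f.range := (pCoreOf_le _).trans (map_le_range f K)
  refine (map_comap_eq_self hle).symm.le.trans (Subgroup.map_mono (le_pCoreOf ?_ ?_ ?_))
  · intro x hx
    exact (mem_map_iff_mem hf).mp (pCoreOf_le _ hx)
  · exact (pCoreOf_isPGroup _).comap_of_injective f hf
  · rw [← le_normalizer_comap_iff hf, map_comap_eq_self hle]
    exact le_normalizer_pCoreOf _

theorem engel_controls (W : Subgroup G → Subgroup G) (hW : IsConjugacyFunctor p W)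
    (hWZ : ∀ P : Subgroup G, IsPGroup p P → P ⊓ centralizer (P : Set G) ≤ W P)
    (hloc : EngelHyp p W) (H : Subgroup G) : ControlsWeakClosureOfElementsIn p W H := by
  refine ⟨hWZ, ?_⟩
  set f := H.subtype with hf
  have hinj : Function.Injective f := H.subtype_injective
  let W' : Subgroup H → Subgroup H := fun P => (W (P.map f)).comap f
  have hmapW : ∀ P : Subgroup H, IsPGroup p P → (W' P).map f = W (P.map f) := fun P hP =>
    map_comap_eq_self ((hW _ (hP.map f)).1.trans (map_le_range f P))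
  have hW' : IsConjugacyFunctor p W' := by
    intro P hP
    obtain ⟨h1, h2, h3⟩ := hW _ (hP.map f)
    refine ⟨fun x hx => (mem_map_iff_mem hinj).mp (h1 hx), fun hne hb => h2 ?_ ?_, fun g => ?_⟩
    · exact fun h => hne ((map_eq_bot_iff_of_injective _ hinj).mp h)
    · rw [← hmapW P hP, hb, Subgroup.map_bot]
    · apply Subgroup.map_injective hinj
      have e : ∀ Q : Subgroup H, (Q.map (MulAut.conj g).toMonoidHom).map f =
          (Q.map f).map (MulAut.conj (f g)).toMonoidHom := fun Q => by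
        rw [Subgroup.map_map, Subgroup.map_map]; rfl
      rw [e, hmapW _ (hP.map _), hmapW P hP, e, h3]
  have hWZ' : ∀ P : Subgroup H, IsPGroup p P → P ⊓ centralizer (P : Set H) ≤ W' P := by
    rintro P hP x ⟨hx, hxc⟩
    refine hWZ _ (hP.map f) ⟨⟨x, hx, rfl⟩, mem_centralizer_iff.mpr ?_⟩
    rintro _ ⟨y, hy, rfl⟩
    rw [← map_mul, ← map_mul, mem_centralizer_iff.mp hxc y hy]
  have hloc' : EngelHyp p W' := by
    intro K T hTK hT hnd hn
    obtain ⟨g, hg, hgV, hdeg⟩ := hloc (K.map f) (T.map f) (Subgroup.map_mono hTK) (hT.map f)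
      (by rwa [relIndex_map_map_of_injective _ _ hinj])
      (fun h => hn ((le_normalizer_comap_iff hinj).mp (by rwa [hmapW T hT])))
    obtain ⟨g', hg', rfl⟩ := hg
    refine ⟨g', hg', fun h => hgV (pCoreOf_map (p := p) hinj K ▸ ⟨g', h, rfl⟩), fun U E hlt hU hnU hnE hmin => ?_⟩
    rw [← Subgroup.map_le_map_iff_of_injective hinj, iter_map, MonoidHom.map_zpowers]
    refine hdeg _ _ ((Subgroup.map_lt_map_iff_of_injective hinj).mpr hlt) ?_
      ((le_normalizer_comap_iff hinj).mpr hnU) ((le_normalizer_comap_iff hinj).mpr hnE)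
      fun D hD hED hDU => ?_
    · rintro _ ⟨u, hu, rfl⟩
      refine ⟨pCoreOf_map (p := p) hinj K ▸ ⟨u, (hU hu).1, rfl⟩, ?_⟩
      rw [← pCoreOf_map (p := p) hinj K]; refine mem_centralizer_iff.mpr ?_
      rintro _ ⟨v, hv, rfl⟩
      rw [← map_mul, ← map_mul, mem_centralizer_iff.mp (hU hu).2 v hv]
    · have hD' : (D.comap f).map f = D := map_comap_eq_self (hDU.trans (map_le_range f U))
      rw [← hD'] at hD hED hDU ⊢
      rw [Subgroup.map_le_map_iff_of_injective hinj] at hED hDU
      exact (hmin _ ((le_normalizer_comap_iff hinj).mp hD) hED hDU).imp (congrArg _) (congrArg _)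
  obtain ⟨S⟩ : Nonempty (Sylow p H) := inferInstance
  have hT := isSylowIn_map H S
  refine ⟨_, hT.le, hT.isPGroup, hT.ndvd, fun x hx h hh hhx => ?_⟩
  obtain ⟨⟨x', hx'S, rfl⟩, hxC⟩ := hx
  obtain ⟨y, hyS, hy⟩ := hhx
  have hy' : y = ⟨h, hh⟩ * x' * ⟨h, hh⟩⁻¹ := Subtype.ext hy
  have := global_engel S W' hW' hWZ' hloc' x' hx'S (fun n hn => ?_) ⟨h, hh⟩ (hy' ▸ hyS)
  · exact congrArg Subtype.val this
  · refine mem_centralizer_singleton_iff.mpr (Subtype.ext ?_)
    refine mem_centralizer_iff.mp hxC (n : G) ⟨n.2, ?_⟩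
    exact (hmapW _ S.isPGroup') ▸ (le_normalizer_map f) ⟨n, hn, rfl⟩

end Cfsg.Agent.H49
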