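import Cfsg.Agent.H49.ExtraspecialIndexP

/-!
Essential subgroups inside an extraspecial subgroup of index `p`.
-/

set_option autoImplicit false
set_option linter.unusedSectionVars false
set_option linter.style.haveILetI false

namespace Cfsg.Agent.H49

open Cfsg Cfsg.FusionSystem Cfsg.Agent.FusionSys Subgroup

variable {Ω : Type*} [Group Ω] {S : Subgroup Ω} [Finite S] {p : ℕ} [hp : Fact p.Prime]

/-- The automorphisms in `Aut_F(E)` fixing `Z` and acting trivially modulo `Z`. -/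
def stabChain (F : FusionSystem S) (Z E : Subgroup Ω) : Subgroup (F.autGroup E) where
  carrier := {γ | (∀ u : E, (u : Ω) ∈ Z → (γ : MulAut E) u = u) ∧
    ∀ e : E, ∃ u : E, (u : Ω) ∈ Z ∧ (γ : MulAut E) e = u * e}
  one_mem' := ⟨fun u _ => rfl, fun e => ⟨1, one_mem Z, (one_mul e).symm⟩⟩
  mul_mem' := fun {a b} ha hb => ⟨fun u hu => by
      show (a : MulAut E) ((b : MulAut E) u) = u
      rw [hb.1 u hu, ha.1 u hu], fun e => by
      obtain ⟨v, hv, hve⟩ := hb.2 e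
      obtain ⟨u, hu, hue⟩ := ha.2 e
      refine ⟨v * u, mul_mem (s := Z) hv hu, ?_⟩
      show (a : MulAut E) ((b : MulAut E) e) = _
      rw [hve, map_mul, ha.1 v hv, hue, mul_assoc]⟩
  inv_mem' := fun {a} ha => ⟨fun u hu => by
      show (a : MulAut E)⁻¹ u = u
      conv_lhs => rw [← ha.1 u hu]
      rw [MulAut.inv_apply_self], fun e => by
      obtain ⟨u, hu, hue⟩ := ha.2 e
      refine ⟨u⁻¹, inv_mem (s := Z) hu, (a : MulAut E).injective ?_⟩
      show (a : MulAut E) ((a : MulAut E)⁻¹ e) = (a : MulAut E) (u⁻¹ * e)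
      rw [MulAut.apply_inv_self, map_mul, map_inv, ha.1 u hu, hue, inv_mul_cancel_left]⟩

variable {F : FusionSystem S} {Z E : Subgroup Ω}

theorem isPGroup_stabChain (hZ : Nat.card Z = p) : IsPGroup p (stabChain F Z E) := by
  rintro ⟨γ, hγ⟩
  refine ⟨1, Subtype.ext (Subtype.ext (MulEquiv.ext fun e => ?_))⟩
  obtain ⟨u, hu, hue⟩ := hγ.2 e
  have hpow : ∀ j : ℕ, ((γ : MulAut E) ^ j) e = u ^ j * e := by
    intro j
    induction j with
    | zero => simp
    | succ j ih =>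
      rw [pow_succ', MulAut.mul_apply, ih, map_mul, map_pow, hγ.1 u hu, hue, ← mul_assoc, ← pow_succ]
  have hup : u ^ p = 1 := Subtype.ext (by
    have h := orderOf_dvd_natCard (⟨(u : Ω), hu⟩ : Z)
    rw [hZ, orderOf_dvd_iff_pow_eq_one] at h
    simpa using congrArg Subtype.val h)
  show ((γ : MulAut E) ^ (p ^ 1)) e = e
  rw [pow_one, hpow, hup, one_mul]

theorem conj_mem_stabChain {a γ : F.autGroup E}
    (ha : ∀ u : E, (u : Ω) ∈ Z → (((a : MulAut E) u : E) : Ω) ∈ Z)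
    (ha' : ∀ u : E, (u : Ω) ∈ Z → (((a : MulAut E)⁻¹ u : E) : Ω) ∈ Z)
    (hγ : γ ∈ stabChain F Z E) : a * γ * a⁻¹ ∈ stabChain F Z E := by
  refine ⟨fun u hu => ?_, fun e => ?_⟩
  · show (a : MulAut E) ((γ : MulAut E) ((a : MulAut E)⁻¹ u)) = u
    rw [hγ.1 _ (ha' u hu), MulAut.apply_inv_self]
  · obtain ⟨v, hv, hve⟩ := hγ.2 ((a : MulAut E)⁻¹ e)
    refine ⟨(a : MulAut E) v, ha v hv, ?_⟩
    show (a : MulAut E) ((γ : MulAut E) ((a : MulAut E)⁻¹ e)) = _
    rw [hve, map_mul, MulAut.apply_inv_self]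

theorem eq_of_essential_le (hS : IsPGroup p S) (hF : F.IsSaturated p) {Q : Subgroup Ω} (hQS : Q ≤ S)
    (hQ : IsExtraspecial p Q) (hQi : (Q.subgroupOf S).index = p) (h6 : p ^ 6 ≤ Nat.card S)
    (hEQ : E ≤ Q) (hE : F.IsEssential p E) : E = Q := by
  by_contra hne
  have hES := hE.1.1
  haveI := finite_of_le hES
  haveI := finite_of_le hQS
  haveI := finite_autGroup F hES
  have hC := centralizerIn_le_of_isCentric hE.1
  let Z := (center Q).map Q.subtype
  have hZ : Nat.card Z = p := by rw [card_map_of_injective Q.subtype_injective, hQ.2]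
  haveI : Finite Z := Nat.finite_of_card_ne_zero (hZ ▸ hp.out.ne_zero)
  have hZQ : Z ≤ Q := map_subtype_le _
  have hQn : (Q.subgroupOf S).Normal := by
    obtain ⟨k, hk⟩ := IsPGroup.iff_card.1 hS
    refine Subgroup.normal_of_index_eq_minFac_card ?_
    rw [hQi, hk, Nat.Prime.pow_minFac hp.out fun h0 => ?_]
    rw [h0, pow_zero] at hk
    have := (Q.subgroupOf S).index_dvd_card
    rw [hQi, hk, Nat.dvd_one] at this
    exact hp.out.one_lt.ne' this
  have hZn : (Z.subgroupOf S).Normal := ⟨fun z hz x => by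
    obtain ⟨w, hw, hwz⟩ := (mem_subgroupOf.1 hz)
    have hmem : (x : Ω) * z * (x : Ω)⁻¹ ∈ Q :=
      hQn.conj_mem z (hwz ▸ w.2 : (z : Ω) ∈ Q) x
    refine ⟨⟨_, hmem⟩, mem_center_iff.2 fun y => Subtype.ext ?_, rfl⟩
    have h1 : (x : Ω)⁻¹ * y * x ∈ Q := by
      simpa [mem_subgroupOf] using hQn.conj_mem ⟨y, hQS y.2⟩ y.2 x⁻¹
    have h2 : (x : Ω)⁻¹ * y * x * z = z * ((x : Ω)⁻¹ * y * x) := by
      rw [← show (w : Ω) = (z : Ω) from hwz]
      exact congrArg Subtype.val (mem_center_iff.1 hw ⟨_, h1⟩)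
    show (y : Ω) * ((x : Ω) * z * (x : Ω)⁻¹) = (x : Ω) * z * (x : Ω)⁻¹ * y
    calc (y : Ω) * ((x : Ω) * z * (x : Ω)⁻¹) = (x : Ω) * ((x : Ω)⁻¹ * y * x * z) * (x : Ω)⁻¹ := by group
      _ = (x : Ω) * z * (x : Ω)⁻¹ * y := by rw [h2]; group⟩
  have hZc : ∀ c ∈ Z, c ∈ S ∧ ∀ x ∈ S, x * c = c * x := fun c hc =>
    ⟨hQS (hZQ hc), fun x hx => congrArg Subtype.val (mem_center_iff.1
      (PGroups.le_center_of_card_eq hS (Z.subgroupOf S)
        (by rw [Nat.card_congr (subgroupOfEquivOfLe (hZQ.trans hQS)).toEquiv, hZ])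
        (mem_subgroupOf.2 hc : (⟨c, hQS (hZQ hc)⟩ : S) ∈ Z.subgroupOf S)) ⟨x, hx⟩)⟩
  have hder : ∀ a ∈ Q, ∀ b ∈ Q, a * b * a⁻¹ * b⁻¹ ∈ Z := fun a ha b hb =>
    ⟨_, hQ.1.2.2.le (commutator_mem_commutator (mem_top (⟨a, ha⟩ : Q)) (mem_top ⟨b, hb⟩)), rfl⟩
  have hZE : Z ≤ E := fun c hc =>
    hC (FusionSys.mem_centralizerIn.2 ⟨(hZc c hc).1, fun y hy => (hZc c hc).2 y (hES hy)⟩)
  have hn : ∀ x ∈ Q, x ∈ normalizer (E : Set Ω) := fun x hx => mem_normalizer_of_maps fun y hy => by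
    have := E.mul_mem (hZE (hder x hx y (hEQ hy))) hy
    simpa [mul_assoc] using this
  let T₀ := stabChain F Z E
  have hconj : ∀ x (hx : x ∈ Q), (⟨conjAut (hn x hx), conjAut_mem_autGroup F hES ⟨hQS hx, hn x hx⟩⟩ :
      F.autGroup E) ∈ T₀ := fun x hx => ⟨fun u hu => Subtype.ext (by
      rw [coe_conjAut, (hZc u hu).2 x (hQS hx), mul_inv_cancel_right]), fun e =>
    ⟨⟨x * e * x⁻¹ * (e : Ω)⁻¹, hZE (hder x hx e (hEQ e.2))⟩, hder x hx e (hEQ e.2),
      Subtype.ext (by rw [coe_conjAut]; simp)⟩⟩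
  obtain ⟨x₀, hx₀, hx₀E⟩ := SetLike.exists_of_lt (lt_of_le_of_ne hEQ hne)
  -- someone moves `Z`
  obtain ⟨α, hα, z₀, hz₀, hmove⟩ : ∃ α : MulAut E, α ∈ F.autGroup E ∧
      ∃ z₀ : E, (z₀ : Ω) ∈ Z ∧ ((α z₀ : E) : Ω) ∉ Z := by
    by_contra hall
    push Not at hall
    have hT₀n : T₀.Normal := ⟨fun γ hγ a => conj_mem_stabChain (fun u hu => hall _ a.2 u hu)
      (fun u hu => hall _ (inv_mem a.2) u hu) hγ⟩
    have hle : T₀ ≤ pCore p (F.autGroup E) := le_sSup ⟨hT₀n, isPGroup_stabChain hZ⟩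
    have hinn : conjAut (hn x₀ hx₀) ∈ Inn E := by
      rw [← (isRadical_of_isEssential hS hE).2]
      exact ⟨_, hle (hconj x₀ hx₀), rfl⟩
    exact hx₀E (mem_of_conjAut_mem_inn hC hES (hQS hx₀) (hn x₀ hx₀) hinn)
  have hab : ∀ a ∈ E, ∀ b ∈ E, a * b = b * a := by
    intro a ha b hb
    by_contra hne'
    have hc1 : a * b * a⁻¹ * b⁻¹ ≠ 1 := fun h => hne' (by
      rw [mul_inv_eq_one, mul_inv_eq_iff_eq_mul] at h; exact h)
    have hcZ := hder a (hEQ ha) b (hEQ hb)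
    have hcE : a * b * a⁻¹ * b⁻¹ ∈ E := hZE hcZ
    obtain ⟨i, hi⟩ := mem_zpowers_iff.1 ((PGroups.zpowers_eq_of_card_eq hZ hcZ hc1).symm ▸ hz₀ :
      (z₀ : Ω) ∈ zpowers (a * b * a⁻¹ * b⁻¹))
    refine hmove ?_
    have h1 : z₀ = (⟨_, hcE⟩ : E) ^ i := Subtype.ext hi.symm
    rw [h1, map_zpow, coe_zpow]
    refine zpow_mem ?_ i
    have h2 : (⟨_, hcE⟩ : E) = ⟨a, ha⟩ * ⟨b, hb⟩ * (⟨a, ha⟩ : E)⁻¹ * (⟨b, hb⟩ : E)⁻¹ := rfl
    rw [h2, map_mul, map_mul, map_mul, map_inv, map_inv]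
    exact hder _ (hEQ (α ⟨a, ha⟩).2) _ (hEQ (α ⟨b, hb⟩).2)
  have hIE : Inn E = ⊥ := eq_bot_iff.2 (by
    rintro _ ⟨e, rfl⟩
    exact Subgroup.mem_bot.2 (MulEquiv.ext fun y => Subtype.ext (by
      show (e : Ω) * y * (e : Ω)⁻¹ = y
      rw [hab e e.2 y y.2, mul_inv_cancel_right])))
  -- transfer of the strongly embedded subgroup to `Aut_F(E)`
  obtain ⟨-, R, hR⟩ := isFullyAutomized_of_isFullyNormalized hS hF hE.2.1
  obtain ⟨hN, Y, hY⟩ := hE.2.2
  let π := QuotientGroup.mk' ((Inn E).subgroupOf (F.autGroup E))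
  have hπ : Function.Injective π := by
    rw [← MonoidHom.ker_eq_bot_iff, QuotientGroup.ker_mk', hIE, Subgroup.bot_subgroupOf]
  obtain ⟨Y', hY'ne, -, hY'⟩ := exists_stronglyEmbedded_over hY
    (R.mapSurjective (QuotientGroup.mk'_surjective ((Inn E).subgroupOf (F.autGroup E))))
  let Y₀ := Y'.comap π
  have hY₀ : ∀ U : Subgroup (F.autGroup E), U ≤ R → U ≠ ⊥ →
      normalizer (U : Set (F.autGroup E)) ≤ Y₀ := by
    intro U hU hU1
    rw [← Subgroup.map_le_iff_le_comap]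
    refine (Subgroup.le_normalizer_map π).trans (hY' _ (Subgroup.map_mono hU) fun h => hU1 ?_)
    exact Subgroup.map_injective hπ (h.trans (Subgroup.map_bot π).symm)
  have hY₀ne : Y₀ ≠ ⊤ := fun h => hY'ne (by
    rw [← Subgroup.map_comap_eq_self_of_surjective (f := π) (QuotientGroup.mk'_surjective _) Y']
    rw [show Y'.comap π = ⊤ from h]
    exact Subgroup.map_top_of_surjective _ (QuotientGroup.mk'_surjective _))
  have hRmem : ∀ γ : F.autGroup E, γ ∈ (R : Subgroup (F.autGroup E)) ↔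
      ∃ y ∈ S, ∃ hy : y ∈ normalizer (E : Set Ω), (γ : MulAut E) = conjAut hy := fun γ => by
    rw [hR, mem_subgroupOf, mem_autInducedBy]
  have hT₀R : T₀ ≤ (R : Subgroup (F.autGroup E)) := by
    have hnorm : (R : Subgroup (F.autGroup E)) ≤ normalizer (T₀ : Set (F.autGroup E)) := by
      intro γ hγ
      have hfix : ∀ δ ∈ (R : Subgroup (F.autGroup E)), ∀ u : E, (u : Ω) ∈ Z →
          (((δ : MulAut E) u : E) : Ω) ∈ Z := fun δ hδ u hu => by
        obtain ⟨y, hy, hyn, he⟩ := (hRmem δ).1 hδ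
        rw [he, coe_conjAut, (hZc u hu).2 y hy, mul_inv_cancel_right]
        exact hu
      refine Subgroup.mem_normalizer_iff.2 fun τ => ⟨fun hτ => conj_mem_stabChain (hfix γ hγ)
        (hfix γ⁻¹ (inv_mem hγ)) hτ, fun hτ => ?_⟩
      have := conj_mem_stabChain (a := γ⁻¹) (hfix γ⁻¹ (inv_mem hγ))
        (fun u hu => by
          show ((((γ : MulAut E)⁻¹)⁻¹ u : E) : Ω) ∈ Z
          rw [inv_inv]; exact hfix γ hγ u hu) hτ
      simpa [mul_assoc] using this
    have h := R.is_maximal' (IsPGroup.to_sup_of_normal_right' R.isPGroup' (isPGroup_stabChain hZ) hnorm)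
      le_sup_left
    exact le_sup_right.trans h.le
  -- centralizers in `Q` of elements of `E` are not inside `E`
  have hbig : ∀ w ∈ E, ∃ x ∈ Q, x ∉ E ∧ x * w = w * x := by
    intro w hw
    by_contra hcon
    push Not at hcon
    have h1 := centralizer_index_le hZ hQS w (fun x hx => hder x hx w (hEQ hw))
      fun c hc x hx => (hZc c hc).2 x (hQS hx)
    have h2 : (centralizer ({w} : Set Ω)).subgroupOf Q ≤ E.subgroupOf Q := fun x hx =>
      by_contra fun hxE => hcon x x.2 hxE (mem_centralizer_singleton_iff.1 hx)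
    have h3 : (E.subgroupOf Q).index ≤ p :=
      le_trans (Nat.le_of_dvd (Nat.pos_of_ne_zero index_ne_zero_of_finite) (index_dvd_of_le h2)) h1
    have hQp : IsPGroup p Q := hQ.1.1
    have hEi : (E.subgroupOf Q).index = p := by
      obtain ⟨k, hk⟩ := hQp.index (H := E.subgroupOf Q)
      rw [hk] at h3 ⊢
      rcases k with _ | _ | k
      · rw [pow_zero, Subgroup.index_eq_one, subgroupOf_eq_top] at hk
        exact absurd (hk hx₀) hx₀E
      · exact pow_one p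
      · exact absurd h3 (not_le.2 (by
          calc p = p ^ 1 := (pow_one p).symm
            _ < p ^ (k + 1 + 1) := Nat.pow_lt_pow_right hp.out.one_lt (by omega)))
    have h4 := centralizer_index_le hZ hES x₀ (fun e he => hder e (hEQ he) x₀ hx₀)
      fun c hc y hy => (hZc c hc).2 y (hES hy)
    have h5 : ((centralizer ({x₀} : Set Ω)).subgroupOf E).map (Subgroup.inclusion hEQ) ≤ center Q := by
      rintro _ ⟨e, he, rfl⟩
      let M : Subgroup Q := (centralizer ({(e : Ω)} : Set Ω)).subgroupOf Q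
      have hle : E.subgroupOf Q ≤ M := fun z hz => mem_centralizer_singleton_iff.2 (hab z hz e e.2)
      have hxM : (⟨x₀, hx₀⟩ : Q) ∈ M :=
        mem_centralizer_singleton_iff.2 (mem_centralizer_singleton_iff.1 he).symm
      have hM : M = ⊤ := by
        have h := Subgroup.relIndex_mul_index hle
        rw [hEi] at h
        rcases (Nat.dvd_prime hp.out).1 (Dvd.intro_left _ h) with h1 | h1
        · exact Subgroup.index_eq_one.1 h1
        · rw [h1] at h
          exact absurd (Subgroup.relIndex_eq_one.1 (Nat.eq_of_mul_eq_mul_right hp.out.pos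
            (h.trans (one_mul p).symm)) hxM) hx₀E
      exact mem_center_iff.2 fun y => Subtype.ext (mem_centralizer_singleton_iff.1 (hM.ge (mem_top y)))
    have h6' : Nat.card ((centralizer ({x₀} : Set Ω)).subgroupOf E) ≤ p := by
      have := Subgroup.card_le_of_le h5
      rwa [card_map_of_injective (Subgroup.inclusion_injective hEQ), hQ.2] at this
    have hcardE : Nat.card E ≤ p * p := by
      rw [← Subgroup.card_mul_index ((centralizer ({x₀} : Set Ω)).subgroupOf E)]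
      exact Nat.mul_le_mul h6' h4
    have hcardS : Nat.card S ≤ p * p * p * p := by
      rw [← Subgroup.card_mul_index (Q.subgroupOf S), hQi,
        Nat.card_congr (subgroupOfEquivOfLe hQS).toEquiv, ← Subgroup.card_mul_index (E.subgroupOf Q), hEi,
        Nat.card_congr (subgroupOfEquivOfLe hEQ).toEquiv]
      exact Nat.mul_le_mul_right p (Nat.mul_le_mul_right p hcardE)
    have h46 : p * p * p * p < p ^ 6 := by
      calc p * p * p * p = p ^ 4 := by ring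
        _ < p ^ 6 := Nat.pow_lt_pow_right hp.out.one_lt (by norm_num)
    omega
  -- every automorphism lies in `Y₀`
  refine hY₀ne (eq_top_iff.2 fun a _ => ?_)
  have hT₀1 : T₀ ≠ ⊥ := fun h => hx₀E (hC (FusionSys.mem_centralizerIn.2 ⟨hQS hx₀, fun e he => by
    have h1 := congrArg (fun γ : F.autGroup E => (((γ : MulAut E) ⟨e, he⟩ : E) : Ω))
      (Subgroup.mem_bot.1 (h ▸ hconj x₀ hx₀))
    exact (mul_inv_eq_iff_eq_mul.1 h1).symm⟩))
  by_cases hstab : ∀ u : E, (u : Ω) ∈ Z → (((a : MulAut E) u : E) : Ω) ∈ Z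
  · refine hY₀ T₀ hT₀R hT₀1 ?_
    have hstab' : ∀ u : E, (u : Ω) ∈ Z → (((a : MulAut E)⁻¹ u : E) : Ω) ∈ Z := fun u hu => by
      let f : {u : E // (u : Ω) ∈ Z} → {u : E // (u : Ω) ∈ Z} := fun u => ⟨(a : MulAut E) u.1, hstab _ u.2⟩
      haveI : Finite {u : E // (u : Ω) ∈ Z} := Subtype.finite
      obtain ⟨v, hv⟩ := (Finite.injective_iff_surjective (f := f)).1 (fun x y hxy =>
        Subtype.ext ((a : MulAut E).injective (congrArg Subtype.val hxy))) ⟨u, hu⟩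
      have hve : (a : MulAut E) v.1 = u := congrArg Subtype.val hv
      rw [← hve, MulAut.inv_apply_self]
      exact v.2
    refine Subgroup.mem_normalizer_iff.2 fun τ => ⟨fun hτ => conj_mem_stabChain hstab hstab' hτ,
      fun hτ => ?_⟩
    have := conj_mem_stabChain (a := a⁻¹) hstab' (fun u hu => by
      show ((((a : MulAut E)⁻¹)⁻¹ u : E) : Ω) ∈ Z
      rw [inv_inv]; exact hstab u hu) hτ
    simpa [mul_assoc] using this
  push Not at hstab
  obtain ⟨w₀, hw₀, hwmove⟩ := hstab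
  have hw₀1 : (w₀ : Ω) ≠ 1 := fun h => hwmove (by
    rw [show w₀ = 1 from Subtype.ext h, map_one]; exact one_mem Z)
  obtain ⟨x, hx, hxE, hxc⟩ := hbig _ ((a : MulAut E) w₀).2
  obtain ⟨x₂, hx₂, hx₂E, hx₂c⟩ := hbig _ ((a : MulAut E)⁻¹ w₀).2
  let t : F.autGroup E := ⟨conjAut (hn x hx), conjAut_mem_autGroup F hES ⟨hQS hx, hn x hx⟩⟩
  let t₂ : F.autGroup E := ⟨conjAut (hn x₂ hx₂), conjAut_mem_autGroup F hES ⟨hQS hx₂, hn x₂ hx₂⟩⟩
  have ht : t ∈ T₀ := hconj x hx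
  have ht₂ : t₂ ∈ T₀ := hconj x₂ hx₂
  have hgen : ∀ u : E, (u : Ω) ∈ Z → ∃ i : ℤ, u = w₀ ^ i := fun u hu => by
    obtain ⟨i, hi⟩ := mem_zpowers_iff.1 ((PGroups.zpowers_eq_of_card_eq hZ hw₀ hw₀1).symm ▸ hu :
      (u : Ω) ∈ zpowers (w₀ : Ω))
    exact ⟨i, Subtype.ext hi.symm⟩
  have htfix : ∀ u : E, (u : Ω) ∈ Z → (t : MulAut E) ((a : MulAut E) u) = (a : MulAut E) u := by
    intro u hu
    obtain ⟨i, rfl⟩ := hgen u hu
    rw [map_zpow, map_zpow]
    congr 1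
    exact Subtype.ext (by rw [coe_conjAut, hxc, mul_inv_cancel_right])
  have ht₂fix : ∀ u : E, (u : Ω) ∈ Z → (t₂ : MulAut E) ((a : MulAut E)⁻¹ u) = (a : MulAut E)⁻¹ u := by
    intro u hu
    obtain ⟨i, rfl⟩ := hgen u hu
    rw [map_zpow, map_zpow]
    congr 1
    exact Subtype.ext (by rw [coe_conjAut, hx₂c, mul_inv_cancel_right])
  let t' : F.autGroup E := a * t₂ * a⁻¹
  have hcomm : Commute t t' := by
    refine Subtype.ext (MulEquiv.ext fun e => ?_)
    obtain ⟨u, hu, hue⟩ := ht.2 e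
    obtain ⟨v, hv, hve⟩ := ht₂.2 ((a : MulAut E)⁻¹ e)
    have h' : (a : MulAut E) ((t₂ : MulAut E) ((a : MulAut E)⁻¹ e)) = (a : MulAut E) v * e := by
      rw [hve, map_mul, MulAut.apply_inv_self]
    show (t : MulAut E) ((a : MulAut E) ((t₂ : MulAut E) ((a : MulAut E)⁻¹ e))) =
      (a : MulAut E) ((t₂ : MulAut E) ((a : MulAut E)⁻¹ ((t : MulAut E) e)))
    rw [h', map_mul, htfix v hv, hue, map_mul, map_mul, map_mul, ht₂fix u hu, MulAut.apply_inv_self, h',
      ← mul_assoc, ← mul_assoc]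
    congr 1
    exact Subtype.ext (hab _ ((a : MulAut E) v).2 _ u.2)
  have hKp : IsPGroup p (zpowers t ⊔ zpowers t' : Subgroup (F.autGroup E)) := by
    refine IsPGroup.to_sup_of_normal_right' ?_ ?_ ?_
    · exact R.isPGroup'.to_le (zpowers_le.2 (hT₀R ht))
    · exact IsPGroup.to_le ((R.isPGroup').map (MulAut.conj a).toMonoidHom)
        (zpowers_le.2 ⟨t₂, hT₀R ht₂, rfl⟩)
    · refine zpowers_le.2 (Subgroup.mem_normalizer_iff.2 fun y => ?_)
      have h : ∀ z ∈ zpowers t', t * z = z * t := fun z hz => by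
        obtain ⟨i, rfl⟩ := mem_zpowers_iff.1 hz
        exact (hcomm.zpow_right i).eq
      constructor
      · intro hy
        rwa [h y hy, mul_inv_cancel_right]
      · intro hy
        have h1 := h _ hy
        rw [mul_assoc (t * y), inv_mul_cancel, mul_one] at h1
        exact (mul_left_cancel h1).symm ▸ hy
  obtain ⟨R', hR'⟩ := hKp.exists_le_sylow
  obtain ⟨g, hg⟩ := MulAction.exists_smul_eq (F.autGroup E) R R'
  have hback : ∀ s ∈ (R' : Subgroup (F.autGroup E)), g⁻¹ * s * g ∈ (R : Subgroup (F.autGroup E)) := by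
    intro s hs
    rw [← hg, Sylow.coe_subgroup_smul] at hs
    obtain ⟨r, hr, rfl⟩ := hs
    show g⁻¹ * (g * r * g⁻¹) * g ∈ (R : Subgroup (F.autGroup E))
    rw [show g⁻¹ * (g * r * g⁻¹) * g = r by group]
    exact hr
  have hne1 : ∀ y (hy : y ∈ Q), y ∉ E →
      (⟨conjAut (hn y hy), conjAut_mem_autGroup F hES ⟨hQS hy, hn y hy⟩⟩ : F.autGroup E) ≠ 1 :=
    fun y hy hyE h => hyE (hC (FusionSys.mem_centralizerIn.2 ⟨hQS hy, fun e he => by
      have h1 := congrArg (fun γ : F.autGroup E => (((γ : MulAut E) ⟨e, he⟩ : E) : Ω)) h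
      exact (mul_inv_eq_iff_eq_mul.1 h1).symm⟩))
  have hgY : g⁻¹ ∈ Y₀ := by
    refine mem_of_conj_mem R hY₀ (zpowers_le.2 (hT₀R ht))
      (fun h => hne1 x hx hxE (zpowers_eq_bot.1 h)) fun z hz => ?_
    obtain ⟨i, rfl⟩ := mem_zpowers_iff.1 hz
    rw [inv_inv]
    exact hback _ (hR' (mem_sup_left (zpow_mem_zpowers t i)))
  have hgaY : g⁻¹ * a ∈ Y₀ := by
    refine mem_of_conj_mem R hY₀ (zpowers_le.2 (hT₀R ht₂))
      (fun h => hne1 x₂ hx₂ hx₂E (zpowers_eq_bot.1 h)) fun z hz => ?_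
    obtain ⟨i, rfl⟩ := mem_zpowers_iff.1 hz
    rw [show g⁻¹ * a * t₂ ^ i * (g⁻¹ * a)⁻¹ = g⁻¹ * (a * t₂ ^ i * a⁻¹) * g by group]
    refine hback _ (hR' (mem_sup_right ?_))
    rw [← conj_zpow]
    exact zpow_mem_zpowers t' i
  simpa using mul_mem (inv_mem hgY) hgaY

end Cfsg.Agent.H49
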