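import Cfsg.Agent.H90.CenterIndex
import Cfsg.Agent.FusionSys.Normal
import Cfsg.Agent.PGroups.Extraspecial
import Cfsg.Prelude.Def_Transfer

/-!
Systems over a `p`-group with an extraspecial subgroup of index `p` and a larger centre.
-/

set_option autoImplicit false
set_option linter.unusedSectionVars false
set_option linter.style.haveILetI false

namespace Cfsg.Agent.H49

open Cfsg Cfsg.FusionSystem Cfsg.Agent.FusionSys Subgroup

variable {Ω : Type*} [Group Ω] {S : Subgroup Ω} [Finite S] {p : ℕ} [hp : Fact p.Prime]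

/-- With derived elements in a central subgroup `Z` of order `p`, a centralizer has index at most `p`. -/
theorem centralizer_index_le {Z K : Subgroup Ω} (hZ : Nat.card Z = p) (hK : K ≤ S) (w : Ω)
    (hc : ∀ x ∈ K, x * w * x⁻¹ * w⁻¹ ∈ Z) (hZc : ∀ c ∈ Z, ∀ x ∈ K, x * c = c * x) :
    ((centralizer ({w} : Set Ω)).subgroupOf K).index ≤ p := by
  haveI : Finite Z := Nat.finite_of_card_ne_zero (hZ ▸ hp.out.ne_zero)
  let ψ : K →* Z := MonoidHom.mk' (fun x => ⟨(x : Ω) * w * (x : Ω)⁻¹ * w⁻¹, hc x x.2⟩) fun x y =>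
    Subtype.ext (by
      show (x : Ω) * y * w * ((x : Ω) * y)⁻¹ * w⁻¹ = (x * w * (x : Ω)⁻¹ * w⁻¹) * (y * w * (y : Ω)⁻¹ * w⁻¹)
      have h1 : (x : Ω) * (y * w * (y : Ω)⁻¹ * w⁻¹) = (y * w * (y : Ω)⁻¹ * w⁻¹) * x :=
        hZc _ (hc y y.2) x x.2
      calc (x : Ω) * y * w * ((x : Ω) * y)⁻¹ * w⁻¹
          = (x : Ω) * (y * w * (y : Ω)⁻¹ * w⁻¹) * (w * (x : Ω)⁻¹ * w⁻¹) := by group
        _ = (y * w * (y : Ω)⁻¹ * w⁻¹) * (x * w * (x : Ω)⁻¹ * w⁻¹) := by rw [h1]; group
        _ = _ := congrArg Subtype.val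
          ((haveI := isCyclic_of_prime_card hZ; IsCyclic.isMulCommutative (α := Z)).is_comm.comm
            (⟨_, hc y y.2⟩ : Z) ⟨_, hc x x.2⟩))
  have hle : ψ.ker ≤ (centralizer ({w} : Set Ω)).subgroupOf K := fun x hx => by
    have h : (x : Ω) * w * (x : Ω)⁻¹ * w⁻¹ = 1 := congrArg Subtype.val (MonoidHom.mem_ker.1 hx)
    rw [mul_inv_eq_one, mul_inv_eq_iff_eq_mul] at h
    exact mem_centralizer_singleton_iff.2 h
  haveI : Finite K := finite_of_le hK
  refine le_trans (Nat.le_of_dvd ?_ (index_dvd_of_le hle)) ?_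
  · exact Nat.pos_of_ne_zero index_ne_zero_of_finite
  · rw [index_ker, ← hZ]
    exact Nat.card_le_card_of_injective _ Subtype.val_injective

variable {F : FusionSystem S}

/-- An abelian essential subgroup with a moved `Z` forces a centre of index `p²`. -/
theorem center_index_of_moved (hS : IsPGroup p S) (hF : F.IsSaturated p) {Z E : Subgroup Ω}
    (hZ : Nat.card Z = p) (hZc : ∀ c ∈ Z, c ∈ S ∧ ∀ x ∈ S, x * c = c * x)
    (hder : ∀ x ∈ S, ∀ y ∈ S, x * y * x⁻¹ * y⁻¹ ∈ Z) (hna : ∃ x ∈ S, ∃ y ∈ S, x * y ≠ y * x)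
    (hE : F.IsEssential p E) (hab : ∀ a ∈ E, ∀ b ∈ E, a * b = b * a)
    {α : MulAut E} (hα : α ∈ F.autGroup E) {z₀ : Ω} (hz₀E : z₀ ∈ E) (hz₀ : z₀ ∈ Z)
    (hmove : autMap α z₀ ∉ Z) : (center S).index = p ^ 2 := by
  have hES := hE.1.1
  have hlt := lt_of_isEssential hS hF hE
  have hC := centralizerIn_le_of_isCentric hE.1
  haveI := finite_autGroup F hES
  haveI := finite_of_le hES
  have hzE : ∀ c, c ∈ S → (∀ x ∈ S, x * c = c * x) → c ∈ E := fun c hc h =>
    hC (FusionSys.mem_centralizerIn.2 ⟨hc, fun y hy => h y (hES hy)⟩)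
  have hZE : Z ≤ E := fun c hc => hzE c (hZc c hc).1 (hZc c hc).2
  have hn : ∀ x ∈ S, x ∈ normalizer (E : Set Ω) := fun x hx => mem_normalizer_of_maps fun y hy => by
    have := E.mul_mem (hZE (hder x hx y (hES hy))) hy
    simpa [mul_assoc] using this
  have hαm := (mem_autGroup_iff hES).1 hα
  have hz₀1 : z₀ ≠ 1 := fun h => hmove (by rw [h, hαm.map_one]; exact one_mem _)
  have hgen : ∀ c ∈ Z, ∀ d ∈ Z, c ≠ 1 → d ∈ zpowers c := fun c hc d hd h1 =>
    (PGroups.zpowers_eq_of_card_eq hZ hc h1).symm ▸ hd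
  -- the key contradiction
  have hkey : ∀ x ∈ S, x ∉ E → x * autMap α z₀ = autMap α z₀ * x →
      ∀ x₂ ∈ S, x₂ ∉ E → x₂ * autMap α⁻¹ z₀ = autMap α⁻¹ z₀ * x₂ → False := by
    intro x hx hxE hxc x₂ hx₂ hx₂E hx₂c
    let t : F.autGroup E := ⟨conjAut (hn x hx), conjAut_mem_autGroup F hES ⟨hx, hn x hx⟩⟩
    let t₂ : F.autGroup E := ⟨conjAut (hn x₂ hx₂), conjAut_mem_autGroup F hES ⟨hx₂, hn x₂ hx₂⟩⟩
    let a : F.autGroup E := ⟨α, hα⟩
    have ht : ∀ e ∈ E, ∃ u ∈ Z, autMap (t : MulAut E) e = u * e := fun e he =>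
      ⟨_, hder x hx e (hES he), by rw [autMap_conjAut _ he, conjMap_apply]; group⟩
    have ht₂ : ∀ e ∈ E, ∃ u ∈ Z, autMap (t₂ : MulAut E) e = u * e := fun e he =>
      ⟨_, hder x₂ hx₂ e (hES he), by rw [autMap_conjAut _ he, conjMap_apply]; group⟩
    have hne : ∀ y (hy : y ∈ S), y ∉ E → conjAut (hn y hy) ≠ 1 := fun y hy hyE h =>
      hyE (hC (FusionSys.mem_centralizerIn.2 ⟨hy, fun e he => by
        have h1 : ((conjAut (hn y hy) ⟨e, he⟩ : E) : Ω) = e := by rw [h]; rfl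
        rw [coe_conjAut, mul_inv_eq_iff_eq_mul] at h1
        exact h1.symm⟩))
    let t' : F.autGroup E := a * t₂ * a⁻¹
    have ht'e : ∀ e ∈ E, ∃ u ∈ Z, autMap (t' : MulAut E) e = autMap α u * e := by
      intro e he
      obtain ⟨u, hu, hue⟩ := ht₂ _ (autMap_mem α⁻¹ he)
      refine ⟨u, hu, ?_⟩
      show autMap (α * (t₂ : MulAut E) * α⁻¹) e = _
      rw [autMap_mul _ _ he, autMap_mul _ _ (autMap_mem _ he), hue,
        hαm.map_mul (hZE hu) (autMap_mem _ he), autMap_inv_apply α he]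
    -- `t` fixes `α Z`, `t'` fixes `Z`
    have htfix : ∀ u ∈ Z, autMap (t : MulAut E) (autMap α u) = autMap α u := by
      intro u hu
      obtain ⟨i, rfl⟩ := mem_zpowers_iff.1 (hgen z₀ hz₀ u hu hz₀1)
      have h2 : autMap α (z₀ ^ i) = autMap α z₀ ^ i := by
        rw [autMap_apply α (zpow_mem hz₀E i), autMap_apply α hz₀E, ← coe_zpow, ← map_zpow]
        rfl
      rw [h2, autMap_conjAut _ (zpow_mem (autMap_mem α hz₀E) i), conjMap_apply,
        (Commute.zpow_right (show Commute x (autMap α z₀) from hxc) i).eq, mul_inv_cancel_right]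
    have ht'fix : ∀ u ∈ Z, autMap (t' : MulAut E) u = u := by
      intro u hu
      obtain ⟨i, rfl⟩ := mem_zpowers_iff.1 (hgen z₀ hz₀ u hu hz₀1)
      show autMap (α * (t₂ : MulAut E) * α⁻¹) _ = _
      have h2 : autMap α⁻¹ (z₀ ^ i) = autMap α⁻¹ z₀ ^ i := by
        rw [autMap_apply α⁻¹ (zpow_mem hz₀E i), autMap_apply α⁻¹ hz₀E, ← coe_zpow, ← map_zpow]
        rfl
      rw [autMap_mul _ _ (zpow_mem hz₀E i), autMap_mul _ _ (autMap_mem _ (zpow_mem hz₀E i)),
        show autMap (t₂ : MulAut E) (autMap α⁻¹ (z₀ ^ i)) = autMap α⁻¹ (z₀ ^ i) by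
          rw [h2, autMap_conjAut _ (zpow_mem (autMap_mem α⁻¹ hz₀E) i), conjMap_apply,
            (Commute.zpow_right (show Commute x₂ (autMap α⁻¹ z₀) from hx₂c) i).eq, mul_inv_cancel_right],
        autMap_inv_apply α (zpow_mem hz₀E i)]
    have hcomm : t * t' = t' * t := by
      refine Subtype.ext (aut_ext fun e he => ?_)
      obtain ⟨u, hu, hue⟩ := ht e he
      obtain ⟨v, hv, hve⟩ := ht'e e he
      have hvE := autMap_mem α (hZE hv)
      show autMap ((t : MulAut E) * (t' : MulAut E)) e = autMap ((t' : MulAut E) * (t : MulAut E)) e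
      rw [autMap_mul _ _ he, autMap_mul _ _ he, hue, hve,
        ((mem_autGroup_iff hES).1 t.2).map_mul hvE he, htfix v hv, hue,
        ((mem_autGroup_iff hES).1 t'.2).map_mul (hZE hu) he, ht'fix u hu, hve, ← mul_assoc,
        hab _ hvE _ (hZE hu), mul_assoc]
    obtain ⟨-, R, hR⟩ := isFullyAutomized_of_isFullyNormalized hS hF hE.2.1
    have htR : ∀ y (hy : y ∈ S), (⟨conjAut (hn y hy), conjAut_mem_autGroup F hES ⟨hy, hn y hy⟩⟩ :
        F.autGroup E) ∈ (R : Subgroup (F.autGroup E)) := fun y hy =>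
      hR.symm ▸ mem_subgroupOf.2 (mem_autInducedBy.2 ⟨y, hy, hn y hy, rfl⟩)
    have hKp : IsPGroup p (zpowers t ⊔ zpowers t' : Subgroup (F.autGroup E)) := by
      refine IsPGroup.to_sup_of_normal_right' ?_ ?_ ?_
      · exact R.isPGroup'.to_le (zpowers_le.2 (htR x hx))
      · refine IsPGroup.to_le ((R.isPGroup').map (MulAut.conj a).toMonoidHom) (zpowers_le.2 ?_)
        exact ⟨t₂, htR x₂ hx₂, rfl⟩
      · refine zpowers_le.2 (mem_normalizer_iff.2 fun y => ?_)
        have h : ∀ z ∈ zpowers t', t * z = z * t := fun z hz => by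
          obtain ⟨i, rfl⟩ := mem_zpowers_iff.1 hz
          exact ((show Commute t t' from hcomm).zpow_right i).eq
        constructor
        · intro hy
          rwa [h y hy, mul_inv_cancel_right]
        · intro hy
          have h1 := h _ hy
          rw [mul_assoc (t * y), inv_mul_cancel, mul_one] at h1
          exact (mul_left_cancel h1).symm ▸ hy
    obtain ⟨R', hR'⟩ := hKp.exists_le_sylow
    obtain ⟨g, hg⟩ := MulAction.exists_smul_eq (F.autGroup E) R R'
    -- all displacements lie in the line `g Z`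
    have hline : ∀ s : F.autGroup E, s ∈ (R' : Subgroup (F.autGroup E)) → ∀ e ∈ E,
        ∃ u ∈ Z, autMap (s : MulAut E) e = autMap (g : MulAut E) u * e := by
      intro s hs e he
      rw [← hg, Sylow.coe_subgroup_smul] at hs
      obtain ⟨r, hr, rfl⟩ := hs
      rw [SetLike.mem_coe, hR, mem_subgroupOf, mem_autInducedBy] at hr
      obtain ⟨y, hy, hyn, hye⟩ := hr
      have hgm := (mem_autGroup_iff hES).1 g.2
      refine ⟨_, hder y hy _ (hES (autMap_mem (g : MulAut E)⁻¹ he)), ?_⟩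
      show autMap ((g : MulAut E) * (r : MulAut E) * (g : MulAut E)⁻¹) e = _
      rw [autMap_mul _ _ he, autMap_mul _ _ (autMap_mem _ he), hye, autMap_conjAut _ (autMap_mem _ he),
        conjMap_apply]
      conv_rhs => arg 2; rw [← autMap_inv_apply (g : MulAut E) he]
      rw [← hgm.map_mul (hZE (hder y hy _ (hES (autMap_mem (g : MulAut E)⁻¹ he)))) (autMap_mem _ he)]
      congr 1
      group
    have hgen' : ∀ (β : F.autGroup E) (c : Ω), c ∈ Z → c ≠ 1 → ∀ d ∈ Z,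
        ∃ i : ℤ, autMap (β : MulAut E) d = autMap (β : MulAut E) c ^ i := by
      intro β c hc h1 d hd
      obtain ⟨i, rfl⟩ := mem_zpowers_iff.1 (hgen c hc d hd h1)
      refine ⟨i, ?_⟩
      rw [autMap_apply _ (zpow_mem (hZE hc) i), autMap_apply _ (hZE hc), ← coe_zpow, ← map_zpow]
      rfl
    obtain ⟨e₁, he₁⟩ : ∃ e : E, (t : MulAut E) e ≠ e := by
      by_contra h
      push Not at h
      exact hne x hx hxE (MulEquiv.ext h)
    obtain ⟨e₂, he₂⟩ : ∃ e : E, (t' : MulAut E) e ≠ e := by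
      by_contra h
      push Not at h
      have h1 : t' = 1 := Subtype.ext (MulEquiv.ext h)
      have h2 : t₂ = 1 := by simpa [t'] using h1
      exact hne x₂ hx₂ hx₂E (congrArg Subtype.val h2)
    obtain ⟨u, hu, hue⟩ := ht e₁ e₁.2
    obtain ⟨v, hv, hve⟩ := hline t (hR' (mem_sup_left (mem_zpowers t))) e₁ e₁.2
    obtain ⟨u', hu', hu'e⟩ := ht'e e₂ e₂.2
    obtain ⟨v', hv', hv'e⟩ := hline t' (hR' (mem_sup_right (mem_zpowers t'))) e₂ e₂.2
    have huv : u = autMap (g : MulAut E) v := mul_right_cancel (hue.symm.trans hve)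
    have huv' : autMap α u' = autMap (g : MulAut E) v' := mul_right_cancel (hu'e.symm.trans hv'e)
    have hu1 : u ≠ 1 := fun h => he₁ (Subtype.ext (by rw [← autMap_coe, hue, h, one_mul]))
    have hv1 : v ≠ 1 := fun h => hu1 (by rw [huv, h, ((mem_autGroup_iff hES).1 g.2).map_one])
    have hu'1 : u' ≠ 1 := fun h => he₂ (Subtype.ext (by
      rw [← autMap_coe, hu'e, h, hαm.map_one, one_mul]))
    obtain ⟨i, hi⟩ := hgen' g v hv hv1 v' hv'
    rw [← huv, ← huv'] at hi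
    obtain ⟨j, hj⟩ := hgen' a u' hu' hu'1 z₀ hz₀
    refine hmove ?_
    rw [show autMap α z₀ = autMap α u' ^ j from hj, hi]
    exact zpow_mem (zpow_mem hu i) j
  -- some centralizer in `S` lies in `E`, so `E` has index `p`
  obtain ⟨w, hwE, hw⟩ : ∃ w ∈ E, ∀ x ∈ S, x * w = w * x → x ∈ E := by
    by_contra hcon
    push Not at hcon
    obtain ⟨x, hx, hxc, hxE⟩ := hcon _ (autMap_mem α hz₀E)
    obtain ⟨x₂, hx₂, hx₂c, hx₂E⟩ := hcon _ (autMap_mem α⁻¹ hz₀E)
    exact hkey x hx hxE hxc x₂ hx₂ hx₂E hx₂c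
  have hEidx : (E.subgroupOf S).index = p := by
    have h1 := centralizer_index_le hZ le_rfl w (fun x hx => hder x hx w (hES hwE))
      fun c hc => (hZc c hc).2
    have h2 : (centralizer ({w} : Set Ω)).subgroupOf S ≤ E.subgroupOf S := fun x hx =>
      hw x x.2 (mem_centralizer_singleton_iff.1 hx)
    have h3 : (E.subgroupOf S).index ≤ p :=
      le_trans (Nat.le_of_dvd (Nat.pos_of_ne_zero index_ne_zero_of_finite) (index_dvd_of_le h2)) h1
    obtain ⟨k, hk⟩ := hS.index (H := E.subgroupOf S)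
    rw [hk] at h3 ⊢
    rcases k with _ | _ | k
    · rw [pow_zero, Subgroup.index_eq_one, subgroupOf_eq_top] at hk
      exact absurd hk hlt.not_ge
    · exact pow_one p
    · exact absurd h3 (not_le.2 (by
        calc p = p ^ 1 := (pow_one p).symm
          _ < p ^ (k + 1 + 1) := Nat.pow_lt_pow_right hp.out.one_lt (by omega)))
  obtain ⟨x, hx, hxE⟩ := SetLike.exists_of_lt hlt
  have hxe : ∀ y ∈ S, ∀ e ∈ E, x * e = e * x → y * e = e * y := by
    intro y hy e he hc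
    let M : Subgroup S := (centralizer ({e} : Set Ω)).subgroupOf S
    have hle : E.subgroupOf S ≤ M := fun z hz => mem_centralizer_singleton_iff.2 (hab z hz e he)
    have hxM : (⟨x, hx⟩ : S) ∈ M := mem_centralizer_singleton_iff.2 hc
    have hM : M = ⊤ := by
      have h := Subgroup.relIndex_mul_index hle
      rw [hEidx] at h
      rcases (Nat.dvd_prime hp.out).1 (Dvd.intro_left _ h) with h1 | h1
      · exact Subgroup.index_eq_one.1 h1
      · rw [h1] at h
        exact absurd (Subgroup.relIndex_eq_one.1 (Nat.eq_of_mul_eq_mul_right hp.out.pos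
          (h.trans (one_mul p).symm)) hxM) hxE
    exact mem_centralizer_singleton_iff.1 (hM.ge (mem_top (⟨y, hy⟩ : S)))
  have hker : (centralizer ({x} : Set Ω)).subgroupOf E = ((center S).map S.subtype).subgroupOf E := by
    ext e
    constructor
    · intro h
      refine ⟨⟨e, hES e.2⟩, mem_center_iff.2 fun y => Subtype.ext (hxe y y.2 e e.2 ?_), rfl⟩
      exact (mem_centralizer_singleton_iff.1 h).symm
    · rintro ⟨c, hc, hce⟩
      refine mem_centralizer_singleton_iff.2 ?_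
      show (e : Ω) * x = x * (e : Ω)
      rw [← show (c : Ω) = (e : Ω) from hce]
      exact (congrArg Subtype.val (mem_center_iff.1 hc ⟨x, hx⟩)).symm
  have h4 : ((center S).map S.subtype).relIndex E ≤ p := by
    rw [Subgroup.relIndex, ← hker]
    exact centralizer_index_le hZ hES x (fun e he => hder e (hES he) x hx)
      fun c hc y hy => (hZc c hc).2 y (hES hy)
  have h5 : (center S).index = ((center S).map S.subtype).relIndex E * p := by
    have hle : center S ≤ E.subgroupOf S := fun c hc =>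
      hzE _ c.2 fun y hy => congrArg Subtype.val (mem_center_iff.1 hc ⟨y, hy⟩)
    rw [← Subgroup.relIndex_mul_index hle, hEidx, ← Subgroup.relIndex_subgroupOf hES,
      show ((center S).map S.subtype).subgroupOf S = center S from
        comap_map_eq_self_of_injective S.subtype_injective _]
  obtain ⟨k, hk⟩ := hS.index (H := center S)
  have h6 : k ≤ 2 := by
    refine (Nat.pow_le_pow_iff_right hp.out.one_lt).1 ?_
    rw [← hk, h5, sq]
    exact Nat.mul_le_mul_right p h4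
  interval_cases k
  · exfalso
    rw [pow_zero, Subgroup.index_eq_one] at hk
    obtain ⟨a, ha, b, hb, hne⟩ := hna
    have h7 : (⟨b, hb⟩ : S) ∈ center S := hk ▸ mem_top _
    exact hne (congrArg Subtype.val (mem_center_iff.1 h7 ⟨a, ha⟩))
  · exact absurd (hk.trans (pow_one p)) PGroups.center_index_ne_prime
  · exact hk

/-- The centre of `S` is the centre of its extraspecial subgroup of index `p`. -/
theorem center_eq_of_extraspecial_index (hp2 : p ≠ 2) (hS : IsPGroup p S) (hF : F.IsSaturated p)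
    (hbot : ∀ R, F.IsNormal R → R = ⊥) {Q : Subgroup Ω} (hQS : Q ≤ S) (hQ : IsExtraspecial p Q)
    (hQi : (Q.subgroupOf S).index = p) :
    S ⊓ centralizer (S : Set Ω) = Q ⊓ centralizer (Q : Set Ω) := by
  haveI := finite_of_le hQS
  set Z := Q ⊓ centralizer (Q : Set Ω) with hZdef
  have hZmap : Z = (center Q).map Q.subtype := by
    ext z
    constructor
    · rintro ⟨hz, hzc⟩
      exact ⟨⟨z, hz⟩, mem_center_iff.2 fun y => Subtype.ext (mem_centralizer_iff.1 hzc y y.2), rfl⟩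
    · rintro ⟨w, hw, rfl⟩
      exact ⟨w.2, mem_centralizer_iff.2 fun y hy => congrArg Subtype.val (mem_center_iff.1 hw ⟨y, hy⟩)⟩
  have hZ : Nat.card Z = p := by rw [hZmap, card_map_of_injective Q.subtype_injective, hQ.2]
  have hQn : (Q.subgroupOf S).Normal := by
    obtain ⟨k, hk⟩ := IsPGroup.iff_card.1 hS
    refine Subgroup.normal_of_index_eq_minFac_card ?_
    rw [hQi, hk, Nat.Prime.pow_minFac hp.out fun h0 => ?_]
    rw [h0, pow_zero] at hk
    have := (Q.subgroupOf S).index_dvd_card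
    rw [hQi, hk, Nat.dvd_one] at this
    exact hp.out.one_lt.ne' this
  have hQconj : ∀ x ∈ S, ∀ q ∈ Q, x * q * x⁻¹ ∈ Q := fun x hx q hq =>
    hQn.conj_mem ⟨q, hQS hq⟩ hq ⟨x, hx⟩
  have hZn : (Z.subgroupOf S).Normal := ⟨fun z hz x => by
    refine mem_inf.2 ⟨hQconj x x.2 z hz.1, mem_centralizer_iff.2 fun y hy => ?_⟩
    have h1 : (x : Ω)⁻¹ * y * x ∈ Q := by simpa using hQconj _ (S.inv_mem x.2) y hy
    have h2 := mem_centralizer_iff.1 hz.2 _ h1
    show y * ((x : Ω) * z * (x : Ω)⁻¹) = (x : Ω) * z * (x : Ω)⁻¹ * y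
    calc y * ((x : Ω) * z * (x : Ω)⁻¹) = (x : Ω) * ((x : Ω)⁻¹ * y * x * z) * (x : Ω)⁻¹ := by group
      _ = (x : Ω) * z * (x : Ω)⁻¹ * y := by
        rw [show (x : Ω)⁻¹ * y * x * (z : Ω) = z * ((x : Ω)⁻¹ * y * x) from h2]; group⟩
  have hZS : Z ≤ S := inf_le_left.trans hQS
  have hZcen : Z.subgroupOf S ≤ center S := PGroups.le_center_of_card_eq hS _ (by
    rw [Nat.card_congr (subgroupOfEquivOfLe hZS).toEquiv, hZ])
  have hZc : ∀ c ∈ Z, c ∈ S ∧ ∀ x ∈ S, x * c = c * x := fun c hc =>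
    ⟨hZS hc, fun x hx => congrArg Subtype.val (mem_center_iff.1 (hZcen (x := ⟨c, hZS hc⟩) hc) ⟨x, hx⟩)⟩
  refine le_antisymm (fun z hz => ?_) fun z hz =>
    ⟨(hZc z hz).1, mem_centralizer_iff.2 fun x hx => (hZc z hz).2 x hx⟩
  have hzQ : ∀ w ∈ S ⊓ centralizer (S : Set Ω), w ∈ Q → w ∈ Z := fun w hw hwQ =>
    ⟨hwQ, mem_centralizer_iff.2 fun y hy => mem_centralizer_iff.1 hw.2 y (hQS hy)⟩
  by_contra hzZ
  have hznQ : z ∉ Q := fun h => hzZ (hzQ z hz h)
  have hdec : ∀ s ∈ S, ∃ q ∈ Q, ∃ c, c ∈ S ∧ (∀ x ∈ S, x * c = c * x) ∧ s = q * c := by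
    intro s hs
    have htop : Q.subgroupOf S ⊔ center S = ⊤ := by
      have h := Subgroup.relIndex_mul_index (le_sup_left (a := Q.subgroupOf S) (b := center S))
      rw [hQi] at h
      rcases (Nat.dvd_prime hp.out).1 (Dvd.intro_left _ h) with h1 | h1
      · exact Subgroup.index_eq_one.1 h1
      · rw [h1] at h
        have hzc : (⟨z, hz.1⟩ : S) ∈ center S :=
          mem_center_iff.2 fun y => Subtype.ext (mem_centralizer_iff.1 hz.2 y y.2)
        exact absurd (Subgroup.relIndex_eq_one.1 (Nat.eq_of_mul_eq_mul_right hp.out.pos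
          (h.trans (one_mul p).symm)) (mem_sup_right hzc)) hznQ
    obtain ⟨q, hq, c, hc, hqc⟩ := Subgroup.mem_sup_of_normal_right.1 (htop ▸ mem_top (⟨s, hs⟩ : S))
    exact ⟨q, hq, c, c.2, fun x hx => congrArg Subtype.val (mem_center_iff.1 hc ⟨x, hx⟩),
      (congrArg Subtype.val hqc).symm⟩
  have hderQ : ∀ a ∈ Q, ∀ b ∈ Q, a * b * a⁻¹ * b⁻¹ ∈ Z := by
    intro a ha b hb
    rw [hZmap]
    exact ⟨_, hQ.1.2.2.le (commutator_mem_commutator (mem_top (⟨a, ha⟩ : Q)) (mem_top ⟨b, hb⟩)), rfl⟩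
  have hder : ∀ a ∈ S, ∀ b ∈ S, a * b * a⁻¹ * b⁻¹ ∈ Z := by
    intro a ha b hb
    obtain ⟨q, hq, c, hcS, hc, rfl⟩ := hdec a ha
    obtain ⟨r, hr, d, hdS, hd, rfl⟩ := hdec b hb
    have h1 : q * c * (r * d) * (q * c)⁻¹ * (r * d)⁻¹ = q * r * q⁻¹ * r⁻¹ := by
      have e1 : c * (r * d) = (r * d) * c := (hc _ hb).symm
      have e2 : q⁻¹ * d = d * q⁻¹ := hd _ (hQS (inv_mem hq))
      calc q * c * (r * d) * (q * c)⁻¹ * (r * d)⁻¹ = q * (c * (r * d)) * c⁻¹ * q⁻¹ * d⁻¹ * r⁻¹ := by group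
        _ = q * r * (d * q⁻¹) * d⁻¹ * r⁻¹ := by rw [e1]; group
        _ = q * r * q⁻¹ * r⁻¹ := by rw [← e2]; group
    rw [h1]
    exact hderQ q hq r hr
  obtain ⟨a₀, b₀, hab₀⟩ := PGroups.isExtraspecial_exists_ne hQ
  have hna : ∃ x ∈ S, ∃ y ∈ S, x * y ≠ y * x := ⟨a₀, hQS a₀.2, b₀, hQS b₀.2, fun h =>
    hab₀ (commutatorElement_eq_one_iff_mul_comm.2 (Subtype.ext h))⟩
  -- nonabelian members preserve `Z`
  have hinv : ∀ (P : Subgroup Ω), P ≤ S → (∃ a ∈ P, ∃ b ∈ P, a * b ≠ b * a) → Z ≤ P ∧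
      ∀ α ∈ F.autGroup P, ∀ c ∈ Z, autMap α c ∈ Z := by
    rintro P hP ⟨a, ha, b, hb, hne⟩
    have hc1 : a * b * a⁻¹ * b⁻¹ ≠ 1 := fun h => hne (by
      rw [mul_inv_eq_one, mul_inv_eq_iff_eq_mul] at h; exact h)
    have hcZ := hder a (hP ha) b (hP hb)
    have hcP : a * b * a⁻¹ * b⁻¹ ∈ P := mul_mem (mul_mem (mul_mem ha hb) (inv_mem ha)) (inv_mem hb)
    have hZeq := PGroups.zpowers_eq_of_card_eq hZ hcZ hc1
    refine ⟨hZeq ▸ zpowers_le.2 hcP, fun α hα c hc => ?_⟩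
    have hm := (mem_autGroup_iff hP).1 hα
    obtain ⟨i, rfl⟩ := mem_zpowers_iff.1 (hZeq.symm ▸ hc : c ∈ zpowers (a * b * a⁻¹ * b⁻¹))
    have h2 : autMap α ((a * b * a⁻¹ * b⁻¹) ^ i) = autMap α (a * b * a⁻¹ * b⁻¹) ^ i := by
      rw [autMap_apply α (zpow_mem hcP i), autMap_apply α hcP, ← coe_zpow, ← map_zpow]
      rfl
    rw [h2]
    refine zpow_mem ?_ i
    rw [hm.map_mul (mul_mem (mul_mem ha hb) (inv_mem ha)) (inv_mem hb), hm.map_conj ha hb, hm.map_inv hb]
    exact hder _ (hP (autMap_mem α ha)) _ (hP (autMap_mem α hb))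
  by_cases hall : ∀ E, F.IsEssential p E → ∀ α ∈ F.autGroup E, ∀ c ∈ Z, c ∈ E → autMap α c ∈ Z
  · haveI : Finite Z := Nat.finite_of_card_ne_zero (hZ ▸ hp.out.ne_zero)
    have hN : F.IsNormal Z := by
      refine isNormal_of_essential hS hF fun P hP => ?_
      have hPS : P ≤ S := by
        rcases hP with rfl | hP
        · exact le_rfl
        · exact hP.1.1
      have h : Z ≤ P ∧ ∀ α ∈ F.autGroup P, ∀ c ∈ Z, autMap α c ∈ Z := by
        rcases hP with rfl | hP
        · exact hinv _ le_rfl hna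
        · have hle : Z ≤ P := fun c hc => centralizerIn_le_of_isCentric hP.1
            (FusionSys.mem_centralizerIn.2 ⟨(hZc c hc).1, fun y hy => (hZc c hc).2 y (hPS hy)⟩)
          exact ⟨hle, fun α hα c hc => hall P hP α hα c hc (hle hc)⟩
      exact ⟨h.1, fun α hα => (((mem_autGroup_iff hPS).1 hα).mono h.1).image_eq_of_mapsTo (h.2 α hα)⟩
    rw [hbot Z hN, card_bot] at hZ
    exact hp.out.one_lt.ne hZ
  · push Not at hall
    obtain ⟨E, hE, α, hα, c, hcZ, hcE, hmove⟩ := hall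
    have hab : ∀ a ∈ E, ∀ b ∈ E, a * b = b * a := fun a ha b hb => by
      by_contra hne
      exact hmove ((hinv E hE.1.1 ⟨a, ha, b, hb, hne⟩).2 α hα c hcZ)
    have hidx := center_index_of_moved hS hF hZ hZc hder hna hE hab hα hcE hcZ hmove
    have he := H90.CI.zc_eq_odd hS hidx hF hp2 hbot hE
    have hzc : z ∈ H90.CI.zc S := H90.CI.mem_zc.2 ⟨hz.1, fun g hg => mem_centralizer_iff.1 hz.2 g hg⟩
    rw [he] at hzc
    refine hzZ ((commutator_le.2 fun a ha b hb => ?_ : ⁅S, S⁆ ≤ Z) hzc)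
    rw [commutatorElement_def]
    exact hder a ha b hb

end Cfsg.Agent.H49
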