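import Mathlib

/-!
An involution with trivial centralizer in every proper normal subgroup and fused through a four-group.
-/

set_option autoImplicit false

namespace Cfsg.Agent.H49

open Subgroup

theorem normal_eq_bot_of_fixedPointFree_four {H : Type*} [Group H] [Finite H] (z : H) (hz : orderOf z = 2)
    (E : Subgroup H) (hE : IsKleinFour ↥E) (hzE : z ∈ E) (hc : ∀ e ∈ E, e ≠ 1 → IsConj z e)
    (N : Subgroup H) [N.Normal] (hN : N ⊓ centralizer ({z} : Set H) = ⊥) : N = ⊥ := by
  classical
  -- every non-identity element of `E` inverts `N`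
  have hinv : ∀ e ∈ E, e ≠ 1 → ∀ n ∈ N, e * n * e⁻¹ = n⁻¹ := by
    intro e he he1
    obtain ⟨h, rfl⟩ := isConj_iff.mp (hc e he he1)
    set φ := MulAut.conjNormal (H := N) (h * z * h⁻¹) with hφ
    have hfree : MonoidHom.FixedPointFree φ := fun x hx => by
      have h1 : h * z * h⁻¹ * (x : H) * (h * z * h⁻¹)⁻¹ = x := by
        rw [← MulAut.conjNormal_apply]; exact congrArg Subtype.val hx
      have h2 : h⁻¹ * x * h ∈ N ⊓ centralizer ({z} : Set H) := by
        refine ⟨by simpa using Subgroup.Normal.conj_mem ‹_› (x : H) x.2 h⁻¹,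
          mem_centralizer_singleton_iff.mpr ?_⟩
        calc h⁻¹ * x * h * z = h⁻¹ * (h * z * h⁻¹ * x * (h * z * h⁻¹)⁻¹) * (h * z * h⁻¹) * h := by
              rw [h1]; group
          _ = z * (h⁻¹ * x * h) := by group
      rw [hN, Subgroup.mem_bot] at h2
      exact Subtype.ext (by simpa [mul_eq_one_iff_eq_inv, inv_mul_eq_one, mul_assoc] using h2)
    have hsq : Function.Involutive φ := fun x => by
      have : (h * z * h⁻¹) * (h * z * h⁻¹) = 1 := by
        have hz2 : z * z = 1 := by rw [← pow_two, ← hz, pow_orderOf_eq_one]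
        calc h * z * h⁻¹ * (h * z * h⁻¹) = h * (z * z) * h⁻¹ := by group
          _ = 1 := by rw [hz2]; simp
      rw [hφ, ← MulAut.mul_apply, ← map_mul, this, map_one, MulAut.one_apply]
    intro n hn
    have h3 := congrArg Subtype.val (congrFun (hfree.coe_eq_inv_of_involutive hsq) ⟨n, hn⟩)
    rw [hφ, MulAut.conjNormal_apply] at h3
    exact h3
  rw [eq_bot_iff]
  intro n hn
  have hz1 : z ≠ 1 := fun h => by simp [h] at hz
  haveI : IsKleinFour ↥E := hE
  haveI : Fintype ↥E := Fintype.ofFinite _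
  obtain ⟨e, he, he1, hez⟩ : ∃ e ∈ E, e ≠ 1 ∧ e ≠ z := by
    by_contra hcon
    push Not at hcon
    have : (Finset.univ : Finset ↥E) ⊆ {1, ⟨z, hzE⟩} := fun x _ => by
      by_cases hx : (x : H) = 1
      · simp [Subtype.ext_iff, hx]
      · simp [Subtype.ext_iff, hcon x x.2 hx]
    have h4 := (Finset.card_le_card this).trans Finset.card_le_two
    rw [Finset.card_univ, ← Nat.card_eq_fintype_card, IsKleinFour.card_four] at h4
    omega
  have hze : z * e ∈ E := mul_mem hzE he
  have hze1 : z * e ≠ 1 := fun h => hez (by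
    have hz2 : z * z = 1 := by rw [← pow_two, ← hz, pow_orderOf_eq_one]
    calc e = z * z * e := by rw [hz2, one_mul]
      _ = z := by rw [mul_assoc, h, mul_one])
  have a := hinv _ hze hze1 n hn
  have b := hinv e he he1 n hn
  have c := hinv z hzE hz1 n⁻¹ (inv_mem hn)
  have d : z * e * n * (z * e)⁻¹ = n := by
    calc z * e * n * (z * e)⁻¹ = z * (e * n * e⁻¹) * z⁻¹ := by group
      _ = n := by rw [b, c, inv_inv]
  have hnn : n⁻¹ = n := a.symm.trans d
  have hfix : z * n * z⁻¹ = n := by rw [hinv z hzE hz1 n hn, hnn]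
  have : n ∈ N ⊓ centralizer ({z} : Set H) :=
    ⟨hn, mem_centralizer_singleton_iff.mpr (mul_inv_eq_iff_eq_mul.mp hfix).symm⟩
  rw [hN] at this
  exact this

end Cfsg.Agent.H49
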