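import Cfsg.Agent.FusionSys.Alperin

/-!
Invariant subsystems: the strong invariance condition.
-/

set_option autoImplicit false
set_option linter.unusedSectionVars false
set_option linter.style.haveILetI false

namespace Cfsg.Agent.H49

open Cfsg Cfsg.FusionSystem Cfsg.Agent.FusionSys

variable {Ω : Type*} [Group Ω] {S T : Subgroup Ω}

/-- Transport condition for a map `s` of `F` on a subgroup `Q` of `T`. -/
def StrongInv (F : FusionSystem S) (E : FusionSystem T) : Prop :=
  ∀ (P Q : Subgroup Ω) (f s : Ω → Ω), IsMap E P f → P ≤ Q → Q ≤ T → (∀ x ∈ P, f x ∈ Q) →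
    IsMap F Q s → ∃ c, IsMap E (imgSub s P) c ∧ ∀ x ∈ P, c (s x) = s (f x)

/-- A map is a map of `E` followed by an automorphism of `T` in `F`. -/
def Factors (F : FusionSystem S) (E : FusionSystem T) (P : Subgroup Ω) (f : Ω → Ω) : Prop :=
  ∃ a, IsIso F T T a ∧ ∃ g, IsMap E P g ∧ ∀ x ∈ P, f x = a (g x)

variable {F : FusionSystem S} {E : FusionSystem T} {P R : Subgroup Ω} {f g : Ω → Ω}

theorem Factors.mono (h : Factors F E P f) (hR : R ≤ P) : Factors F E R f := by
  obtain ⟨a, ha, g, hg, he⟩ := h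
  exact ⟨a, ha, g, hg.mono hR, fun x hx => he x (hR hx)⟩

theorem Factors.congr (h : Factors F E P f) (he : ∀ x ∈ P, g x = f x) : Factors F E P g := by
  obtain ⟨a, ha, k, hk, hk'⟩ := h
  exact ⟨a, ha, k, hk, fun x hx => (he x hx).trans (hk' x hx)⟩

theorem Factors.of_sub (hTS : T ≤ S) (h : IsMap E P f) : Factors F E P f :=
  ⟨id, isIso_id F hTS, f, h, fun _ _ => rfl⟩

theorem Factors.comp (hSI : StrongInv F E) (hf : Factors F E P f) (hg : Factors F E R g)
    (hR : ∀ x ∈ P, f x ∈ R) : Factors F E P (g ∘ f) := by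
  obtain ⟨a, ha, f₀, hf₀, hfe⟩ := hf
  obtain ⟨b, hb, g₀, hg₀, hge⟩ := hg
  obtain ⟨a', ha', ha'a, haa'⟩ := ha.exists_symm
  obtain ⟨c, hc, hce⟩ := hSI R T g₀ a' hg₀ hg₀.le le_rfl (fun x hx => hg₀.mem_S hx) ha'.isMap
  have hmem : ∀ x ∈ P, f₀ x ∈ imgSub a' R := fun x hx =>
    (ha'.isMap.mono hg₀.le).mem_imgSub.2 ⟨f x, hR x hx, by
      rw [hfe x hx, ha'a _ (hf₀.mem_S hx)]⟩
  refine ⟨b ∘ a, ha.comp hb, c ∘ f₀, hf₀.comp hc hmem, fun x hx => ?_⟩
  have h1 : c (f₀ x) = a' (g₀ (f x)) := by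
    rw [← hce _ (hR x hx), hfe x hx, ha'a _ (hf₀.mem_S hx)]
  show g (f x) = b (a (c (f₀ x)))
  rw [hge _ (hR x hx), h1, haa' _ (hg₀.mem_S (hR x hx))]

theorem Factors.inv {Q : Subgroup Ω} (hSI : StrongInv F E) (hf : Factors F E P f)
    (hfi : IsIso F P Q f) (hg : ∀ x ∈ P, g (f x) = x) : Factors F E Q g := by
  obtain ⟨a, ha, f₀, hf₀, hfe⟩ := hf
  obtain ⟨a', ha', ha'a, -⟩ := ha.exists_symm
  obtain ⟨i, hi, hie⟩ := hf₀.exists_inv
  obtain ⟨c, hc, hce⟩ := hSI (imgSub f₀ P) T i a hi hf₀.imgSub_le le_rfl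
    (fun x hx => hi.mem_S hx) ha.isMap
  have himg : Q ≤ imgSub a (imgSub f₀ P) := fun y hy => by
    obtain ⟨x, hx, rfl⟩ := hfi.exists_preimage hy
    exact (ha.isMap.mono hf₀.imgSub_le).mem_imgSub.2
      ⟨f₀ x, hf₀.mem_imgSub.2 ⟨x, hx, rfl⟩, (hfe x hx).symm⟩
  refine ⟨a', ha', c, hc.mono himg, fun y hy => ?_⟩
  obtain ⟨x, hx, rfl⟩ := hfi.exists_preimage hy
  rw [hg x hx, hfe x hx, hce _ (hf₀.mem_imgSub.2 ⟨x, hx, rfl⟩), hie x hx, ha'a _ (hf₀.le hx)]

variable {p : ℕ} [hp : Fact p.Prime] [Finite S]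

/-- An automorphism of a fully normalized subgroup factors, by Frattini and receptivity. -/
theorem factors_aut (hS : IsPGroup p S) (hF : F.IsSaturated p) (hE : E.IsSubsystemOf F) (hPT : P ≤ T)
    (hSI : StrongInv F E) (hPn : F.IsFullyNormalized P)
    (ih : ∀ f, IsMap F (normalizerIn T P) f → Factors F E (normalizerIn T P) f)
    {γ : MulAut P} (hγ : γ ∈ F.autGroup P) : Factors F E P (autMap γ) := by
  have hTS := le_of_isSubsystemOf hE
  have hPS := hPT.trans hTS
  haveI := finite_autGroup F hPS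
  haveI : Finite P := finite_of_le hPS
  let G := F.autGroup P
  let K : Subgroup G := (E.autGroup P).subgroupOf G
  haveI hKn : K.Normal := ⟨fun k hk s => by
    rw [Subgroup.mem_subgroupOf] at hk ⊢
    have hks := (mem_autGroup_iff hPT).1 hk
    obtain ⟨c, hc, hce⟩ := hSI P P _ _ hks le_rfl hPT (fun x hx => autMap_mem _ hx)
      ((mem_autGroup_iff hPS).1 s.2)
    refine mem_autGroup_of_isMap ?_
    have him : P ≤ imgSub (autMap (s : MulAut P)) P := fun y hy =>
      ((mem_autGroup_iff hPS).1 s.2).mem_imgSub.2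
        ⟨_, autMap_mem _ hy, autMap_inv_apply (s : MulAut P) hy⟩
    refine (hc.mono him).congr fun y hy => ?_
    have h1 := hce _ (autMap_mem (s : MulAut P)⁻¹ hy)
    rw [autMap_inv_apply _ hy] at h1
    rw [h1]
    simp only [Subgroup.coe_mul, InvMemClass.coe_inv]
    rw [autMap_mul _ _ hy, autMap_mul _ _ (autMap_mem _ hy)]⟩
  obtain ⟨-, Rs, hRs⟩ := isFullyAutomized_of_isFullyNormalized hS hF hPn
  have hidx : ¬ p ∣ (Rs : Subgroup G).relIndex K := by
    intro h
    refine Rs.not_dvd_index (h.trans ⟨((Rs : Subgroup G) ⊔ K).index, ?_⟩)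
    refine Nat.eq_of_mul_eq_mul_left (n := K.relIndex (Rs : Subgroup G)) (Nat.pos_of_ne_zero ?_) ?_
    · exact Subgroup.index_ne_zero_of_finite
    · have e1 := Subgroup.relIndex_mul_index (le_sup_right (a := (Rs : Subgroup G)) (b := K))
      rw [Subgroup.relIndex_sup_right] at e1
      have e2 := Subgroup.relIndex_mul_index (inf_le_right (a := (Rs : Subgroup G)) (b := K))
      have e3 := Subgroup.relIndex_mul_index (inf_le_left (a := (Rs : Subgroup G)) (b := K))
      rw [Subgroup.inf_relIndex_right] at e2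
      rw [Subgroup.inf_relIndex_left] at e3
      rw [e3, ← e2, ← e1]
      ring
  let U : Sylow p K := ((Rs.isPGroup').comap_of_injective K.subtype K.subtype_injective).toSylow hidx
  have hγ' : (⟨γ, hγ⟩ : G) ∈ Subgroup.normalizer (((U : Subgroup K).map K.subtype : Subgroup G) : Set G) ⊔ K :=
    (Sylow.normalizer_sup_eq_top U).symm ▸ Subgroup.mem_top _
  obtain ⟨b, hb, k, hk, hbk⟩ := Subgroup.mem_sup_of_normal_right.1 hγ'
  have hN : ∀ x ∈ normalizerIn T P, InExt S P (autMap (b : MulAut P)) x := by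
    intro x hx
    have hxS : x ∈ S := hTS hx.1
    let t : G := ⟨conjAut hx.2, conjAut_mem_autGroup F hPS ⟨hxS, hx.2⟩⟩
    have htK : t ∈ K := Subgroup.mem_subgroupOf.2 (conjAut_mem_autGroup E hPT hx)
    have htR : t ∈ (Rs : Subgroup G) := hRs.symm ▸ Subgroup.mem_subgroupOf.2
      (mem_autInducedBy.2 ⟨x, hxS, hx.2, rfl⟩)
    have htU : t ∈ (U : Subgroup K).map K.subtype := ⟨⟨t, htK⟩, htR, rfl⟩
    obtain ⟨w, hw, hwe⟩ := (Subgroup.mem_normalizer_iff.1 hb t).1 htU
    have hwR : (w : G) ∈ (Rs : Subgroup G) := hw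
    rw [hRs, show (w : G) = b * t * b⁻¹ from hwe] at hwR
    exact inExt_autMap hxS hx.2 hwR
  obtain ⟨g, hg, hge⟩ := receptive_extend (receptive_of_isFullyNormalized hS hF hPn)
    (isIso_autMap hPS b.2) hN
  have hbf : Factors F E P (autMap (b : MulAut P)) :=
    ((ih g (hg.mono le_sup_left)).mono (le_normalizerIn_self hPT)).congr fun x hx => (hge x hx).symm
  have hkf : Factors F E P (autMap (k : MulAut P)) :=
    Factors.of_sub hTS ((mem_autGroup_iff hPT).1 (Subgroup.mem_subgroupOf.1 hk))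
  refine (hkf.comp hSI hbf fun x hx => autMap_mem _ hx).congr fun x hx => ?_
  rw [show γ = (b : MulAut P) * k from (congrArg Subtype.val hbk).symm, autMap_mul _ _ hx]
  rfl

theorem factors_all (hS : IsPGroup p S) (hF : F.IsSaturated p) (hE : E.IsSubsystemOf F)
    (hT : F.StronglyClosed T) (hSI : StrongInv F E) :
    ∀ (n : ℕ) (P : Subgroup Ω) (f : Ω → Ω), Nat.card T - Nat.card P ≤ n → P ≤ T → IsMap F P f →
      Factors F E P f := by
  haveI : Finite T := finite_of_le hT.1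
  have hsc := (stronglyClosed_iff.1 hT).2
  intro n
  induction n with
  | zero =>
    intro P f hn hPT hf
    obtain rfl : P = T := Subgroup.eq_of_le_of_card_ge hPT (by omega)
    exact ⟨f, ⟨hf, hf.image_eq_of_mapsTo fun x hx => hsc _ f le_rfl hf x hx⟩, id,
      isMap_id E le_rfl, fun _ _ => rfl⟩
  | succ n ih =>
    intro P f hn hPT hf
    rcases hPT.lt_or_eq with hlt | rfl
    swap
    · exact ⟨f, ⟨hf, hf.image_eq_of_mapsTo fun x hx => hsc _ f le_rfl hf x hx⟩, id,
        isMap_id E le_rfl, fun _ _ => rfl⟩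
    have hbig : ∀ P' : Subgroup Ω, P' ≤ T → P' ≠ T → Nat.card P' = Nat.card P → ∀ h,
        IsMap F (normalizerIn T P') h → Factors F E (normalizerIn T P') h := by
      intro P' hP' hne hc h hh
      have h1 : P' < normalizerIn T P' := lt_normalizerIn (hS.to_le hT.1) (lt_of_le_of_ne hP' hne)
      haveI : Finite (normalizerIn T P') := finite_of_le (normalizerIn_le.trans hT.1)
      haveI : Finite P' := finite_of_le (hP'.trans hT.1)
      have h2 : Nat.card P' < Nat.card (normalizerIn T P') := by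
        by_contra hle
        exact h1.ne (Subgroup.eq_of_le_of_card_ge h1.le (not_lt.1 hle))
      exact ih _ _ (by omega) normalizerIn_le hh
    obtain ⟨Q, hPQ, hQn⟩ := exists_isFullyNormalized F (hPT.trans hT.1)
    have hQT : Q ≤ T := by
      obtain ⟨q, hq⟩ := isConj_iff.1 hPQ
      intro y hy
      obtain ⟨x, hx, rfl⟩ := hq.exists_preimage hy
      exact hsc _ q hPT hq.isMap x hx
    have hRT : imgSub f P ≤ T := fun y hy => by
      obtain ⟨x, hx, rfl⟩ := hf.mem_imgSub.1 hy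
      exact hsc _ f hPT hf x hx
    have hne : ∀ P' : Subgroup Ω, P' ≤ T → Nat.card P' = Nat.card P → P' ≠ T := fun P' _ hc h => by
      subst h
      exact hlt.ne (Subgroup.eq_of_le_of_card_ge hPT hc.le)
    obtain ⟨u, hu, hui, -⟩ := exists_map_to_fullyNormalized hS hF hQn hPQ
    have hfi := hf.isIso
    have hRQ : F.IsConj (imgSub f P) Q := isConj_trans (isConj_symm hfi.isConj) hPQ
    obtain ⟨v, hv, hvi, -⟩ := exists_map_to_fullyNormalized hS hF hQn hRQ
    have hle : ∀ P' : Subgroup Ω, normalizerIn T P' ≤ normalizerIn S P' :=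
      fun P' x hx => ⟨hT.1 hx.1, hx.2⟩
    have huF : Factors F E P u := (hbig P hPT hlt.ne rfl u (hu.mono (hle P))).mono (le_normalizerIn_self hPT)
    have hvF : Factors F E (imgSub f P) v :=
      (hbig _ hRT (hne _ hRT hfi.card_eq.symm) hfi.card_eq.symm v (hv.mono (hle _))).mono
        (le_normalizerIn_self hRT)
    obtain ⟨u', hu', hu'u, huu'⟩ := hui.exists_symm
    obtain ⟨v', hv', hv'v, -⟩ := hvi.exists_symm
    obtain ⟨γ, hγ, hγe⟩ := ((hu'.comp hfi).comp hvi).exists_aut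
    have hγF := factors_aut hS hF hE hQT hSI hQn
      (hbig Q hQT (hne Q hQT (card_eq_of_isConj hPQ).symm) (card_eq_of_isConj hPQ).symm) hγ
    have hv'F : Factors F E Q v' := hvF.inv hSI hvi hv'v
    refine ((huF.comp hSI hγF fun x hx => hui.mem hx).comp hSI hv'F
      fun x hx => autMap_mem γ (hui.mem hx)).congr fun x hx => ?_
    show f x = v' (autMap γ (u x))
    rw [hγe _ (hui.mem hx)]
    show f x = v' (v (f (u' (u x))))
    rw [hu'u x hx, hv'v _ (hfi.mem hx)]

end Cfsg.Agent.H49
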