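import Cfsg.Agent.H49.KTransfer
import Cfsg.Agent.Coprime.Centralize
import Cfsg.Agent.Fusion.PResidual
import Mathlib

/-!
A normal subgroup of index `p` when `N_G(S)/C_G(S)` is a `p`-group, `p ≥ 5`.
-/

set_option autoImplicit false
set_option linter.style.haveILetI false
set_option linter.unusedSectionVars false

namespace Cfsg.Agent.H49

open Subgroup
open scoped commutatorElement

universe u

/-- A subgroup above `G'` whose index is divisible by `p` lies in a normal subgroup of index `p`. -/
theorem exists_normal_index_of_dvd {G : Type*} [Group G] [Finite G] {p : ℕ} [hp : Fact p.Prime]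
    (M₀ : Subgroup G) (hD : commutator G ≤ M₀) (hd : p ∣ M₀.index) :
    ∃ M : Subgroup G, M.Normal ∧ M.index = p := by
  obtain ⟨M, ⟨hMD, hMd⟩, hmax⟩ := Set.Finite.exists_maximal
    (s := {M : Subgroup G | commutator G ≤ M ∧ p ∣ M.index}) (Set.toFinite _) ⟨M₀, hD, hd⟩
  haveI hMn : M.Normal := ⟨fun n hn g => by
    have h : g * n * g⁻¹ * n⁻¹ ∈ M :=
      hMD (commutator_mem_commutator (mem_top g) (mem_top n))
    simpa using M.mul_mem h hn⟩
  refine ⟨M, hMn, ?_⟩
  obtain ⟨m, hm⟩ := hMd
  by_contra hne
  have hm1 : m ≠ 1 := fun h => hne (by rw [hm, h, mul_one])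
  -- a prime `q` with `p ∣ index / q`
  obtain ⟨q, hq, hqm⟩ := Nat.exists_prime_and_dvd hm1
  haveI : Fact q.Prime := ⟨hq⟩
  obtain ⟨x, hx⟩ := exists_prime_orderOf_dvd_card' (G := G ⧸ M) q
    (by rw [← M.index_eq_card, hm]; exact dvd_mul_of_dvd_right hqm p)
  set M' := (zpowers x).comap (QuotientGroup.mk' M)
  have hle : M ≤ M' := fun g hg => by
    rw [mem_comap, QuotientGroup.mk'_apply, (QuotientGroup.eq_one_iff g).mpr hg]
    exact one_mem _
  have hidx : M'.index * q = M.index := by
    rw [index_comap_of_surjective _ (QuotientGroup.mk'_surjective M), ← hx, ← Nat.card_zpowers,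
      Subgroup.index_mul_card, M.index_eq_card]
  have hpd : p ∣ M'.index := by
    obtain ⟨r, rfl⟩ := hqm
    exact ⟨r, Nat.eq_of_mul_eq_mul_right hq.pos (by rw [hidx, hm]; ring)⟩
  have h := hmax ⟨hMD.trans hle, hpd⟩ hle
  have : M'.index = M.index := by rw [le_antisymm h hle]
  rw [this] at hidx
  exact absurd (Nat.eq_of_mul_eq_mul_left (Nat.pos_of_ne_zero M.index_ne_zero_of_finite)
    (hidx.trans (mul_one _).symm)) hq.ne_one

theorem commutator_le_of_index_prime {X : Type*} [Group X] {p : ℕ} [Fact p.Prime] (M : Subgroup X)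
    [M.Normal] (h : M.index = p) : commutator X ≤ M := by
  rw [index_eq_card] at h
  haveI := isCyclic_of_prime_card h
  rw [commutator_def, commutator_le]
  intro a _ b _
  rw [← QuotientGroup.eq_one_iff]
  have e : ∀ x y : X ⧸ M, x * y = y * x := fun x y => IsCyclic.commGroup.mul_comm x y
  show ((⁅a, b⁆ : X) : X ⧸ M) = 1
  rw [commutatorElement_def, QuotientGroup.mk_mul, QuotientGroup.mk_mul, QuotientGroup.mk_mul,
    QuotientGroup.mk_inv, QuotientGroup.mk_inv, e (a : X ⧸ M) b]
  group

theorem not_dvd_index_of_le {G : Type*} [Group G] [Finite G] {p : ℕ} [Fact p.Prime] (S : Sylow p G)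
    {M : Subgroup G} (h : (S : Subgroup G) ≤ M) : ¬ p ∣ M.index := fun hd =>
  S.not_dvd_index (hd.trans (index_dvd_of_le h))

theorem exists_normal_index_p : ∀ (n : ℕ) (G : Type u) [Group G] [Finite G], Nat.card G = n →
    ∀ {p : ℕ} [Fact p.Prime], 5 ≤ p → ∀ S : Sylow p G, (S : Subgroup G) ≠ ⊥ →
      (∀ g ∈ normalizer ((S : Subgroup G) : Set G), (orderOf g).Coprime p →
        g ∈ centralizer ((S : Subgroup G) : Set G)) →
      ∃ N : Subgroup G, N.Normal ∧ N.index = p := by
  intro n
  induction n using Nat.strong_induction_on with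
  | _ n ih =>
  intro G _ _ hn p hp hp5 S hS hN
  set P : Subgroup G := (S : Subgroup G) with hPdef
  suffices hnot : ¬ P ≤ commutator G by
    refine exists_normal_index_of_dvd (commutator G) le_rfl ?_
    by_contra hd
    haveI : (commutator G).Normal := inferInstance
    refine hnot fun s hs => ?_
    obtain ⟨k, hk⟩ := S.isPGroup' ⟨s, hs⟩
    rw [← QuotientGroup.eq_one_iff, ← orderOf_eq_one_iff]
    refine Nat.eq_one_of_dvd_coprimes ((Nat.Coprime.pow_left k
      (hp.out.coprime_iff_not_dvd.mpr hd))) (orderOf_dvd_of_pow_eq_one ?_) ?_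
    · rw [← QuotientGroup.mk_pow]
      exact (QuotientGroup.eq_one_iff _).mpr (by
        rw [show s ^ p ^ k = 1 by simpa using congrArg Subtype.val hk]; exact one_mem _)
    · rw [Subgroup.index_eq_card]; exact orderOf_dvd_natCard _
  have hW : KLike (fun Q [Group Q] => kInfLower Q) := kLike_lower
  set K := inducedFunctor (fun Q [Group Q] => kInfLower Q) P with hKdef
  set N := normalizer (K : Set G) with hNdef
  have hPN : P ≤ N := le_normalizer.trans
    (Fusion.normalizer_le_normalizer_inducedFunctor (hW.isCharPFunctor p) S.isPGroup')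
  have hctl := inf_commutator_eq_of_ctl (ctl_kInfLower (G := G) hp5) S
  rw [← hPdef, ← hKdef, ← hNdef] at hctl
  intro hPG
  by_cases hNtop : N = ⊤
  · -- `K` is normal
    haveI hKn : K.Normal := normalizer_eq_top_iff.mp hNtop
    have hKP : K ≤ P := Fusion.inducedFunctor_le P
    have hKne : K ≠ ⊥ := Fusion.inducedFunctor_ne_bot (hW.isCharPFunctor p) S.isPGroup' hS
    by_cases hKS : K = P
    · -- `S` is normal: its focal subgroup is `[S, S]`
      haveI : P.Normal := hKS ▸ hKn
      haveI : Nontrivial ↥P := (nontrivial_iff_ne_bot P).mpr hS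
      have hlt : ⁅P, P⁆ < P :=
        Coprime.commutator_lt_of_isPGroup S.isPGroup' S.isPGroup' le_normalizer hS
      refine absurd ((le_inf le_rfl hPG).trans ?_) hlt.not_ge
      rw [hPdef, commutator_def]
      refine H48.inf_commutator_le S _ fun t ht g _ => ?_
      obtain ⟨k, hk⟩ := Fusion.exists_pow_coprime (p := p) g
      -- the `p`-part of `g` lies in `S`
      have hc : g ^ p ^ k ∈ centralizer (P : Set G) :=
        hN _ (by rw [normalizer_eq_top]; exact mem_top _) hk
      let J : Subgroup G :=
        { carrier := {y | ∀ t ∈ P, t⁻¹ * (y * t * y⁻¹) ∈ ⁅P, P⁆}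
          one_mem' := fun t _ => by simp
          mul_mem' := fun {a b} ha hb t ht => by
            have h1 := mul_mem (hb t ht) (ha _ (Normal.conj_mem ‹P.Normal› t ht b))
            simpa [mul_assoc] using h1
          inv_mem' := fun {a} ha t ht => by
            have h1 := inv_mem (ha _ (Normal.conj_mem ‹P.Normal› t ht a⁻¹))
            simpa [mul_assoc] using h1 }
      suffices g ∈ J from this t ht
      have hPJ : P ≤ J := fun y hy t ht => H48.conj_diff_mem_commutator ht hy
      have hCJ : centralizer (P : Set G) ≤ J := fun y hy t ht => by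
        rw [← mem_centralizer_iff.mp hy t ht, mul_inv_cancel_right, inv_mul_cancel]
        exact one_mem _
      obtain ⟨m, hm⟩ : ∃ m : ℕ, m = orderOf (g ^ p ^ k) := ⟨_, rfl⟩
      have hgm : g ^ m ∈ P := by
        have hpg : IsPGroup p ↥(zpowers (g ^ m)) := by
          refine IsPGroup.of_card_dvd_pow (n := k) ?_
          rw [Nat.card_zpowers]
          exact orderOf_dvd_of_pow_eq_one (by rw [← pow_mul, mul_comm, pow_mul, hm, pow_orderOf_eq_one])
        obtain ⟨T, hT⟩ := hpg.exists_le_sylow
        letI := Sylow.unique_of_normal S ‹P.Normal›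
        rw [Subsingleton.elim T S] at hT
        exact hT (mem_zpowers _)
      have hco : IsCoprime ((p ^ k : ℕ) : ℤ) (m : ℤ) :=
        Nat.isCoprime_iff_coprime.mpr ((Nat.Coprime.pow_left k (hm ▸ hk.symm)))
      obtain ⟨a, b, hab⟩ := hco
      have : g = (g ^ p ^ k) ^ a * (g ^ m) ^ b := by
        rw [← zpow_natCast g (p ^ k), ← zpow_natCast g m, ← zpow_mul, ← zpow_mul, ← zpow_add,
          mul_comm _ a, mul_comm _ b, hab, zpow_one]
      rw [this]
      exact mul_mem (zpow_mem (hCJ hc) a) (zpow_mem (hPJ hgm) b)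
    · -- pass to `G / K`
      let q := QuotientGroup.mk' K
      let S' : Sylow p (G ⧸ K) := S.mapSurjective (QuotientGroup.mk'_surjective K)
      have hS' : (S' : Subgroup (G ⧸ K)) = P.map q := rfl
      have hlt : Nat.card (G ⧸ K) < n := by
        rw [← hn, K.card_eq_card_quotient_mul_card_subgroup]
        exact lt_mul_of_one_lt_right Nat.card_pos (one_lt_card_iff_ne_bot _ |>.mpr hKne)
      obtain ⟨M, hMn, hMi⟩ : ∃ M : Subgroup (G ⧸ K), M.Normal ∧ M.index = p := by
        refine ih _ hlt (G ⧸ K) rfl hp5 S' (fun h => hKS ?_) ?_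
        · rw [hS', Subgroup.map_eq_bot_iff, QuotientGroup.ker_mk'] at h
          exact le_antisymm hKP h
        · intro y hy hyc
          obtain ⟨g, rfl⟩ := QuotientGroup.mk'_surjective K y
          obtain ⟨k, hk⟩ := Fusion.exists_pow_coprime (p := p) g
          have hgN : g ∈ normalizer (P : Set G) := by
            rw [hS'] at hy
            have := Subgroup.mem_comap.mpr hy
            rwa [comap_normalizer_eq_of_surjective _ (QuotientGroup.mk'_surjective K),
              comap_map_eq_self (by rwa [QuotientGroup.ker_mk'])] at this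
          have hc := hN _ (pow_mem hgN _) hk
          have h2 : q (g ^ p ^ k) ∈ centralizer ((S' : Subgroup (G ⧸ K)) : Set (G ⧸ K)) := by
            rw [hS']
            refine mem_centralizer_iff.mpr ?_
            rintro _ ⟨s, hs, rfl⟩
            rw [← map_mul, ← map_mul, mem_centralizer_iff.mp hc s hs]
          rw [map_pow] at h2
          obtain ⟨j, hj⟩ := exists_pow_eq_self_of_coprime
            (x := q g) (n := p ^ k) (Nat.Coprime.pow_left k hyc.symm)
          rw [← hj]
          exact pow_mem h2 j
      haveI := hMn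
      have hi : (M.comap q).index = p := by
        rw [index_comap_of_surjective _ (QuotientGroup.mk'_surjective K), hMi]
      exact not_dvd_index_of_le S (hPG.trans (commutator_le_of_index_prime _ hi)) (by rw [hi])
  · -- pass to `N`
    let S' : Sylow p ↥N := S.subtype hPN
    have hS' : (S' : Subgroup ↥N) = P.subgroupOf N := rfl
    have hlt : Nat.card ↥N < n := hn ▸ lt_of_le_of_ne (card_le_card_group N) fun h =>
      hNtop (eq_top_of_card_eq N h)
    obtain ⟨M, hMn, hMi⟩ : ∃ M : Subgroup ↥N, M.Normal ∧ M.index = p := by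
      refine ih _ hlt ↥N rfl hp5 S' (fun h => hS ?_) ?_
      · rw [hS', subgroupOf_eq_bot] at h
        exact h.eq_bot_of_le hPN
      · intro g hg hgc
        have hgG : (g : G) ∈ normalizer (P : Set G) :=
          mem_subgroupOf.mp ((subgroupOf_normalizer_eq hPN).symm.le hg)
        have := hN g hgG (by rwa [orderOf_submonoid g])
        exact mem_centralizer_iff.mpr fun s hs => Subtype.ext (mem_centralizer_iff.mp this s hs)
    refine not_dvd_index_of_le S' (M := M) ?_ (by rw [hMi])
    haveI := hMn
    intro s hs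
    have h1 : (s : G) ∈ P ⊓ commutator G := ⟨hs, hPG hs⟩
    rw [hctl] at h1
    have h2 : (s : G) ∈ (commutator ↥N).map N.subtype := by
      rw [_root_.commutator_def, Subgroup.map_commutator, ← MonoidHom.range_eq_map, range_subtype]
      exact h1.2
    obtain ⟨c, hc, hcs⟩ := h2
    rw [← Subtype.ext hcs]
    exact commutator_le_of_index_prime M hMi hc

end Cfsg.Agent.H49
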