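import Cfsg.Agent.CharInduce.Gallagher
import Cfsg.Agent.CharInduce.Ops
import Cfsg.Agent.H90.DegreeSplit
import Cfsg.Agent.H84.TwoDegreesBasic
import Cfsg.Agent.H80.GlaubermanSolvable
import Cfsg.Agent.H83.ClassConst
import Cfsg.Agent.Fusion.Tate
import Cfsg.Agent.Coprime.Action
import Cfsg.Agent.S0205

/-!
# The sum of the squares of the odd degrees

For a Sylow 2-subgroup `P` of `G` with normalizer `N`: this sum is at least `|N : P'|`, with
equality exactly when `N` has a normal complement.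
-/

set_option autoImplicit false
set_option linter.style.haveILetI false
set_option linter.unusedSectionVars false

open scoped ComplexConjugate

namespace Cfsg.Agent.H49.OddSq

open Cfsg.Agent.CharBasic Cfsg.Agent.CharInduce Subgroup
open scoped commutatorElement

universe u

/-- The sum of the squares of the odd irreducible degrees. -/
noncomputable def oddSq (G : Type u) [Group G] : ℕ :=
  ∑ᶠ χ : {χ : Cfsg.IrrCharacter G // ¬ 2 ∣ Cfsg.charDegree (χ : G → ℂ)},
    Cfsg.charDegree (χ.1 : G → ℂ) ^ 2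

variable {G : Type u} [Group G] [Fintype G]

open Classical in
/-- The odd irreducible characters. -/
noncomputable def oddIrr (G : Type u) [Group G] [Fintype G] : Finset (Cfsg.IrrCharacter G) :=
  Finset.univ.filter fun χ : Cfsg.IrrCharacter G => ¬ 2 ∣ Cfsg.charDegree (χ : G → ℂ)

theorem mem_oddIrr {χ : Cfsg.IrrCharacter G} :
    χ ∈ oddIrr G ↔ ¬ 2 ∣ Cfsg.charDegree (χ : G → ℂ) := by
  simp [oddIrr]

theorem oddSq_eq : oddSq G = ∑ χ ∈ oddIrr G, Cfsg.charDegree (χ : G → ℂ) ^ 2 := by
  classical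
  haveI : Fintype {χ : Cfsg.IrrCharacter G // ¬ 2 ∣ Cfsg.charDegree (χ : G → ℂ)} :=
    Fintype.ofFinite _
  rw [oddSq, finsum_eq_sum_of_fintype,
    Finset.sum_subtype (oddIrr G) (fun _ => mem_oddIrr) fun χ => Cfsg.charDegree (χ : G → ℂ) ^ 2]

theorem deg_one {K : Type u} [Group K] [Finite K] (χ : Cfsg.IrrCharacter K) :
    (χ : K → ℂ) 1 = (Cfsg.charDegree (χ : K → ℂ) : ℂ) := by
  cases nonempty_fintype K
  exact (H83.charDegree_eq χ.2).1

theorem deg_pos {K : Type u} [Group K] [Finite K] (χ : Cfsg.IrrCharacter K) :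
    0 < Cfsg.charDegree (χ : K → ℂ) := by
  cases nonempty_fintype K
  exact (H83.charDegree_eq χ.2).2

/-- The multiplicity of `ψ` in the restriction of `χ`. -/
theorem exists_mult (H : Subgroup G) [Fintype H] (χ : Cfsg.IrrCharacter G)
    (ψ : Cfsg.IrrCharacter H) :
    ∃ m : ℕ, Cfsg.classInner (fun h : H => (χ : G → ℂ) h) (ψ : H → ℂ) = m :=
  classInner_isChar_nat (IsChar.res (IsIrr.isCharacter χ.2) H) (IsIrr.isCharacter ψ.2)

/-- Degree of a restriction. -/
theorem degree_res (H : Subgroup G) [Fintype H] (χ : Cfsg.IrrCharacter G)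
    (m : Cfsg.IrrCharacter H → ℕ)
    (hm : ∀ ψ : Cfsg.IrrCharacter H,
      Cfsg.classInner (fun h : H => (χ : G → ℂ) h) (ψ : H → ℂ) = m ψ) :
    Cfsg.charDegree (χ : G → ℂ) = ∑ ψ : Cfsg.IrrCharacter H, m ψ * Cfsg.charDegree (ψ : H → ℂ) := by
  have h := congrFun (classFunction_expansion
    (IsChar.isClassFunction (IsChar.res (IsIrr.isCharacter χ.2) H))) 1
  rw [OneMemClass.coe_one, deg_one, Finset.sum_apply] at h
  simp only [Pi.smul_apply, smul_eq_mul, hm, deg_one] at h
  exact_mod_cast h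

/-- Degree of an induced character. -/
theorem degree_ind (H : Subgroup G) [Fintype H] (ψ : Cfsg.IrrCharacter H)
    (m : Cfsg.IrrCharacter G → ℕ)
    (hm : ∀ χ : Cfsg.IrrCharacter G,
      Cfsg.classInner (fun h : H => (χ : G → ℂ) h) (ψ : H → ℂ) = m χ) :
    H.index * Cfsg.charDegree (ψ : H → ℂ) =
      ∑ χ : Cfsg.IrrCharacter G, m χ * Cfsg.charDegree (χ : G → ℂ) := by
  have h := congrFun (classFunction_expansion (isClassFunction_indFun H (ψ : H → ℂ))) 1
  rw [indFun_one, deg_one, Finset.sum_apply] at h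
  have hc : ∀ χ : Cfsg.IrrCharacter G,
      Cfsg.classInner (indFun H (ψ : H → ℂ)) (χ : G → ℂ) = m χ := fun χ => by
    rw [classInner_indFun_left H _ _ (IsIrr.isClassFunction χ.2), ← conj_classInner, hm,
      Complex.conj_natCast]
  simp only [Pi.smul_apply, smul_eq_mul, hc, deg_one] at h
  exact_mod_cast h

theorem sum_sq_le {ι : Type*} (s : Finset ι) (a : ι → ℕ) :
    ∑ x ∈ s, a x ^ 2 ≤ (∑ x ∈ s, a x) ^ 2 := by
  classical
  induction s using Finset.induction_on with
  | empty => simp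
  | insert x t hx ih =>
    rw [Finset.sum_insert hx, Finset.sum_insert hx]
    nlinarith [Nat.zero_le (a x * ∑ y ∈ t, a y)]

/-- A subgroup of odd index: the sum does not decrease, and in the case of equality odd characters
extend. -/
theorem compare (H : Subgroup G) [Fintype H] (hH : ¬ 2 ∣ H.index) :
    oddSq H ≤ oddSq G ∧ (oddSq G ≤ oddSq H → ∀ ψ : Cfsg.IrrCharacter H,
      ¬ 2 ∣ Cfsg.charDegree (ψ : H → ℂ) → ∃ χ : Cfsg.IrrCharacter G,
        Cfsg.charDegree (χ : G → ℂ) = Cfsg.charDegree (ψ : H → ℂ) ∧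
        ∀ h : H, (χ : G → ℂ) h = (ψ : H → ℂ) h) := by
  classical
  choose m hm using exists_mult H
  have hsel : ∀ ψ ∈ oddIrr H, ∃ χ ∈ oddIrr G, m χ ψ ≠ 0 := by
    intro ψ hψ
    by_contra hc
    push Not at hc
    have h := degree_ind H ψ (fun χ => m χ ψ) fun χ => hm χ ψ
    have h2 : 2 ∣ H.index * Cfsg.charDegree (ψ : H → ℂ) := by
      rw [h]
      refine Finset.dvd_sum fun χ _ => ?_
      by_cases hχ : χ ∈ oddIrr G
      · rw [hc χ hχ, zero_mul]; exact dvd_zero _
      · rw [mem_oddIrr, not_not] at hχ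
        exact hχ.mul_left _
    rcases Nat.prime_two.dvd_mul.mp h2 with h3 | h3
    · exact hH h3
    · exact mem_oddIrr.mp hψ h3
  haveI : Nonempty (Cfsg.IrrCharacter G) := ⟨⟨_, CharBasic.isIrrCharacter_one⟩⟩
  choose! f hfO hfm using hsel
  rw [oddSq_eq, oddSq_eq]
  set d : Cfsg.IrrCharacter G → ℕ := fun χ => Cfsg.charDegree (χ : G → ℂ) with hd
  set e : Cfsg.IrrCharacter H → ℕ := fun ψ => Cfsg.charDegree (ψ : H → ℂ) with he
  have hfib : ∀ χ ∈ oddIrr G, ∑ ψ ∈ (oddIrr H).filter (fun ψ => f ψ = χ), e ψ ≤ d χ := by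
    intro χ _
    calc ∑ ψ ∈ (oddIrr H).filter (fun ψ => f ψ = χ), e ψ
        ≤ ∑ ψ ∈ (oddIrr H).filter (fun ψ => f ψ = χ), m χ ψ * e ψ := by
          refine Finset.sum_le_sum fun ψ hψ => Nat.le_mul_of_pos_left _ ?_
          rw [Finset.mem_filter] at hψ
          exact Nat.pos_of_ne_zero (hψ.2 ▸ hfm ψ hψ.1)
      _ ≤ ∑ ψ : Cfsg.IrrCharacter H, m χ ψ * e ψ :=
          Finset.sum_le_sum_of_subset (Finset.subset_univ _)
      _ = d χ := (degree_res H χ (m χ) (hm χ)).symm
  have hsq : ∀ χ ∈ oddIrr G,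
      ∑ ψ ∈ (oddIrr H).filter (fun ψ => f ψ = χ), e ψ ^ 2 ≤ d χ ^ 2 := fun χ hχ =>
    (sum_sq_le _ _).trans (Nat.pow_le_pow_left (hfib χ hχ) 2)
  have hsum := Finset.sum_fiberwise_of_maps_to (g := f) hfO (fun ψ => e ψ ^ 2)
  refine ⟨hsum.symm.le.trans (Finset.sum_le_sum hsq), fun hle ψ₀ hψ₀ => ?_⟩
  rw [← mem_oddIrr] at hψ₀
  have heq := (Finset.sum_eq_sum_iff_of_le hsq).mp
    (le_antisymm (Finset.sum_le_sum hsq) (hle.trans hsum.symm.le)) (f ψ₀) (hfO ψ₀ hψ₀)
  set χ := f ψ₀ with hχ
  set F := (oddIrr H).filter (fun ψ => f ψ = χ) with hF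
  have hmem : ψ₀ ∈ F := Finset.mem_filter.mpr ⟨hψ₀, rfl⟩
  have h1 := Finset.add_sum_erase F e hmem
  have h2 := Finset.add_sum_erase F (fun ψ => e ψ ^ 2) hmem
  have h3 : ∑ ψ ∈ F.erase ψ₀, e ψ ^ 2 ≤ (∑ ψ ∈ F.erase ψ₀, e ψ) ^ 2 := sum_sq_le _ _
  have hd0 : e ψ₀ = d χ := by
    have hle' : e ψ₀ + ∑ ψ ∈ F.erase ψ₀, e ψ ≤ d χ := h1 ▸ hfib χ (hfO ψ₀ hψ₀)
    have hr : ∑ ψ ∈ F.erase ψ₀, e ψ = 0 := by
      nlinarith [deg_pos ψ₀, Nat.zero_le (∑ ψ ∈ F.erase ψ₀, e ψ)]
    rw [hr, zero_pow two_ne_zero, Nat.le_zero] at h3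
    rw [h3, add_zero] at h2
    exact Nat.pow_left_injective two_ne_zero (h2.trans heq)
  refine ⟨χ, hd0.symm, ?_⟩
  have hdec := degree_res H χ (m χ) (hm χ)
  rw [show Cfsg.charDegree (χ : G → ℂ) = e ψ₀ from hd0.symm,
    ← Finset.add_sum_erase Finset.univ _ (Finset.mem_univ ψ₀)] at hdec
  have hm0 : 0 < m χ ψ₀ := Nat.pos_of_ne_zero (hfm ψ₀ hψ₀)
  have hrest : ∀ ψ : Cfsg.IrrCharacter H, ψ ≠ ψ₀ → m χ ψ = 0 := by
    intro ψ hne
    by_contra h0
    have h4 : 0 < ∑ x ∈ Finset.univ.erase ψ₀, m χ x * e x :=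
      lt_of_lt_of_le (Nat.mul_pos (Nat.pos_of_ne_zero h0) (deg_pos ψ))
        (Finset.single_le_sum (f := fun x => m χ x * e x) (fun x _ => Nat.zero_le _)
          (Finset.mem_erase.mpr ⟨hne, Finset.mem_univ ψ⟩))
    have h5 : e ψ₀ ≤ m χ ψ₀ * e ψ₀ := Nat.le_mul_of_pos_left _ hm0
    change e ψ₀ = m χ ψ₀ * e ψ₀ + ∑ x ∈ Finset.univ.erase ψ₀, m χ x * e x at hdec
    omega
  have hone : m χ ψ₀ = 1 := by
    rw [Finset.sum_eq_zero fun x hx => by rw [hrest x (Finset.ne_of_mem_erase hx), zero_mul],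
      add_zero] at hdec
    exact (Nat.mul_eq_right (deg_pos ψ₀).ne').mp hdec.symm
  intro h
  have hexp := congrFun (classFunction_expansion
    (IsChar.isClassFunction (IsChar.res (IsIrr.isCharacter χ.2) H))) h
  rw [hexp, Finset.sum_apply, Finset.sum_eq_single ψ₀]
  · simp [hm, hone]
  · intro ψ _ hne
    simp [hm, hrest ψ hne]
  · simp

/-- A normal subgroup with abelian quotient of odd index. -/
theorem descend (L : Subgroup G) [L.Normal] [Fintype L] (hab : ∀ a b : G ⧸ L, a * b = b * a)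
    (hL : ¬ 2 ∣ L.index) : L.index * oddSq L ≤ oddSq G := by
  classical
  choose m hm using exists_mult L
  set d : Cfsg.IrrCharacter G → ℕ := fun χ => Cfsg.charDegree (χ : G → ℂ) with hd
  set e : Cfsg.IrrCharacter L → ℕ := fun ψ => Cfsg.charDegree (ψ : L → ℂ) with he
  -- the members of an odd constituent are odd
  have hodd : ∀ χ : Cfsg.IrrCharacter G, ∀ θ ∈ oddIrr L, m χ θ ≠ 0 → χ ∈ oddIrr G := by
    intro χ θ hθ h0
    have hne : Cfsg.classInner (fun n : L => (χ : G → ℂ) n) (θ : L → ℂ) ≠ 0 := by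
      rw [hm]; exact_mod_cast h0
    have hcl := IsIrr.isClassFunction χ.2
    have hnorm : (Nat.card (inertia L (θ : L → ℂ)) : ℂ) *
        Cfsg.classInner (fun n : L => (χ : G → ℂ) n) (fun n : L => (χ : G → ℂ) n) =
          (m χ θ : ℂ) * ((Nat.card G : ℂ) * m χ θ) := by
      have h := clifford_avg L χ.2 θ.2 hne
      have h' := congrArg (fun F => Cfsg.classInner F (fun n : L => (χ : G → ℂ) n)) h
      simp only [classInner_smul_left, classInner_sum_left] at h'
      rw [h', hm]
      congr 1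
      rw [Finset.sum_congr rfl fun x _ => (?_ : _ = (m χ θ : ℂ)), Finset.sum_const, Finset.card_univ,
        nsmul_eq_mul, Nat.card_eq_fintype_card]
      rw [← conj_classInner, classInner_res_conjFun L hcl, hm, Complex.conj_natCast]
    obtain ⟨k, hk, hk'⟩ := H90.DegreeSplit.norm_res_dvd_index L hab χ.2
    rw [hk', ← (inertia L (θ : L → ℂ)).card_mul_index] at hnorm
    push_cast at hnorm
    have hk2 : (k : ℂ) = ((m χ θ * m χ θ * (inertia L (θ : L → ℂ)).index : ℕ) : ℂ) := by
      refine mul_left_cancel₀ (card_ne_zero_complex (inertia L (θ : L → ℂ))) ?_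
      rw [hnorm]; push_cast; ring
    rw [Nat.cast_inj] at hk2
    have hkodd : ¬ 2 ∣ k := fun h => hL (h.trans hk)
    have hdeg : d χ = m χ θ * (inertia L (θ : L → ℂ)).index * e θ := by
      have h := clifford_degree L χ.2 θ.2 hne
      rw [deg_one, deg_one, hm] at h
      exact_mod_cast h
    rw [mem_oddIrr]
    show ¬ 2 ∣ d χ
    rw [hdeg]
    intro h2
    rcases Nat.prime_two.dvd_mul.mp h2 with h3 | h3
    · rcases Nat.prime_two.dvd_mul.mp h3 with h4 | h4
      · exact hkodd (hk2 ▸ dvd_mul_of_dvd_left (dvd_mul_of_dvd_left h4 _) _)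
      · exact hkodd (hk2 ▸ dvd_mul_of_dvd_right h4 _)
    · exact mem_oddIrr.mp hθ h3
  rw [oddSq_eq, oddSq_eq, Finset.mul_sum]
  calc ∑ θ ∈ oddIrr L, L.index * e θ ^ 2
      = ∑ θ ∈ oddIrr L, ∑ χ : Cfsg.IrrCharacter G, m χ θ * d χ * e θ := by
        refine Finset.sum_congr rfl fun θ _ => ?_
        rw [← Finset.sum_mul, ← degree_ind L θ (fun χ => m χ θ) fun χ => hm χ θ]
        ring
    _ = ∑ χ : Cfsg.IrrCharacter G, ∑ θ ∈ oddIrr L, m χ θ * d χ * e θ := Finset.sum_comm
    _ = ∑ χ ∈ oddIrr G, ∑ θ ∈ oddIrr L, m χ θ * d χ * e θ := by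
        refine (Finset.sum_subset (Finset.subset_univ _) fun χ _ hχ => ?_).symm
        refine Finset.sum_eq_zero fun θ hθ => ?_
        by_contra h0
        exact hχ (hodd χ θ hθ fun hz => h0 (by rw [hz, zero_mul, zero_mul]))
    _ ≤ ∑ χ ∈ oddIrr G, d χ ^ 2 := by
        refine Finset.sum_le_sum fun χ _ => ?_
        calc ∑ θ ∈ oddIrr L, m χ θ * d χ * e θ
            = d χ * ∑ θ ∈ oddIrr L, m χ θ * e θ := by
              rw [Finset.mul_sum]; exact Finset.sum_congr rfl fun θ _ => by ring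
          _ ≤ d χ * d χ := Nat.mul_le_mul_left _ (by
              refine (Finset.sum_le_sum_of_subset (Finset.subset_univ _)).trans_eq ?_
              exact (degree_res L χ (m χ) (hm χ)).symm)
          _ = d χ ^ 2 := (sq _).symm

/-- `∑ χ(1)²` over the characters trivial on a normal subgroup is its index. -/
theorem sum_sq_trivial_on (D : Subgroup G) [D.Normal]
    (s : Finset (Cfsg.IrrCharacter G))
    (hs : ∀ χ : Cfsg.IrrCharacter G, χ ∈ s ↔ ∀ n ∈ D, (χ : G → ℂ) n = (χ : G → ℂ) 1) :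
    ∑ χ ∈ s, Cfsg.charDegree (χ : G → ℂ) ^ 2 * Nat.card D = Nat.card G := by
  classical
  haveI : Fintype D := Fintype.ofFinite _
  have key : ∀ χ : Cfsg.IrrCharacter G, (χ : G → ℂ) 1 * ∑ n : D, (χ : G → ℂ) n =
      if χ ∈ s then ((Cfsg.charDegree (χ : G → ℂ) ^ 2 * Nat.card D : ℕ) : ℂ) else 0 := by
    intro χ
    split_ifs with h
    · rw [Finset.sum_congr rfl fun (n : D) _ => (hs χ).mp h n n.2, Finset.sum_const,
        Finset.card_univ, nsmul_eq_mul, deg_one, Nat.card_eq_fintype_card]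
      push_cast; ring
    · refine mul_eq_zero_of_right _ ?_
      have h0 : Cfsg.classInner (fun n : D => (χ : G → ℂ) n) (fun _ => 1) = 0 := by
        by_contra hne
        exact h ((hs χ).mpr ((constituent_one_iff D χ.2).mp hne))
      rw [classInner_def, mul_eq_zero] at h0
      rcases h0 with h0 | h0
      · exact absurd h0 (inv_ne_zero (card_ne_zero_complex D))
      · simpa using h0
  have htot : ∑ χ : Cfsg.IrrCharacter G, (χ : G → ℂ) 1 * ∑ n : D, (χ : G → ℂ) n =
      (Nat.card G : ℂ) := by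
    simp only [Finset.mul_sum]
    rw [Finset.sum_comm]
    simp only [sum_degree_mul_apply, OneMemClass.coe_eq_one]
    rw [Finset.sum_ite_eq' Finset.univ (1 : D) fun _ => (Nat.card G : ℂ),
      if_pos (Finset.mem_univ _)]
  simp only [key, Finset.sum_ite_mem, Finset.univ_inter] at htot
  exact_mod_cast htot

/-- A group with normal Sylow 2-subgroup. -/
theorem oddSq_of_normal (P : Sylow 2 G) [hP : (P : Subgroup G).Normal] :
    oddSq G * Nat.card (commutator (P : Subgroup G)) = Nat.card G := by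
  classical
  set D : Subgroup G := (commutator (P : Subgroup G)).map (P : Subgroup G).subtype with hD
  haveI : D.Normal := inferInstanceAs ((commutator (P : Subgroup G)).map _).Normal
  have hDcard : Nat.card D = Nat.card (commutator (P : Subgroup G)) :=
    Subgroup.card_map_of_injective (P : Subgroup G).subtype_injective
  rw [← hDcard, oddSq_eq, Finset.sum_mul]
  refine sum_sq_trivial_on D _ fun χ => ?_
  rw [mem_oddIrr]
  haveI : Fintype (P : Subgroup G) := Fintype.ofFinite _
  constructor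
  · intro hodd
    have hres := IsChar.res (IsIrr.isCharacter χ.2) (P : Subgroup G)
    obtain ⟨θ, hθ⟩ := CharInduce.exists_constituent hres (fun h0 => IsIrr.one_ne_zero χ.2 (by
      simpa using congrFun h0 1))
    obtain ⟨k, hk⟩ := exists_mult (P : Subgroup G) χ θ
    have hdeg := clifford_degree (P : Subgroup G) χ.2 θ.2 hθ
    rw [deg_one, deg_one, hk] at hdeg
    have hdeg' : Cfsg.charDegree (χ : G → ℂ) =
        k * (inertia (P : Subgroup G) (θ : ↥(P : Subgroup G) → ℂ)).index * Cfsg.charDegree (θ : ↥(P : Subgroup G) → ℂ) := by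
      exact_mod_cast hdeg
    obtain ⟨a, ha⟩ := P.isPGroup'.exists_card_eq
    have hθ1 : Cfsg.charDegree (θ : ↥(P : Subgroup G) → ℂ) = 1 := by
      obtain ⟨j, -, hj⟩ := (Nat.dvd_prime_pow Nat.prime_two).mp
        (ha ▸ H83.charDegree_dvd_card θ.2)
      rcases j with _ | j
      · simpa using hj
      · exact absurd ⟨k * (inertia (P : Subgroup G) (θ : ↥(P : Subgroup G) → ℂ)).index * 2 ^ j,
          by rw [hdeg', hj]; ring⟩ hodd
    obtain ⟨l, hl⟩ := IsChar.exists_hom_of_degree_one (IsIrr.isCharacter θ.2)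
      (by rw [deg_one, hθ1, Nat.cast_one])
    intro n hn
    obtain ⟨n, hn, rfl⟩ := hn
    have h1 := congrFun (clifford_avg (P : Subgroup G) χ.2 θ.2 hθ) n
    have h2 := congrFun (clifford_avg (P : Subgroup G) χ.2 θ.2 hθ) 1
    have hker : ∀ x : G, CharInduce.conjFun (P : Subgroup G) (θ : ↥(P : Subgroup G) → ℂ) x n =
        CharInduce.conjFun (P : Subgroup G) (θ : ↥(P : Subgroup G) → ℂ) x 1 := by
      intro x
      rw [conjFun_eq_comp]
      show (θ : ↥(P : Subgroup G) → ℂ) (MulAut.conjNormal x n) =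
        (θ : ↥(P : Subgroup G) → ℂ) (MulAut.conjNormal x 1)
      rw [map_one, hl, hl, map_one]
      have hc : commutator (P : Subgroup G) ≤ l.ker := Abelianization.commutator_subset_ker l
      have hm : MulAut.conjNormal x n ∈ commutator (P : Subgroup G) :=
        Subgroup.characteristic_iff_map_le.mp inferInstance (MulAut.conjNormal x) ⟨n, hn, rfl⟩
      rw [MonoidHom.mem_ker.mp (hc hm)]
    simp only [Pi.smul_apply, Finset.sum_apply, hker, smul_eq_mul, OneMemClass.coe_one] at h1 h2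
    exact mul_left_cancel₀ (card_ne_zero_complex _) (h1.trans h2.symm)
  · intro htriv
    obtain ⟨ψ, hψc, hψ, hψirr⟩ := IsChar.exists_deflate (IsIrr.isCharacter χ.2) D htriv
    set A := (P : Subgroup G).map (QuotientGroup.mk' D) with hA
    haveI : A.Normal := hP.map _ (QuotientGroup.mk'_surjective D)
    haveI : Fintype (G ⧸ D) := Fintype.ofFinite _
    have hab : ∀ a ∈ A, ∀ b ∈ A, a * b = b * a := by
      rintro _ ⟨a, ha, rfl⟩ _ ⟨b, hb, rfl⟩
      rw [← map_mul, ← map_mul, QuotientGroup.mk'_eq_mk']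
      refine ⟨(a * b)⁻¹ * (b * a), ?_, by group⟩
      refine ⟨(⟨a, ha⟩ * ⟨b, hb⟩ : (P : Subgroup G))⁻¹ * (⟨b, hb⟩ * ⟨a, ha⟩), ?_, rfl⟩
      have : (⟨a, ha⟩ * ⟨b, hb⟩ : (P : Subgroup G))⁻¹ * (⟨b, hb⟩ * ⟨a, ha⟩) =
          ⁅(⟨b, hb⟩ : (P : Subgroup G))⁻¹, (⟨a, ha⟩ : (P : Subgroup G))⁻¹⁆ := by
        rw [commutatorElement_def]; group
      rw [this]
      exact Subgroup.commutator_mem_commutator (mem_top _) (mem_top _)
    have hdvd := H84.charDegree_dvd_index A hab ⟨ψ, hψirr χ.2⟩
    have he : Cfsg.charDegree ψ = Cfsg.charDegree (χ : G → ℂ) := by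
      unfold Cfsg.charDegree
      rw [hψ 1, QuotientGroup.mk_one]
    intro h2
    exact P.not_dvd_index (((he ▸ h2 : 2 ∣ Cfsg.charDegree ψ).trans hdvd).trans
      (Subgroup.index_map_dvd _ (QuotientGroup.mk'_surjective D)))


theorem card_commutator_congr {A B : Type*} [Group A] [Group B] (e : A ≃* B) :
    Nat.card (commutator A) = Nat.card (commutator B) := by
  have h : (commutator A).map e.toMonoidHom = commutator B := by
    rw [commutator_def, commutator_def, map_commutator, map_top_of_surjective _ e.surjective]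
  rw [← h, Subgroup.card_map_of_injective (K := commutator A) (f := e.toMonoidHom) e.injective]

/-- The sum over the normalizer of a Sylow 2-subgroup. -/
theorem oddSq_normalizer (P : Sylow 2 G) :
    oddSq (normalizer ((P : Subgroup G) : Set G)) * Nat.card (commutator ↥P) =
      Nat.card (normalizer ((P : Subgroup G) : Set G)) := by
  classical
  set N := normalizer ((P : Subgroup G) : Set G)
  let PN : Sylow 2 N := P.subtype Subgroup.le_normalizer
  haveI : ((PN : Sylow 2 N) : Subgroup N).Normal := by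
    show ((P : Subgroup G).subgroupOf N).Normal
    exact Subgroup.normal_in_normalizer
  haveI : Fintype N := Fintype.ofFinite _
  have e : ↥(PN : Subgroup N) ≃* ↥(P : Subgroup G) :=
    Subgroup.subgroupOfEquivOfLe Subgroup.le_normalizer
  have := oddSq_of_normal PN
  rwa [card_commutator_congr e] at this

theorem index_normalizer_odd (P : Sylow 2 G) :
    ¬ 2 ∣ (normalizer ((P : Subgroup G) : Set G)).index := fun h =>
  P.not_dvd_index (h.trans (Subgroup.index_dvd_of_le Subgroup.le_normalizer))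

/-- The inequality. -/
theorem le_oddSq (P : Sylow 2 G) :
    Nat.card (normalizer ((P : Subgroup G) : Set G)) ≤ Nat.card (commutator ↥P) * oddSq G := by
  classical
  haveI : Fintype (normalizer ((P : Subgroup G) : Set G)) := Fintype.ofFinite _
  rw [← oddSq_normalizer P, mul_comm]
  exact Nat.mul_le_mul_left _ (compare _ (index_normalizer_odd P)).1

/-- Linear characters of the normalizer extend in the case of equality. -/
theorem exists_linear_extension (P : Sylow 2 G) (N : Subgroup G)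
    (hN : N = normalizer ((P : Subgroup G) : Set G))
    (heq : Nat.card N = Nat.card (commutator ↥P) * oddSq G)
    (l : N →* ℂˣ) :
    ∃ L : G →* ℂˣ, ∀ n : N, L n = l n := by
  classical
  subst hN
  haveI : Fintype (normalizer ((P : Subgroup G) : Set G)) := Fintype.ofFinite _
  have hle : oddSq G ≤ oddSq (normalizer ((P : Subgroup G) : Set G)) := by
    rw [← oddSq_normalizer P, mul_comm] at heq
    exact (Nat.eq_of_mul_eq_mul_left Nat.card_pos heq).ge
  let ψ : Cfsg.IrrCharacter (normalizer ((P : Subgroup G) : Set G)) :=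
    ⟨_, CharInduce.isIrrCharacter_hom l⟩
  have hψ : Cfsg.charDegree (ψ : normalizer ((P : Subgroup G) : Set G) → ℂ) = 1 := by
    simp [Cfsg.charDegree, ψ]
  obtain ⟨χ, hχd, hχ⟩ := (compare _ (index_normalizer_odd P)).2 hle ψ (by rw [hψ]; omega)
  obtain ⟨L, hL⟩ := IsChar.exists_hom_of_degree_one (IsIrr.isCharacter χ.2)
    (by rw [deg_one, hχd, hψ, Nat.cast_one])
  exact ⟨L, fun n => Units.ext ((hL n).symm.trans (hχ n))⟩

/-- In the case of equality the normalizer has a normal complement. -/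
theorem exists_complement {G : Type u} [Group G] [Finite G] (P : Sylow 2 G)
    (heq : Nat.card (normalizer ((P : Subgroup G) : Set G)) = Nat.card (commutator ↥P) * oddSq G) :
    ∃ K : Subgroup G, K.Normal ∧ K ⊓ normalizer ((P : Subgroup G) : Set G) = ⊥ ∧
      K ⊔ normalizer ((P : Subgroup G) : Set G) = ⊤ := by
  induction hn : Nat.card G using Nat.strong_induction_on generalizing G with
  | _ n ih =>
  classical
  haveI : Fintype G := Fintype.ofFinite G
  set N := normalizer ((P : Subgroup G) : Set G) with hN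
  have hPN : (P : Subgroup G) ≤ N := Subgroup.le_normalizer
  have hext := exists_linear_extension P N hN heq
  set L : Subgroup G := commutator G ⊔ (P : Subgroup G) with hLdef
  have hcL : commutator G ≤ L := le_sup_left
  have hPL : (P : Subgroup G) ≤ L := le_sup_right
  haveI hLn : L.Normal := ⟨fun l hl g => by
    have h := mul_mem (hcL (Subgroup.commutator_mem_commutator (mem_top g) (mem_top l))) hl
    rwa [show ⁅g, l⁆ * l = g * l * g⁻¹ by rw [commutatorElement_def]; group] at h⟩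
  by_cases hLtop : L = ⊤
  · -- here `P` is self-normalizing and has a normal complement
    have hNP : N ≤ (P : Subgroup G) := by
      by_contra hne
      set Q : Subgroup N := (P : Subgroup G).subgroupOf N with hQ
      haveI : Q.Normal := Subgroup.normal_in_normalizer
      have hodd : Odd (Nat.card (N ⧸ Q)) := by
        rw [← Subgroup.index_eq_card, Nat.odd_iff, ← Nat.two_dvd_ne_zero]
        exact fun h => P.not_dvd_index (h.trans (Subgroup.relIndex_dvd_index_of_le hPN))
      haveI : Group.IsSolvable (N ⧸ Q) := S0205.result hodd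
      haveI : Nontrivial (N ⧸ Q) := QuotientGroup.nontrivial_iff.mpr fun h =>
        hne (Subgroup.subgroupOf_eq_top.mp h)
      obtain ⟨q, hq⟩ : ∃ q : N ⧸ Q, Abelianization.of q ≠ 1 := by
        by_contra hc
        push Not at hc
        exact (Group.IsSolvable.commutator_lt_top_of_nontrivial (N ⧸ Q)).ne
          (eq_top_iff.mpr fun x _ => Abelianization.ker_of (N ⧸ Q) ▸ (hc x))
      haveI : Fintype (Abelianization (N ⧸ Q)) := Fintype.ofFinite _
      obtain ⟨β, hβ⟩ := CommGroup.exists_apply_ne_one_of_hasEnoughRootsOfUnity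
        (Abelianization (N ⧸ Q)) ℂ hq
      let l : N →* ℂˣ := β.comp (Abelianization.of.comp (QuotientGroup.mk' Q))
      obtain ⟨Lh, hLh⟩ := hext l
      have hker : L ≤ Lh.ker := sup_le (Abelianization.commutator_subset_ker Lh) fun x hx => by
        have hxQ : (QuotientGroup.mk' Q ⟨x, hPN hx⟩) = 1 :=
          (QuotientGroup.eq_one_iff _).mpr hx
        rw [MonoidHom.mem_ker, show Lh x = l ⟨x, hPN hx⟩ from hLh ⟨x, hPN hx⟩]
        simp only [l, MonoidHom.comp_apply, hxQ, map_one]
      obtain ⟨w, hw⟩ := QuotientGroup.mk'_surjective Q q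
      apply hβ
      have h1 : Lh (w : G) = 1 := hker (hLtop ▸ mem_top _)
      rw [hLh w] at h1
      show β (Abelianization.of q) = 1
      rw [← hw]
      exact h1
    have hfoc : commutator G ⊓ (P : Subgroup G) ≤ ⁅(P : Subgroup G), (P : Subgroup G)⁆ := by
      rintro x ⟨hxc, hxP⟩
      rw [← map_subtype_commutator]
      refine ⟨⟨x, hxP⟩, ?_, rfl⟩
      by_contra hne
      have hq : Abelianization.of (⟨x, hxP⟩ : (P : Subgroup G)) ≠ 1 := fun h => hne (by
        rw [SetLike.mem_coe, ← Abelianization.ker_of]; exact h)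
      haveI : Fintype (Abelianization (P : Subgroup G)) := Fintype.ofFinite _
      obtain ⟨β, hβ⟩ := CommGroup.exists_apply_ne_one_of_hasEnoughRootsOfUnity
        (Abelianization (P : Subgroup G)) ℂ hq
      obtain ⟨Lh, hLh⟩ := hext ((β.comp Abelianization.of).comp (Subgroup.inclusion hNP))
      apply hβ
      have h1 : Lh x = 1 := Abelianization.commutator_subset_ker Lh hxc
      rw [show Lh x = β (Abelianization.of ⟨x, hxP⟩) from hLh ⟨x, hPN hxP⟩] at h1
      exact h1
    obtain ⟨K, hKn, hK⟩ := (Fusion.hasNormalPComplement_iff_exists P).mp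
      (Fusion.hasNormalPComplement_of_commutator_eq P le_rfl hfoc
        (Fusion.hasNormalPComplement_of_isPGroup P.isPGroup'))
    refine ⟨K, hKn, ?_, ?_⟩
    · exact le_bot_iff.mp ((inf_le_inf_left K hNP).trans hK.disjoint.le_bot)
    · exact eq_top_iff.mpr (hK.sup_eq_top.symm.le.trans (sup_le_sup_left hPN K))
  -- the normal subgroup `L` inherits equality
  haveI : Fintype L := Fintype.ofFinite L
  have hab : ∀ a b : G ⧸ L, a * b = b * a :=
    (Subgroup.Normal.quotient_commutative_iff_commutator_le.mpr hcL).is_comm.comm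
  have hLodd : ¬ 2 ∣ L.index := fun h => P.not_dvd_index (h.trans (Subgroup.index_dvd_of_le hPL))
  set Q : Sylow 2 L := P.subtype hPL with hQdef
  set NL := normalizer ((Q : Subgroup L) : Set L) with hNL
  have hmemNL : ∀ x : L, x ∈ NL ↔ (x : G) ∈ N := by
    intro x
    rw [hNL, hN, Subgroup.mem_normalizer_iff, Subgroup.mem_normalizer_iff]
    constructor
    · intro h g
      constructor
      · intro hg
        exact (h ⟨g, hPL hg⟩).mp hg
      · intro hg
        have hgL : g ∈ L := by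
          have := hLn.conj_mem _ (hPL hg) (x : G)⁻¹
          simpa [mul_assoc] using this
        exact (h ⟨g, hgL⟩).mpr hg
    · exact fun h g => h (g : G)
  have hNLeq : NL = N.subgroupOf L := Subgroup.ext hmemNL
  have hsup : N ⊔ L = ⊤ := Sylow.normalizer_sup_eq_top' P hPL
  have hcard : L.index * Nat.card NL = Nat.card N := by
    rw [← (L.subgroupOf N).card_mul_index, hNLeq]
    have h1 : Nat.card (N.subgroupOf L) = Nat.card (L.subgroupOf N) := by
      rw [← Subgroup.card_map_of_injective L.subtype_injective,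
        ← Subgroup.card_map_of_injective (K := L.subgroupOf N) N.subtype_injective,
        subgroupOf_map_subtype, subgroupOf_map_subtype, inf_comm]
    have h2 : L.relIndex N = L.index := by
      rw [← Subgroup.relIndex_sup_right (K := L), hsup, Subgroup.relIndex_top_right]
    rw [h1, show (L.subgroupOf N).index = L.index from h2, mul_comm]
  have hcomm : Nat.card (commutator ↥Q) = Nat.card (commutator ↥P) :=
    card_commutator_congr (Subgroup.subgroupOfEquivOfLe hPL)
  have heqL : Nat.card NL = Nat.card (commutator ↥Q) * oddSq L := by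
    refine le_antisymm (le_oddSq Q) ?_
    rw [hcomm]
    refine Nat.le_of_mul_le_mul_left ?_ (Nat.pos_of_ne_zero L.index_ne_zero_of_finite)
    rw [hcard, heq, mul_left_comm]
    exact Nat.mul_le_mul_left _ (descend L hab hLodd)
  have hlt : Nat.card L < n := by
    rw [← hn]
    exact lt_of_le_of_ne L.card_le_card_group fun h => hLtop (Subgroup.eq_top_of_card_eq L h)
  obtain ⟨K1, hK1n, hK1i, hK1s⟩ := ih _ hlt Q heqL rfl
  change K1 ⊓ NL = ⊥ at hK1i
  change K1 ⊔ NL = ⊤ at hK1s
  have hQN : (Q : Subgroup L) ≤ NL := Subgroup.le_normalizer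
  have hK1odd : ¬ 2 ∣ Nat.card K1 := by
    have h := Cores.card_sup_mul_card_inf NL K1
    rw [sup_comm, hK1s, inf_comm, hK1i, Subgroup.card_bot, mul_one, Subgroup.card_top,
      ← NL.card_mul_index] at h
    rw [← Nat.eq_of_mul_eq_mul_left Nat.card_pos h]
    exact fun hd => Q.not_dvd_index (hd.trans (Subgroup.index_dvd_of_le hQN))
  have hcop : (Nat.card (Q : Subgroup L)).Coprime (Nat.card K1) := by
    obtain ⟨a, ha⟩ := Q.isPGroup'.exists_card_eq
    rw [ha]
    exact Nat.Coprime.pow_left a (Nat.prime_two.coprime_iff_not_dvd.mpr hK1odd)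
  have hQsolv : Group.IsSolvable (Q : Subgroup L) :=
    haveI := Q.isPGroup'.isNilpotent
    inferInstance
  have hK1comm : ⁅K1, (Q : Subgroup L)⁆ = K1 := by
    have h := Coprime.commutator_sup_centralizer (K := K1) (A := (Q : Subgroup L))
      (le_top.trans_eq (Subgroup.normalizer_eq_top (H := K1)).symm) hcop (Or.inl hQsolv)
    rwa [le_bot_iff.mp ((inf_le_inf_left K1 (Subgroup.centralizer_le_normalizer _)).trans
      hK1i.le), sup_bot_eq] at h
  have hconj : ∀ g ∈ N, K1.map (MulAut.conjNormal g : L ≃* L).toMonoidHom ≤ K1 := by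
    intro g hg
    set φ : L →* L := (MulAut.conjNormal g : L ≃* L).toMonoidHom with hφ
    set K2 := K1.map φ with hK2
    haveI : K2.Normal := hK1n.map φ (MulAut.conjNormal g : L ≃* L).surjective
    have hQφ : (Q : Subgroup L).map φ = (Q : Subgroup L) := by
      ext x
      rw [hQdef, Sylow.coe_subtype, Subgroup.mem_map]
      constructor
      · rintro ⟨y, hy, rfl⟩
        exact (Subgroup.mem_normalizer_iff.mp hg (y : G)).mp hy
      · intro hx
        refine ⟨(MulAut.conjNormal g : L ≃* L).symm x, ?_, MulEquiv.apply_symm_apply _ x⟩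
        rw [Subgroup.mem_subgroupOf, MulAut.conjNormal_symm_apply]
        simpa using (Subgroup.mem_normalizer_iff.mp (inv_mem hg) (x : G)).mp hx
    have hK2comm : ⁅K2, (Q : Subgroup L)⁆ = K2 := by
      conv_lhs => rw [← hQφ]
      rw [hK2, ← map_commutator, hK1comm]
    have hK2card : Nat.card K2 = Nat.card K1 :=
      Subgroup.card_map_of_injective (MulAut.conjNormal g : L ≃* L).injective
    have hMQ : (K1 ⊔ K2) ⊓ (Q : Subgroup L) = ⊥ := by
      refine Coprime.inf_eq_bot ?_
      have h : Nat.card (K1 ⊔ K2 : Subgroup L) ∣ Nat.card K1 * Nat.card K1 := by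
        have := Cores.card_sup_dvd K1 K2
        rwa [hK2card] at this
      exact (Nat.Coprime.mul_right hcop hcop).symm.coprime_dvd_left h
    rw [← hK2comm, Subgroup.commutator_le]
    intro x hx q hq
    have hx' : x ∈ K1 ⊔ NL := hK1s ▸ mem_top x
    rw [← SetLike.mem_coe, normal_mul] at hx'
    obtain ⟨k, hk, c, hc, rfl⟩ := Set.mem_mul.mp hx'
    have hcM : c ∈ K1 ⊔ K2 := by
      have := mul_mem (mem_sup_left (T := K2) (inv_mem hk)) (mem_sup_right (S := K1) hx)
      simpa using this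
    have hcq : ⁅c, q⁆ = 1 := by
      have h1 : ⁅c, q⁆ ∈ (K1 ⊔ K2) ⊓ (Q : Subgroup L) := by
        refine ⟨?_, ?_⟩
        · have := mul_mem hcM ((Subgroup.sup_normal K1 K2).conj_mem _ (inv_mem hcM) q)
          simpa [commutatorElement_def, mul_assoc] using this
        · rw [commutatorElement_def]
          exact mul_mem ((Subgroup.mem_normalizer_iff.mp hc q).mp hq) (inv_mem hq : q⁻¹ ∈ (Q : Subgroup L))
      rwa [hMQ, Subgroup.mem_bot] at h1
    rw [commutatorElement_mul_left_eq_conj_mul, hcq, mul_one, mul_inv_cancel, one_mul]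
    have := mul_mem hk (hK1n.conj_mem _ (inv_mem hk) q)
    simpa [commutatorElement_def, mul_assoc] using this
  refine ⟨K1.map L.subtype, ?_, ?_, ?_⟩
  · rw [← Subgroup.normalizer_eq_top_iff, eq_top_iff, ← hsup]
    refine sup_le (fun g hg => ?_) (fun g hg => ?_)
    · rw [Subgroup.mem_normalizer_iff]
      intro x
      constructor
      · rintro ⟨k, hk, rfl⟩
        exact ⟨_, hconj g hg ⟨k, hk, rfl⟩, by simp⟩
      · rintro ⟨k, hk, hkx⟩
        refine ⟨_, hconj g⁻¹ (inv_mem hg) ⟨k, hk, rfl⟩, ?_⟩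
        have hkx' : (k : G) = g * x * g⁻¹ := hkx
        simp [hkx', mul_assoc]
    · rw [Subgroup.mem_normalizer_iff]
      intro x
      constructor
      · rintro ⟨k, hk, rfl⟩
        exact ⟨_, hK1n.conj_mem k hk ⟨g, hg⟩, rfl⟩
      · rintro ⟨k, hk, hkx⟩
        refine ⟨_, hK1n.conj_mem k hk (⟨g, hg⟩ : L)⁻¹, ?_⟩
        have hkx' : (k : G) = g * x * g⁻¹ := hkx
        simp [hkx', mul_assoc]
  · rw [eq_bot_iff]
    rintro _ ⟨⟨k, hk, rfl⟩, hkN⟩
    have : k ∈ K1 ⊓ NL := ⟨hk, (hmemNL k).mpr hkN⟩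
    rw [hK1i, Subgroup.mem_bot] at this
    simp [this]
  · rw [eq_top_iff, ← hsup]
    refine sup_le le_sup_right ?_
    intro x hx
    have : (⟨x, hx⟩ : L) ∈ K1 ⊔ NL := hK1s ▸ mem_top _
    rw [← SetLike.mem_coe, normal_mul] at this
    obtain ⟨k, hk, c, hc, e⟩ := Set.mem_mul.mp this
    have e' : (k : G) * (c : G) = x := congrArg Subtype.val e
    rw [← e']
    exact mul_mem (mem_sup_left ⟨k, hk, rfl⟩) (mem_sup_right ((hmemNL c).mp hc))

/-- An odd character is trivial on a normal subgroup meeting the normalizer trivially. -/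
theorem trivial_on (P : Sylow 2 G) (K : Subgroup G) [hK : K.Normal]
    (hKN : K ⊓ normalizer ((P : Subgroup G) : Set G) = ⊥) (hKodd : ¬ 2 ∣ Nat.card K)
    (χ : Cfsg.IrrCharacter G) (hχ : ¬ 2 ∣ Cfsg.charDegree (χ : G → ℂ)) :
    ∀ n ∈ K, (χ : G → ℂ) n = (χ : G → ℂ) 1 := by
  classical
  haveI : Fintype K := Fintype.ofFinite K
  obtain ⟨θ₀, hθ₀⟩ := CharInduce.exists_constituent (IsChar.res (IsIrr.isCharacter χ.2) K)
    (fun h0 => IsIrr.one_ne_zero χ.2 (by simpa using congrFun h0 1))
  obtain ⟨k, hk⟩ := exists_mult K χ θ₀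
  set T := inertia K (θ₀ : K → ℂ) with hT
  have hTodd : ¬ 2 ∣ T.index := by
    intro h
    have hdeg := clifford_degree K χ.2 θ₀.2 hθ₀
    rw [deg_one, deg_one, hk] at hdeg
    have hdeg' : Cfsg.charDegree (χ : G → ℂ) = k * T.index * Cfsg.charDegree (θ₀ : K → ℂ) := by
      exact_mod_cast hdeg
    exact hχ (hdeg' ▸ dvd_mul_of_dvd_left (dvd_mul_of_dvd_right h _) _)
  obtain ⟨S⟩ : Nonempty (Sylow 2 T) := inferInstance
  obtain ⟨S', hS'⟩ := IsPGroup.exists_le_sylow (S.isPGroup'.map T.subtype)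
  have hST : (S' : Subgroup G) ≤ T := by
    have hc : Nat.card ((S : Subgroup T).map T.subtype) = Nat.card (S' : Subgroup G) := by
      rw [Subgroup.card_map_of_injective T.subtype_injective, S.card_eq_multiplicity,
        S'.card_eq_multiplicity, ← T.card_mul_index,
        Nat.factorization_mul Nat.card_pos.ne' T.index_ne_zero_of_finite, Finsupp.add_apply,
        Nat.factorization_eq_zero_of_not_dvd hTodd, add_zero]
    rw [← Subgroup.eq_of_le_of_card_ge hS' hc.ge]
    exact Subgroup.map_subtype_le _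
  obtain ⟨g, hg⟩ := MulAction.exists_smul_eq G P S'
  let θ : Cfsg.IrrCharacter K := ⟨_, isIrrCharacter_conjFun K θ₀.2 g⟩
  have hθinv : H80.AInv (P : Subgroup G) (θ : K → ℂ) := by
    intro s hs x x' e
    have hsT : g * s * g⁻¹ ∈ T := hST (by
      rw [← hg, Sylow.coe_subgroup_smul]
      exact Subgroup.smul_mem_pointwise_smul s (MulAut.conj g) _ hs)
    have h : CharInduce.conjFun K (CharInduce.conjFun K (θ₀ : K → ℂ) g) s =
        CharInduce.conjFun K (θ₀ : K → ℂ) g := by
      rw [conjFun_mul, show g * s = (g * s * g⁻¹) * g by group, ← conjFun_mul,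
        (mem_inertia K).mp hsT]
    show CharInduce.conjFun K (θ₀ : K → ℂ) g x' = CharInduce.conjFun K (θ₀ : K → ℂ) g x
    rw [← congrFun h x]
    show CharInduce.conjFun K (θ₀ : K → ℂ) g x' =
      CharInduce.conjFun K (θ₀ : K → ℂ) g ⟨s * x * s⁻¹, _⟩
    exact congrArg _ (Subtype.ext e)
  have hnorm : ∀ s ∈ (P : Subgroup G), ∀ x ∈ K, s * x * s⁻¹ ∈ K :=
    fun s _ x hx => hK.conj_mem x hx s
  have hcop : (Nat.card K).Coprime (Nat.card (P : Subgroup G)) := by
    obtain ⟨a, ha⟩ := P.isPGroup'.exists_card_eq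
    rw [ha]
    exact (Nat.Coprime.pow_left a (Nat.prime_two.coprime_iff_not_dvd.mpr hKodd)).symm
  have hsolv : Group.IsSolvable (P : Subgroup G) :=
    haveI := P.isPGroup'.isNilpotent
    inferInstance
  have hfix : ∀ C : ConjClasses K, H80.ClassFix (P : Subgroup G) C → C = ConjClasses.mk 1 := by
    intro C hC
    obtain ⟨x₀, rfl⟩ := ConjClasses.exists_rep C
    letI := H80.conjAction K (P : Subgroup G) hnorm
    let X := {x : K // IsConj x₀ x}
    let _ : MulAction (P : Subgroup G) X :=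
      { smul := fun π x => ⟨π • x.1,
          ConjClasses.mk_eq_mk_iff_isConj.1
            (hC π π.2 x.1 (π • x.1) rfl (ConjClasses.mk_eq_mk_iff_isConj.2 x.2.symm)).symm⟩
        one_smul := fun x => Subtype.ext (one_smul (P : Subgroup G) x.1)
        mul_smul := fun π π' x => Subtype.ext (mul_smul π π' x.1) }
    have hX : ¬ 2 ∣ Nat.card X := by
      have e : Nat.card X = Nat.card (MulAction.orbit (ConjAct K) x₀) :=
        Nat.card_congr (Equiv.subtypeEquivRight fun x => by
          rw [ConjAct.mem_orbit_conjAct, isConj_comm])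
      rw [e, Nat.card_congr (MulAction.orbitEquivQuotientStabilizer (ConjAct K) x₀)]
      exact fun hd => hKodd (hd.trans (Subgroup.card_quotient_dvd_card _))
    obtain ⟨x, hx⟩ := P.isPGroup'.nonempty_fixed_point_of_prime_not_dvd_card X hX
    have hxN : (x.1 : G) ∈ normalizer ((P : Subgroup G) : Set G) := by
      refine Subgroup.centralizer_le_normalizer _ ?_
      rw [Subgroup.mem_centralizer_iff]
      intro π hπ
      have h : π * (x.1 : G) * π⁻¹ = x.1 :=
        congrArg (fun y : X => (y.1 : G)) (hx (⟨π, hπ⟩ : (P : Subgroup G)))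
      calc π * (x.1 : G) = π * (x.1 : G) * π⁻¹ * π := by group
        _ = (x.1 : G) * π := by rw [h]
    have h1 : (x.1 : G) = 1 := Subgroup.mem_bot.mp (hKN ▸ ⟨x.1.2, hxN⟩)
    rw [ConjClasses.mk_eq_mk_iff_isConj]
    exact x.2.trans (by rw [show x.1 = 1 from Subtype.ext h1])
  have hone := H80.card_aInv_eq_card_classFix K (P : Subgroup G) hnorm hcop hsolv
  have h1fix : H80.ClassFix (P : Subgroup G) (ConjClasses.mk (1 : K)) := by
    rw [H80.classFix_mk hnorm]
    intro s
    rw [map_one]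
  haveI : Unique {C : ConjClasses K // H80.ClassFix (P : Subgroup G) C} :=
    { default := ⟨_, h1fix⟩, uniq := fun C => Subtype.ext (hfix C.1 C.2) }
  rw [Nat.card_unique (α := {C : ConjClasses K // H80.ClassFix (P : Subgroup G) C})] at hone
  obtain ⟨hsub, -⟩ := Nat.card_eq_one_iff_unique.mp hone
  have heq : θ = ⟨fun _ => 1, CharBasic.isIrrCharacter_one⟩ :=
    congrArg Subtype.val (@Subsingleton.elim _ hsub ⟨θ, hθinv⟩
      ⟨⟨fun _ => 1, CharBasic.isIrrCharacter_one⟩, fun _ _ _ _ _ => rfl⟩)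
  refine (constituent_one_iff K χ.2).mp ?_
  rw [show (fun _ : K => (1 : ℂ)) = CharInduce.conjFun K (θ₀ : K → ℂ) g from
    (congrArg Subtype.val heq).symm,
    classInner_res_conjFun K (IsIrr.isClassFunction χ.2)]
  exact hθ₀

/-- A normal complement of the normalizer forces equality. -/
theorem oddSq_le_of_complement (P : Sylow 2 G) (K : Subgroup G) [hK : K.Normal]
    (hKN : K ⊓ normalizer ((P : Subgroup G) : Set G) = ⊥)
    (hsup : K ⊔ normalizer ((P : Subgroup G) : Set G) = ⊤) :
    Nat.card (commutator ↥P) * oddSq G ≤ Nat.card (normalizer ((P : Subgroup G) : Set G)) := by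
  classical
  set N := normalizer ((P : Subgroup G) : Set G) with hN
  haveI : Fintype N := Fintype.ofFinite _
  have hKodd : ¬ 2 ∣ Nat.card K := by
    have h := Cores.card_sup_mul_card_inf N K
    rw [sup_comm, hsup, inf_comm, hKN, Subgroup.card_bot, mul_one, Subgroup.card_top,
      ← N.card_mul_index] at h
    rw [← Nat.eq_of_mul_eq_mul_left Nat.card_pos h]
    exact index_normalizer_odd P
  rw [← oddSq_normalizer P, mul_comm]
  refine Nat.mul_le_mul_right _ ?_
  have htriv := trivial_on P K hKN hKodd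
  have hsurj : ∀ g : G, ∃ k ∈ K, ∃ c ∈ N, k * c = g := by
    intro g
    have : g ∈ K ⊔ N := hsup ▸ mem_top g
    rw [← SetLike.mem_coe, normal_mul] at this
    obtain ⟨k, hk, c, hc, e⟩ := Set.mem_mul.mp this
    exact ⟨k, hk, c, hc, e⟩
  have hval : ∀ χ ∈ oddIrr G, ∀ k ∈ K, ∀ c : G, (χ : G → ℂ) (k * c) = (χ : G → ℂ) c := fun χ hχ k hk c =>
    CharBasic.IsChar.eq_one_mul (IsIrr.isCharacter χ.2) (htriv χ (mem_oddIrr.mp hχ) k hk) c
  have hirr : ∀ χ ∈ oddIrr G, Cfsg.IsIrrCharacter N (fun x : N => (χ : G → ℂ) x) := by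
    intro χ hχ
    obtain ⟨ψ, -, hψ, hψirr⟩ := IsChar.exists_deflate (IsIrr.isCharacter χ.2) K
      (htriv χ (mem_oddIrr.mp hχ))
    have h := IsIrr.comp (hψirr χ.2) ((QuotientGroup.mk' K).comp N.subtype) fun q => by
      obtain ⟨x, rfl⟩ := QuotientGroup.mk'_surjective K q
      obtain ⟨k, hk, c, hc, rfl⟩ := hsurj x
      exact ⟨⟨c, hc⟩, by simp [(QuotientGroup.eq_one_iff k).mpr hk]⟩
    exact (funext fun x : N => hψ x : (fun x : N => (χ : G → ℂ) x) = _) ▸ h
  rw [oddSq_eq, oddSq_eq]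
  let f : {χ // χ ∈ oddIrr G} → Cfsg.IrrCharacter N := fun χ => ⟨_, hirr χ.1 χ.2⟩
  have hf : Function.Injective f := by
    intro a b hab
    apply Subtype.ext; apply Subtype.ext; funext g
    obtain ⟨k, hk, c, hc, rfl⟩ := hsurj g
    rw [hval a.1 a.2 k hk, hval b.1 b.2 k hk]
    exact congrFun (congrArg Subtype.val hab) ⟨c, hc⟩
  rw [← Finset.sum_attach (oddIrr G)]
  calc ∑ χ ∈ (oddIrr G).attach, Cfsg.charDegree (χ.1 : G → ℂ) ^ 2
      = ∑ ψ ∈ (oddIrr G).attach.image f, Cfsg.charDegree (ψ : N → ℂ) ^ 2 := by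
        rw [Finset.sum_image fun a _ b _ h => hf h]
        exact Finset.sum_congr rfl fun χ _ => by simp [f, Cfsg.charDegree]
    _ ≤ _ := Finset.sum_le_sum_of_subset fun ψ hψ => by
        obtain ⟨χ, -, rfl⟩ := Finset.mem_image.mp hψ
        rw [mem_oddIrr]
        have := mem_oddIrr.mp χ.2
        simpa [f, Cfsg.charDegree] using this

end Cfsg.Agent.H49.OddSq
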