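import Cfsg.Agent.H49.StrongFusionForms
import Cfsg.Agent.H49.PStableFusion
import Cfsg.Prelude.Def_PLocal
import Cfsg.Prelude.Def_TwoFusion
import Cfsg.Prelude.Def_Transfer

/-!
The normal closure of `Ω₁Z(S)` in the normalizer of `W(S)` (the setting of S1997).
-/

set_option autoImplicit false
set_option linter.style.haveILetI false
set_option linter.unusedSectionVars false

namespace Cfsg.Agent.H49

open Subgroup
open Cfsg.Agent.H48

universe u

/-- In every model of a constrained section, `X = C(Ω₁Z(T)) N(W(T))` elementwise. -/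
def CentralFactor {G : Type u} [Group G] (p : ℕ) (W : ∀ (Q : Type u) [Group Q], Subgroup Q) : Prop :=
  ∀ (K R : Subgroup G) [(R.subgroupOf K).Normal],
    centralizer ((pCore p (↥K ⧸ R.subgroupOf K) : Subgroup (↥K ⧸ R.subgroupOf K)) :
        Set (↥K ⧸ R.subgroupOf K)) ≤ pCore p (↥K ⧸ R.subgroupOf K) →
    ∀ T : Sylow p (↥K ⧸ R.subgroupOf K), ∀ x : ↥K ⧸ R.subgroupOf K,
      ∃ a ∈ centralizer ((omegaOne p ((T : Subgroup (↥K ⧸ R.subgroupOf K)) ⊓
          centralizer ((T : Subgroup (↥K ⧸ R.subgroupOf K)) : Set (↥K ⧸ R.subgroupOf K))) :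
            Subgroup (↥K ⧸ R.subgroupOf K)) : Set (↥K ⧸ R.subgroupOf K)),
      ∃ b ∈ normalizer ((inducedFunctor W (T : Subgroup (↥K ⧸ R.subgroupOf K)) :
          Subgroup (↥K ⧸ R.subgroupOf K)) : Set (↥K ⧸ R.subgroupOf K)), x = a * b

variable {p : ℕ} [hp : Fact p.Prime]

theorem omegaOne_map_le {X Y : Type u} [Group X] [Group Y] (f : X →* Y) (P : Subgroup X) :
    (omegaOne p (P ⊓ centralizer (P : Set X))).map f ≤
      omegaOne p (P.map f ⊓ centralizer ((P.map f : Subgroup Y) : Set Y)) := by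
  rw [omegaOne, MonoidHom.map_closure, closure_le]
  rintro _ ⟨x, ⟨⟨hx, hxc⟩, hxp⟩, rfl⟩
  refine subset_closure ⟨⟨⟨x, hx, rfl⟩, mem_centralizer_iff.mpr ?_⟩, by rw [← map_pow, hxp, map_one]⟩
  rintro _ ⟨y, hy, rfl⟩
  rw [← map_mul, ← map_mul, mem_centralizer_iff.mp hxc y hy]

/-- In a section with `Ω₁Z(S) ≤ O_p`, conjugates of elements of `Ω₁Z(S)` are conjugates by elements of
`N(W(S))`. -/
theorem exists_normalizer_conj_omega {G : Type u} [Group G] [Finite G]
    {W : ∀ (Q : Type u) [Group Q], Subgroup Q} (hW : IsCharPFunctor.{u} p W)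
    (hfac : CentralFactor (G := G) p W) :
    ∀ (n : ℕ) (X : Type u) [Group X] [Finite X], Nat.card X = n → Fusion.IsSec G X →
      ∀ (S : Sylow p X),
        omegaOne p ((S : Subgroup X) ⊓ centralizer ((S : Subgroup X) : Set X)) ≤ pCore p X →
        ∀ z ∈ omegaOne p ((S : Subgroup X) ⊓ centralizer ((S : Subgroup X) : Set X)), ∀ x : X,
          ∃ m ∈ normalizer ((inducedFunctor W (S : Subgroup X) : Subgroup X) : Set X),
            x * z * x⁻¹ = m * z * m⁻¹ := by
  intro n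
  induction n using Nat.strong_induction_on with
  | _ n ih =>
  intro X _ _ hn hX S hZQ z hz x
  set P : Subgroup X := (S : Subgroup X) with hP
  set Q := pCore p X with hQ
  set Z := omegaOne p (P ⊓ centralizer (P : Set X)) with hZ
  have hQP : Q ≤ P := Cores.pCore_le_sylow S
  have hZc : Z ≤ centralizer (P : Set X) := (closure_le _).mpr fun y hy => hy.1.2
  set C := centralizer ((Q : Subgroup X) : Set X) with hC
  haveI : C.Normal := inferInstance
  have hCz : ∀ c ∈ C, c * z * c⁻¹ = z := fun c hc => by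
    rw [← mem_centralizer_iff.mp hc z (hZQ hz), mul_inv_cancel_right]
  set R := P ⊓ C with hR
  set N0 := normalizer ((Q ⊔ R : Subgroup X) : Set X) with hN0
  have hQR : Q ⊔ R ≤ P := sup_le hQP inf_le_left
  by_cases hN0top : N0 = ⊤
  · -- modulo the `p'`-core the group is constrained
    haveI := normalizer_eq_top_iff.mp hN0top
    have hRQ : R ≤ Q := le_sup_right.trans (Cores.le_pCore (S.isPGroup'.to_le hQR))
    set M := pPrimeCore p X with hMdef
    set q := QuotientGroup.mk' M with hq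
    have hM : ¬ p ∣ Nat.card M := Cores.not_dvd_card_pPrimeCore
    let S' : Sylow p (X ⧸ M) := S.mapSurjective (QuotientGroup.mk'_surjective M)
    have hS' : (S' : Subgroup (X ⧸ M)) = P.map q := rfl
    have hQ' : Q.map q ≤ pCore p (X ⧸ M) := Cores.pCore_map_le (QuotientGroup.mk'_surjective M)
    have hQM : ∀ y ∈ Q, y ∈ M → y = 1 := fun y hy hyM => by
      have h1 : y ∈ Q ⊓ M := ⟨hy, hyM⟩
      rwa [hQ, hMdef, Cores.pCore_inf_pPrimeCore, mem_bot] at h1
    have hpull : ∀ y : X, (∀ v ∈ Q, q y * q v = q v * q y) → y ∈ C := fun y hy => by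
      refine mem_centralizer_iff.mpr fun v hv => ?_
      have h1 : q (y * v * y⁻¹) = q v := by
        rw [map_mul, map_mul, map_inv, hy v hv, mul_inv_cancel_right]
      have h2 : (y * v * y⁻¹)⁻¹ * v ∈ M := QuotientGroup.eq.mp h1
      have h3 := hQM _ (mul_mem (inv_mem ((inferInstance : Q.Normal).conj_mem v hv y)) hv) h2
      exact (mul_inv_eq_iff_eq_mul.mp (inv_mul_eq_one.mp h3)).symm
    have hcons : centralizer ((pCore p (X ⧸ M) : Subgroup (X ⧸ M)) : Set (X ⧸ M)) ≤ pCore p (X ⧸ M) := by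
      set C' := centralizer ((pCore p (X ⧸ M) : Subgroup (X ⧸ M)) : Set (X ⧸ M)) with hC'
      have h1 : C' ≤ C.map q := by
        intro y hy
        obtain ⟨y, rfl⟩ := QuotientGroup.mk'_surjective M y
        exact ⟨y, hpull y fun v hv => (mem_centralizer_iff.mp hy _ (hQ' ⟨v, hv, rfl⟩)).symm, rfl⟩
      refine centralizer_le_of_inf_le ?_ S' ?_
      · exact Cores.pPrimeCore_quotient_pPrimeCore
      · rintro y ⟨hy1, hy2⟩
        obtain ⟨c, hc, rfl⟩ := h1 hy2
        rw [hS'] at hy1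
        obtain ⟨s, hs, hsc⟩ := hy1
        refine hQ' ⟨s, hRQ ⟨hs, hpull s fun v hv => ?_⟩, hsc⟩
        rw [hsc, ← map_mul, ← map_mul, mem_centralizer_iff.mp hc v hv]
    obtain ⟨K, R', hKR, ⟨e⟩⟩ := (hX.quotient M).exists_model
    obtain ⟨T, hT⟩ := Fusion.sylow_map_equiv e S'
    obtain ⟨a, ha, b, hb, hab⟩ := hfac K R' (constrained_congr e hcons) T (e.symm (q x⁻¹))
    obtain ⟨y, hy⟩ := QuotientGroup.mk'_surjective M (e a)
    have hbq : e b ∈ normalizer ((inducedFunctor W (P.map q) : Subgroup (X ⧸ M)) : Set (X ⧸ M)) := by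
      rw [← hS', ← hT, Fusion.inducedFunctor_map hW e.toMonoidHom e.injective T.isPGroup']
      exact le_normalizer_map _ ⟨b, hb, rfl⟩
    obtain ⟨n', hn'⟩ := QuotientGroup.mk'_surjective M (e b)
    obtain ⟨m, hm, hme⟩ := normalizer_inducedFunctor_quotient hW S M hM (x := n') (by rw [hn']; exact hbq)
    have hyz : y * z * y⁻¹ = z := by
      have h0 : q z ∈ omegaOne p (P.map q ⊓ centralizer ((P.map q : Subgroup (X ⧸ M)) : Set (X ⧸ M))) :=
        omegaOne_map_le q P ⟨z, hz, rfl⟩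
      rw [← hS', ← hT] at h0
      have h0' : e.symm (q z) ∈ omegaOne p ((T : Subgroup (↥K ⧸ R'.subgroupOf K)) ⊓
          centralizer ((T : Subgroup (↥K ⧸ R'.subgroupOf K)) : Set (↥K ⧸ R'.subgroupOf K))) := by
        have h2 := omegaOne_map_le (p := p) e.symm.toMonoidHom ((T : Subgroup (↥K ⧸ R'.subgroupOf K)).map e.toMonoidHom)
          ⟨q z, h0, rfl⟩
        rw [Subgroup.map_map, show e.symm.toMonoidHom.comp e.toMonoidHom = MonoidHom.id _ from
          MonoidHom.ext fun w => e.symm_apply_apply w, Subgroup.map_id] at h2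
        exact h2
      have h4 : q (y * z * y⁻¹) = q z := by
        have h5 := congrArg e (mem_centralizer_iff.mp ha _ h0')
        rw [map_mul, map_mul, e.apply_symm_apply, ← hy] at h5
        rw [map_mul, map_mul, map_inv]
        exact mul_inv_eq_iff_eq_mul.mpr h5.symm
      have h6 : (y * z * y⁻¹)⁻¹ * z ∈ M := QuotientGroup.eq.mp h4
      exact inv_mul_eq_one.mp (hQM _ (mul_mem (inv_mem ((inferInstance : Q.Normal).conj_mem z (hZQ hz) y))
        (hZQ hz)) h6)
    -- `x⁻¹ = y m` modulo `M`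
    obtain ⟨k, hk, hxk⟩ : ∃ k ∈ M, x⁻¹ = y * m * k := by
      refine ⟨(y * m)⁻¹ * x⁻¹, ?_, by group⟩
      refine QuotientGroup.eq.mp ?_
      show q (y * m) = q x⁻¹
      rw [map_mul, hy, hme.trans hn', ← map_mul, ← hab, e.apply_symm_apply]
    refine ⟨m⁻¹, inv_mem hm, ?_⟩
    have hkv : ∀ v ∈ Q, k * v = v * k := fun v hv =>
      (Cores.commute_pCore_pPrimeCore hv hk).symm
    have hxe : x = k⁻¹ * m⁻¹ * y⁻¹ := by
      rw [← inv_inv x, hxk]; group
    have hyz' : y⁻¹ * z * y = z := by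
      calc y⁻¹ * z * y = y⁻¹ * (y * z * y⁻¹) * y := by rw [hyz]
        _ = z := by group
    have hmz : m⁻¹ * z * m ∈ Q := by simpa using (inferInstance : Q.Normal).conj_mem z (hZQ hz) m⁻¹
    calc x * z * x⁻¹ = k⁻¹ * (m⁻¹ * (y⁻¹ * z * y) * m) * k := by rw [hxe]; group
      _ = k⁻¹ * ((m⁻¹ * z * m) * k) := by rw [hyz']; group
      _ = k⁻¹ * (k * (m⁻¹ * z * m)) := by rw [hkv _ hmz]
      _ = m⁻¹ * z * (m⁻¹)⁻¹ := by group
  · -- reduce to `N(Q (S ∩ C(Q)))`
    have hRsyl := isSylowIn_inf (isSylowIn_sylow S) (le_top : C ≤ ⊤)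
      (by rw [normalizer_eq_top_iff.mpr ‹C.Normal›])
    have hRN : normalizer (R : Set X) ≤ N0 := by
      intro k hk
      refine mem_normalizer_of_cj_eq ?_
      rw [show cj k (Q ⊔ R) = _ from Subgroup.map_sup _ _ _]
      show cj k Q ⊔ cj k R = Q ⊔ R
      rw [cj_eq_of_mem_normalizer hk, cj_eq_of_mem_normalizer
        (show k ∈ normalizer (Q : Set X) by rw [normalizer_eq_top_iff.mpr inferInstance]; exact mem_top k)]
    have hPN0 : P ≤ N0 := ((le_inf le_normalizer
      (le_top.trans (normalizer_eq_top_iff.mpr ‹C.Normal›).ge)).trans inf_normalizer_le_normalizer_inf).trans hRN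
    obtain ⟨k, hk, hc⟩ : ∃ k ∈ N0, k⁻¹ * x ∈ C := by
      have h1 : IsSylowIn p (cj x R) C := by
        have := hRsyl.cj x
        rwa [cj_eq_of_mem_normalizer (show x ∈ normalizer (C : Set X) by
          rw [normalizer_eq_top_iff.mpr ‹C.Normal›]; exact mem_top x)] at this
      obtain ⟨c', hc', he⟩ := h1.exists_conj hRsyl
      rw [cj_cj] at he
      refine ⟨c' * x, hRN (mem_normalizer_of_cj_eq he), ?_⟩
      have := ‹C.Normal›.conj_mem _ (inv_mem hc') x⁻¹
      simpa [mul_assoc] using this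
    have hlt : Nat.card ↥N0 < n := hn ▸ lt_of_le_of_ne (card_le_card_group N0) fun h =>
      hN0top (eq_top_of_card_eq N0 h)
    let S0 : Sylow p ↥N0 := S.subtype hPN0
    have hS0 : (S0 : Subgroup ↥N0).map N0.subtype = P := map_subgroupOf_eq_of_le hPN0
    set Z0' := omegaOne p ((S0 : Subgroup ↥N0) ⊓ centralizer ((S0 : Subgroup ↥N0) : Set ↥N0)) with hZ0'
    have hZ0 : Z0'.map N0.subtype = Z := by
      refine le_antisymm ?_ ?_
      · have := omegaOne_map_le (p := p) N0.subtype (S0 : Subgroup ↥N0)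
        rwa [hS0] at this
      rw [hZ, omegaOne, closure_le]
      rintro w ⟨⟨hw, hwc⟩, hwp⟩
      refine ⟨⟨w, hPN0 hw⟩, subset_closure ⟨⟨hw, mem_centralizer_iff.mpr fun v hv => ?_⟩, Subtype.ext hwp⟩, rfl⟩
      exact Subtype.ext (mem_centralizer_iff.mp hwc (v : X) hv)
    have hQle : Q.subgroupOf N0 ≤ pCore p ↥N0 := Cores.subgroupOf_pCore_le N0
    obtain ⟨z0, hz0, rfl⟩ : ∃ z0 ∈ Z0', N0.subtype z0 = z := by rw [← hZ0] at hz; exact hz
    obtain ⟨m, hm, hme⟩ := ih _ hlt ↥N0 rfl (hX.subgroup N0) S0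
      (fun w hw => hQle (mem_subgroupOf.mpr (hZQ (hZ0 ▸ ⟨w, hw, rfl⟩)))) z0 hz0 ⟨k, hk⟩
    refine ⟨(m : X), ?_, ?_⟩
    · rw [← hS0, Fusion.inducedFunctor_map hW N0.subtype N0.subtype_injective S0.isPGroup']
      exact le_normalizer_map _ ⟨m, hm, rfl⟩
    · have h1 := congrArg N0.subtype hme
      simp only [map_mul, map_inv] at h1
      calc x * N0.subtype z0 * x⁻¹
          = k * ((k⁻¹ * x) * N0.subtype z0 * (k⁻¹ * x)⁻¹) * k⁻¹ := by group
        _ = k * N0.subtype z0 * k⁻¹ := by rw [hCz _ hc]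
        _ = _ := h1

variable {G : Type u} [Group G] [Finite G]

/-- The conjugates in `N(W'(S))` of elements of `Ω₁Z(S)` are conjugates in `N(W(S))`. -/
theorem conj_omega_of_factor {W W' : ∀ (Q : Type u) [Group Q], Subgroup Q}
    (hW : IsCharPFunctor.{u} p W) (hW' : IsCharPFunctor.{u} p W') (hfac : CentralFactor (G := G) p W)
    (S : Sylow p G)
    (hZ : omegaOne p ((S : Subgroup G) ⊓ centralizer ((S : Subgroup G) : Set G)) ≤
      inducedFunctor W' (S : Subgroup G))
    {z x : G} (hz : z ∈ omegaOne p ((S : Subgroup G) ⊓ centralizer ((S : Subgroup G) : Set G)))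
    (hx : x ∈ normalizer ((inducedFunctor W' (S : Subgroup G) : Subgroup G) : Set G)) :
    ∃ m ∈ normalizer ((inducedFunctor W (S : Subgroup G) : Subgroup G) : Set G),
      x * z * x⁻¹ = m * z * m⁻¹ := by
  set P : Subgroup G := (S : Subgroup G) with hP
  set N := normalizer ((inducedFunctor W' P : Subgroup G) : Set G) with hN
  have hPN : P ≤ N := Fusion.le_normalizer_inducedFunctor hW' S.isPGroup'
  let S0 : Sylow p ↥N := S.subtype hPN
  have hS0 : (S0 : Subgroup ↥N).map N.subtype = P := map_subgroupOf_eq_of_le hPN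
  set Z0' := omegaOne p ((S0 : Subgroup ↥N) ⊓ centralizer ((S0 : Subgroup ↥N) : Set ↥N)) with hZ0'
  have hZ0 : Z0'.map N.subtype = omegaOne p (P ⊓ centralizer (P : Set G)) := by
    refine le_antisymm ?_ ?_
    · have := omegaOne_map_le (p := p) N.subtype (S0 : Subgroup ↥N)
      rwa [hS0] at this
    rw [omegaOne, closure_le]
    rintro w ⟨⟨hw, hwc⟩, hwp⟩
    refine ⟨⟨w, hPN hw⟩, subset_closure ⟨⟨hw, mem_centralizer_iff.mpr fun v hv => ?_⟩, Subtype.ext hwp⟩, rfl⟩
    exact Subtype.ext (mem_centralizer_iff.mp hwc (v : G) hv)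
  have hWN : (inducedFunctor W' P).subgroupOf N ≤ pCore p ↥N := by
    haveI : ((inducedFunctor W' P).subgroupOf N).Normal :=
      normal_subgroupOf_of_le_normalizer le_rfl
    exact Cores.le_pCore (S.isPGroup'.to_le (Fusion.inducedFunctor_le P)).comap_subtype
  obtain ⟨z0, hz0, rfl⟩ : ∃ z0 ∈ Z0', N.subtype z0 = z := by rw [← hZ0] at hz; exact hz
  obtain ⟨m, hm, hme⟩ := exists_normalizer_conj_omega hW hfac _ ↥N rfl (isSec_self.subgroup N) S0
    (fun w hw => hWN (mem_subgroupOf.mpr (hZ (hZ0 ▸ ⟨w, hw, rfl⟩)))) z0 hz0 ⟨x, hx⟩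
  refine ⟨(m : G), ?_, congrArg N.subtype hme⟩
  rw [← hS0, Fusion.inducedFunctor_map hW N.subtype N.subtype_injective S0.isPGroup']
  exact le_normalizer_map _ ⟨m, hm, rfl⟩

end Cfsg.Agent.H49
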