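import Cfsg.Prelude.Def_FusionComponents
import Cfsg.Agent.FusionSys.Saturated
import Cfsg.Agent.H48.SylowIn
import Mathlib

/-!
Direct products of saturated fusion systems are saturated.
-/

set_option autoImplicit false
set_option linter.unusedSectionVars false
set_option linter.style.haveILetI false

namespace Cfsg.Agent.H49

open Cfsg Cfsg.FusionSystem Cfsg.Agent.FusionSys

universe u v

variable {Ω₁ : Type u} [Group Ω₁] {Ω₂ : Type v} [Group Ω₂] {S₁ : Subgroup Ω₁} {S₂ : Subgroup Ω₂}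
  {F₁ : FusionSystem S₁} {F₂ : FusionSystem S₂} {E : FusionSystem (S₁.prod S₂)}

/-- The first projection of a subgroup of a product. -/
abbrev prj₁ (P : Subgroup (Ω₁ × Ω₂)) : Subgroup Ω₁ := P.map (MonoidHom.fst Ω₁ Ω₂)

/-- The second projection of a subgroup of a product. -/
abbrev prj₂ (P : Subgroup (Ω₁ × Ω₂)) : Subgroup Ω₂ := P.map (MonoidHom.snd Ω₁ Ω₂)

/-- The pair of two maps. -/
def pairFun (f₁ : Ω₁ → Ω₁) (f₂ : Ω₂ → Ω₂) : Ω₁ × Ω₂ → Ω₁ × Ω₂ := fun x => (f₁ x.1, f₂ x.2)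

theorem mem_prj₁ {P : Subgroup (Ω₁ × Ω₂)} {x : Ω₁ × Ω₂} (hx : x ∈ P) : x.1 ∈ prj₁ P := ⟨x, hx, rfl⟩

theorem mem_prj₂ {P : Subgroup (Ω₁ × Ω₂)} {x : Ω₁ × Ω₂} (hx : x ∈ P) : x.2 ∈ prj₂ P := ⟨x, hx, rfl⟩

theorem isMap_product (hE : IsProductSystem F₁ F₂ E) {P : Subgroup (Ω₁ × Ω₂)}
    {f : Ω₁ × Ω₂ → Ω₁ × Ω₂} (h : IsMap E P f) : P ≤ S₁.prod S₂ ∧ ∃ f₁ f₂, IsMap F₁ (prj₁ P) f₁ ∧
      IsMap F₂ (prj₂ P) f₂ ∧ ∀ x ∈ P, f x = pairFun f₁ f₂ x := by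
  obtain ⟨φ, hφ, he⟩ := h
  obtain ⟨hP, φ₁, hφ₁, φ₂, hφ₂, heq⟩ := (hE P φ).1 hφ
  refine ⟨hP, homFun φ₁, homFun φ₂, isMap_of_mem hφ₁, isMap_of_mem hφ₂, fun x hx => ?_⟩
  rw [← he ⟨x, hx⟩, heq ⟨x, hx⟩ (mem_prj₁ hx) (mem_prj₂ hx)]
  exact Prod.ext (homFun_mem φ₁ (mem_prj₁ hx)).symm (homFun_mem φ₂ (mem_prj₂ hx)).symm

theorem isMap_pair (hE : IsProductSystem F₁ F₂ E) {P : Subgroup (Ω₁ × Ω₂)} (hP : P ≤ S₁.prod S₂)
    {f₁ : Ω₁ → Ω₁} {f₂ : Ω₂ → Ω₂} (h₁ : IsMap F₁ (prj₁ P) f₁) (h₂ : IsMap F₂ (prj₂ P) f₂) :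
    IsMap E P (pairFun f₁ f₂) := by
  obtain ⟨φ₁, hφ₁, e₁⟩ := h₁
  obtain ⟨φ₂, hφ₂, e₂⟩ := h₂
  let a₁ : P →* prj₁ P := ((MonoidHom.fst Ω₁ Ω₂).comp P.subtype).codRestrict _ fun x => mem_prj₁ x.2
  let a₂ : P →* prj₂ P := ((MonoidHom.snd Ω₁ Ω₂).comp P.subtype).codRestrict _ fun x => mem_prj₂ x.2
  exact ⟨(φ₁.comp a₁).prod (φ₂.comp a₂), (hE P _).2 ⟨hP, φ₁, hφ₁, φ₂, hφ₂, fun x _ _ => rfl⟩,
    fun x => Prod.ext (e₁ _) (e₂ _)⟩

variable [Finite S₁] [Finite S₂] {p : ℕ} [hp : Fact p.Prime]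

theorem isSaturated_product (h₁ : IsPGroup p S₁) (h₂ : IsPGroup p S₂) (hF₁ : F₁.IsSaturated p)
    (hF₂ : F₂.IsSaturated p) (hE : IsProductSystem F₁ F₂ E) : E.IsSaturated p := by
  haveI : Finite (S₁.prod S₂) := Finite.of_equiv _ (S₁.prodEquiv S₂).symm.toEquiv
  have hS : IsPGroup p (S₁.prod S₂) := by
    intro x
    obtain ⟨i, hi⟩ := h₁ ⟨x.1.1, x.2.1⟩
    obtain ⟨j, hj⟩ := h₂ ⟨x.1.2, x.2.2⟩
    refine ⟨i + j, Subtype.ext (Prod.ext ?_ ?_)⟩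
    · have : x.1.1 ^ p ^ i = 1 := congrArg Subtype.val hi
      show x.1.1 ^ p ^ (i + j) = 1
      rw [pow_add, pow_mul, this, one_pow]
    · have : x.1.2 ^ p ^ j = 1 := congrArg Subtype.val hj
      show x.1.2 ^ p ^ (i + j) = 1
      rw [pow_add, mul_comm, pow_mul, this, one_pow]
  intro P hP
  obtain ⟨Q₁, hc₁, hA₁, hR₁⟩ := hF₁ (prj₁ P) (fun _ ⟨x, hx, e⟩ => e ▸ (hP hx).1)
  obtain ⟨Q₂, hc₂, hA₂, hR₂⟩ := hF₂ (prj₂ P) (fun _ ⟨x, hx, e⟩ => e ▸ (hP hx).2)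
  obtain ⟨f₁, hf₁⟩ := isConj_iff.1 hc₁
  obtain ⟨f₂, hf₂⟩ := isConj_iff.1 hc₂
  have hQ₁ : Q₁ ≤ S₁ := hA₁.1
  have hQ₂ : Q₂ ≤ S₂ := hA₂.1
  haveI := finite_of_le hQ₁
  haveI := finite_of_le hQ₂
  haveI := finite_mulAut_of_le hQ₁
  haveI := finite_mulAut_of_le hQ₂
  -- a conjugate with the chosen projections
  have hm := isMap_pair hE hP hf₁.isMap hf₂.isMap
  set P' := imgSub (pairFun f₁ f₂) P with hP'def
  have hP'1 : prj₁ P' = Q₁ := by
    refine le_antisymm ?_ fun y hy => ?_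
    · rintro _ ⟨y, hy, rfl⟩
      obtain ⟨x, hx, rfl⟩ := hm.mem_imgSub.1 hy
      exact hf₁.mem (mem_prj₁ hx)
    · obtain ⟨a, ⟨x, hx, rfl⟩, rfl⟩ := hf₁.exists_preimage hy
      exact ⟨_, hm.mem_imgSub.2 ⟨x, hx, rfl⟩, rfl⟩
  have hP'2 : prj₂ P' = Q₂ := by
    refine le_antisymm ?_ fun y hy => ?_
    · rintro _ ⟨y, hy, rfl⟩
      obtain ⟨x, hx, rfl⟩ := hm.mem_imgSub.1 hy
      exact hf₂.mem (mem_prj₂ hx)
    · obtain ⟨a, ⟨x, hx, rfl⟩, rfl⟩ := hf₂.exists_preimage hy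
      exact ⟨_, hm.mem_imgSub.2 ⟨x, hx, rfl⟩, rfl⟩
  haveI := finite_of_le hm.imgSub_le
  -- the automorphism pairs and their action on subgroups
  let act : MulAut Q₁ × MulAut Q₂ → Ω₁ × Ω₂ → Ω₁ × Ω₂ := fun a => pairFun (autMap a.1) (autMap a.2)
  have hact : ∀ (a b : MulAut Q₁ × MulAut Q₂) (x : Ω₁ × Ω₂), x.1 ∈ Q₁ → x.2 ∈ Q₂ →
      act (a * b) x = act a (act b x) := fun a b x hx₁ hx₂ =>
    Prod.ext (autMap_mul a.1 b.1 hx₁) (autMap_mul a.2 b.2 hx₂)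
  have hone : ∀ x : Ω₁ × Ω₂, x.1 ∈ Q₁ → x.2 ∈ Q₂ → act 1 x = x := fun x hx₁ hx₂ =>
    Prod.ext (by show autMap (1 : MulAut Q₁) x.1 = x.1; rw [autMap_apply _ hx₁]; rfl)
      (by show autMap (1 : MulAut Q₂) x.2 = x.2; rw [autMap_apply _ hx₂]; rfl)
  set A := (F₁.autGroup Q₁).prod (F₂.autGroup Q₂) with hA
  set AS := (autInducedBy S₁ Q₁).prod (autInducedBy S₂ Q₂) with hAS
  have hASA : AS ≤ A := fun a ha =>
    ⟨autInducedBy_le_autGroup F₁ hQ₁ ha.1, autInducedBy_le_autGroup F₂ hQ₂ ha.2⟩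
  -- stabilizers
  let St : ∀ R : Subgroup (Ω₁ × Ω₂), prj₁ R = Q₁ → prj₂ R = Q₂ → Subgroup (MulAut Q₁ × MulAut Q₂) :=
    fun R e₁ e₂ =>
    { carrier := {a | a ∈ A ∧ act a '' (R : Set (Ω₁ × Ω₂)) = R}
      one_mem' := ⟨one_mem _, (Set.image_congr fun x hx =>
        hone x (e₁.le (mem_prj₁ hx)) (e₂.le (mem_prj₂ hx))).trans (Set.image_id' _)⟩
      mul_mem' := fun {a b} ha hb => ⟨mul_mem ha.1 hb.1, by
        rw [Set.image_congr (fun x hx => hact a b x (e₁.le (mem_prj₁ hx)) (e₂.le (mem_prj₂ hx))),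
          ← Set.image_image (act a) (act b), hb.2, ha.2]⟩
      inv_mem' := fun {a} ha => ⟨inv_mem ha.1, by
        conv_lhs => rw [← ha.2]
        rw [Set.image_image]
        refine (Set.image_congr fun x hx => ?_).trans (Set.image_id' _)
        rw [← hact a⁻¹ a x (e₁.le (mem_prj₁ hx)) (e₂.le (mem_prj₂ hx)), inv_mul_cancel]
        exact hone x (e₁.le (mem_prj₁ hx)) (e₂.le (mem_prj₂ hx))⟩ }
  -- move a Sylow subgroup of the stabilizer into `AS`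
  haveI : Finite (MulAut Q₁ × MulAut Q₂) := inferInstance
  set St' := St P' hP'1 hP'2 with hSt'
  obtain ⟨U⟩ : Nonempty (Sylow p St') := inferInstance
  have hASp : IsPGroup p AS := by
    rintro ⟨⟨a, b⟩, ha, hb⟩
    obtain ⟨i, hi⟩ := isPGroup_autInducedBy h₁ Q₁ ⟨a, ha⟩
    obtain ⟨j, hj⟩ := isPGroup_autInducedBy h₂ Q₂ ⟨b, hb⟩
    refine ⟨i + j, Subtype.ext (Prod.ext ?_ ?_)⟩
    · show a ^ p ^ (i + j) = 1
      rw [pow_add, pow_mul, show a ^ p ^ i = 1 from congrArg Subtype.val hi, one_pow]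
    · show b ^ p ^ (i + j) = 1
      rw [pow_add, mul_comm, pow_mul, show b ^ p ^ j = 1 from congrArg Subtype.val hj, one_pow]
  have hsyl : H48.IsSylowIn p AS A := by
    refine ⟨hASA, hASp, fun hd => ?_⟩
    have h1 := ((isFullyAutomized_iff h₁).1 hA₁).2
    have h2 := ((isFullyAutomized_iff h₂).1 hA₂).2
    set a₁ := autInducedBy S₁ Q₁
    set a₂ := autInducedBy S₂ Q₂
    have hc : ∀ {G : Type (max u v)} [Group G] {H K : Subgroup G}, H ≤ K →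
        Nat.card H * H.relIndex K = Nat.card K := fun {G} _ {H K} hle => by
      rw [← Nat.card_congr (Subgroup.subgroupOfEquivOfLe hle).toEquiv]
      exact (H.subgroupOf K).card_mul_index
    have e := hc hASA
    have e1 := (a₁.subgroupOf (F₁.autGroup Q₁)).card_mul_index
    have e2 := (a₂.subgroupOf (F₂.autGroup Q₂)).card_mul_index
    rw [Nat.card_congr (Subgroup.subgroupOfEquivOfLe (autInducedBy_le_autGroup F₁ hQ₁)).toEquiv] at e1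
    rw [Nat.card_congr (Subgroup.subgroupOfEquivOfLe (autInducedBy_le_autGroup F₂ hQ₂)).toEquiv] at e2
    rw [hA, hAS, Nat.card_congr (Subgroup.prodEquiv _ _).toEquiv, Nat.card_prod,
      Nat.card_congr (Subgroup.prodEquiv (F₁.autGroup Q₁) (F₂.autGroup Q₂)).toEquiv, Nat.card_prod,
      ← e1, ← e2, ← hA, ← hAS] at e
    have hrel : AS.relIndex A = a₁.relIndex (F₁.autGroup Q₁) * a₂.relIndex (F₂.autGroup Q₂) := by
      apply Nat.eq_of_mul_eq_mul_left (Nat.mul_pos (Nat.card_pos (α := a₁)) (Nat.card_pos (α := a₂)))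
      rw [e]
      show _ = _
      simp only [Subgroup.relIndex]
      ring
    rw [hrel] at hd
    rcases hp.out.dvd_mul.1 hd with h | h
    · exact h1 h
    · exact h2 h
  obtain ⟨α, hα, hαU⟩ := hsyl.exists_cj_le (U.isPGroup'.map St'.subtype)
    (fun a ha => by obtain ⟨b, -, rfl⟩ := ha; exact b.2.1)
  have hα1 : IsMap F₁ Q₁ (autMap α.1) := (isIso_autMap hQ₁ hα.1).isMap
  have hα2 : IsMap F₂ Q₂ (autMap α.2) := (isIso_autMap hQ₂ hα.2).isMap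
  have hαm : IsMap E P' (act α) := isMap_pair hE hm.imgSub_le (hα1.mono hP'1.le) (hα2.mono hP'2.le)
  set R := imgSub (act α) P' with hR
  have hR1 : prj₁ R = Q₁ := by
    refine le_antisymm ?_ fun y hy => ?_
    · rintro _ ⟨y, hy, rfl⟩
      obtain ⟨x, hx, rfl⟩ := hαm.mem_imgSub.1 hy
      exact autMap_mem _ (hP'1.le (mem_prj₁ hx))
    · obtain ⟨x, hx, hxe⟩ := hP'1.ge (autMap_mem α.1⁻¹ hy)
      refine ⟨_, hαm.mem_imgSub.2 ⟨x, hx, rfl⟩, ?_⟩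
      show autMap α.1 x.1 = y
      rw [show x.1 = autMap α.1⁻¹ y from hxe, autMap_inv_apply _ hy]
  have hR2 : prj₂ R = Q₂ := by
    refine le_antisymm ?_ fun y hy => ?_
    · rintro _ ⟨y, hy, rfl⟩
      obtain ⟨x, hx, rfl⟩ := hαm.mem_imgSub.1 hy
      exact autMap_mem _ (hP'2.le (mem_prj₂ hx))
    · obtain ⟨x, hx, hxe⟩ := hP'2.ge (autMap_mem α.2⁻¹ hy)
      refine ⟨_, hαm.mem_imgSub.2 ⟨x, hx, rfl⟩, ?_⟩
      show autMap α.2 x.2 = y
      rw [show x.2 = autMap α.2⁻¹ y from hxe, autMap_inv_apply _ hy]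
  have hRS : R ≤ S₁.prod S₂ := hαm.imgSub_le
  haveI := finite_of_le hRS
  haveI := finite_mulAut_of_le hRS
  refine ⟨R, isConj_trans hm.isIso.isConj hαm.isIso.isConj, ?_, ?_⟩
  · -- automizers
    set StR := St R hR1 hR2 with hStR
    have himgR : (R : Set (Ω₁ × Ω₂)) = act α '' P' := hαm.coe_imgSub
    have hconjSt : StR = H48.cj α St' := by
      refine le_antisymm (fun a ha => ?_) ?_
      · refine ⟨α⁻¹ * a * α, ⟨mul_mem (mul_mem (inv_mem hα) ha.1) hα, ?_⟩, by simp [mul_assoc]⟩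
        rw [Set.image_congr (fun x hx => (hact (α⁻¹ * a) α x (hP'1.le (mem_prj₁ hx))
          (hP'2.le (mem_prj₂ hx)))), ← Set.image_image (act (α⁻¹ * a)) (act α), ← himgR,
          Set.image_congr (fun x hx => (hact α⁻¹ a x (hR1.le (mem_prj₁ hx)) (hR2.le (mem_prj₂ hx)))),
          ← Set.image_image (act α⁻¹) (act a), ha.2, himgR, Set.image_image]
        refine (Set.image_congr fun x hx => ?_).trans (Set.image_id' _)
        rw [← hact α⁻¹ α x (hP'1.le (mem_prj₁ hx)) (hP'2.le (mem_prj₂ hx)), inv_mul_cancel]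
        exact hone x (hP'1.le (mem_prj₁ hx)) (hP'2.le (mem_prj₂ hx))
      · rintro _ ⟨a, ha, rfl⟩
        refine ⟨mul_mem (mul_mem hα ha.1) (inv_mem hα), ?_⟩
        show act (α * a * α⁻¹) '' (R : Set (Ω₁ × Ω₂)) = R
        rw [himgR, Set.image_image, Set.image_congr fun x hx => show act (α * a * α⁻¹) (act α x) =
          act α (act a x) by
            rw [← hact _ α x (hP'1.le (mem_prj₁ hx)) (hP'2.le (mem_prj₂ hx)), inv_mul_cancel_right,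
              hact α a x (hP'1.le (mem_prj₁ hx)) (hP'2.le (mem_prj₂ hx))],
          ← Set.image_image (act α) (act a), ha.2]
    have hmemR : ∀ a ∈ StR, ∀ x ∈ R, act a x ∈ R := fun a ha x hx => ha.2.le ⟨x, hx, rfl⟩
    have hex : ∀ a : StR, ∃ β : MulAut R, β ∈ E.autGroup R ∧
        ∀ x ∈ R, autMap β x = act (a : MulAut Q₁ × MulAut Q₂) x := fun a => by
      have hmap : IsMap E R (act (a : MulAut Q₁ × MulAut Q₂)) := isMap_pair hE hRS
        ((isIso_autMap hQ₁ a.2.1.1).isMap.mono hR1.le) ((isIso_autMap hQ₂ a.2.1.2).isMap.mono hR2.le)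
      exact (IsIso.mk hmap a.2.2).exists_aut
    choose ρ hρ hρv using hex
    let ρ' : StR →* E.autGroup R := MonoidHom.mk' (fun a => ⟨ρ a, hρ a⟩) fun a b =>
      Subtype.ext (aut_ext fun x hx => by
        show autMap (ρ (a * b)) x = autMap (ρ a * ρ b) x
        rw [autMap_mul _ _ hx, hρv _ x hx, hρv b x hx, hρv a _ (hmemR _ b.2 x hx), Subgroup.coe_mul]
        exact hact _ _ x (hR1.le (mem_prj₁ hx)) (hR2.le (mem_prj₂ hx)))
    have hsurj : Function.Surjective ρ' := by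
      rintro ⟨β, hβ⟩
      obtain ⟨-, g₁, g₂, hg₁, hg₂, hge⟩ := isMap_product hE (isIso_autMap hRS hβ).isMap
      have hm₁ : g₁ '' (Q₁ : Set Ω₁) = Q₁ := by
        refine (hg₁.mono hR1.ge).image_eq_of_mapsTo fun y hy => ?_
        obtain ⟨x, hx, rfl⟩ := hR1.ge hy
        have h := hR1.le (mem_prj₁ (autMap_mem β hx))
        rwa [hge x hx] at h
      have hm₂ : g₂ '' (Q₂ : Set Ω₂) = Q₂ := by
        refine (hg₂.mono hR2.ge).image_eq_of_mapsTo fun y hy => ?_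
        obtain ⟨x, hx, rfl⟩ := hR2.ge hy
        have h := hR2.le (mem_prj₂ (autMap_mem β hx))
        rwa [hge x hx] at h
      obtain ⟨a₁, ha₁, e₁⟩ := (IsIso.mk (hg₁.mono hR1.ge) hm₁).exists_aut
      obtain ⟨a₂, ha₂, e₂⟩ := (IsIso.mk (hg₂.mono hR2.ge) hm₂).exists_aut
      have he : ∀ x ∈ R, act (a₁, a₂) x = autMap β x := fun x hx => by
        rw [hge x hx]
        exact Prod.ext (e₁ _ (hR1.le (mem_prj₁ hx))) (e₂ _ (hR2.le (mem_prj₂ hx)))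
      have hmem : (a₁, a₂) ∈ StR := ⟨⟨ha₁, ha₂⟩, (Set.image_congr he).trans (image_autMap β)⟩
      exact ⟨⟨_, hmem⟩, Subtype.ext (aut_ext fun x hx => (hρv ⟨_, hmem⟩ x hx).trans (he x hx))⟩
    refine (isFullyAutomized_iff hS).2 ⟨hRS, fun hd => ?_⟩
    set B := AS.subgroupOf StR
    have hBmap : B.map ρ' ≤ (autInducedBy (S₁.prod S₂) R).subgroupOf (E.autGroup R) := by
      rintro _ ⟨a, ha, rfl⟩
      obtain ⟨k₁, hk₁, hn₁, e₁⟩ := mem_autInducedBy.1 (Subgroup.mem_subgroupOf.1 ha).1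
      obtain ⟨k₂, hk₂, hn₂, e₂⟩ := mem_autInducedBy.1 (Subgroup.mem_subgroupOf.1 ha).2
      have he : ∀ x ∈ R, act (a : MulAut Q₁ × MulAut Q₂) x = conjMap (k₁, k₂) x := fun x hx => by
        refine Prod.ext ?_ ?_
        · show autMap (a : MulAut Q₁ × MulAut Q₂).1 x.1 = _
          rw [e₁, autMap_conjAut hn₁ (hR1.le (mem_prj₁ hx))]
          rfl
        · show autMap (a : MulAut Q₁ × MulAut Q₂).2 x.2 = _
          rw [e₂, autMap_conjAut hn₂ (hR2.le (mem_prj₂ hx))]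
          rfl
      have hn : (k₁, k₂) ∈ Subgroup.normalizer (R : Set (Ω₁ × Ω₂)) :=
        mem_normalizer_of_maps fun x hx => by
          have h := hmemR _ a.2 x hx
          rwa [he x hx] at h
      refine Subgroup.mem_subgroupOf.2 (mem_autInducedBy.2 ⟨_, ⟨hk₁, hk₂⟩, hn, aut_ext fun x hx => ?_⟩)
      show autMap (ρ a) x = _
      rw [hρv a x hx, he x hx, autMap_conjAut hn hx]
    have hU : (U : Subgroup St').map St'.subtype ≤ St' := Subgroup.map_subtype_le _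
    have hBn : ¬ p ∣ B.index := by
      show ¬ p ∣ AS.relIndex StR
      rw [hconjSt]
      have hUS : H48.IsSylowIn p (H48.cj α ((U : Subgroup St').map St'.subtype)) (H48.cj α St') :=
        (H48.IsSylowIn.cj ⟨hU, U.isPGroup'.map _, by
          rw [Subgroup.relIndex, Subgroup.subgroupOf, Subgroup.comap_map_eq_self_of_injective
            St'.subtype_injective]
          exact U.not_dvd_index⟩ α)
      intro h
      exact hUS.3 (h.trans (Subgroup.relIndex_dvd_of_le_left _ hαU))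
    exact hBn (hd.trans ((Subgroup.index_dvd_of_le hBmap).trans (B.index_map_dvd hsurj)))
  · -- receptivity
    refine receptive_of_extend hRS fun A₀ f N hf hAN hN => ?_
    obtain ⟨hA₀, g₁, g₂, hg₁, hg₂, hge⟩ := isMap_product hE hf.isMap
    have hiso₁ : IsIso F₁ (prj₁ A₀) Q₁ g₁ := ⟨hg₁, by
      ext y
      constructor
      · rintro ⟨_, ⟨x, hx, rfl⟩, rfl⟩
        have h := hR1.le (mem_prj₁ (hf.mem hx))
        rwa [hge x hx] at h
      · intro hy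
        obtain ⟨z, hz, rfl⟩ := hR1.ge hy
        obtain ⟨x, hx, rfl⟩ := hf.exists_preimage hz
        exact ⟨x.1, mem_prj₁ hx, by rw [hge x hx]; rfl⟩⟩
    have hiso₂ : IsIso F₂ (prj₂ A₀) Q₂ g₂ := ⟨hg₂, by
      ext y
      constructor
      · rintro ⟨_, ⟨x, hx, rfl⟩, rfl⟩
        have h := hR2.le (mem_prj₂ (hf.mem hx))
        rwa [hge x hx] at h
      · intro hy
        obtain ⟨z, hz, rfl⟩ := hR2.ge hy
        obtain ⟨x, hx, rfl⟩ := hf.exists_preimage hz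
        exact ⟨x.2, mem_prj₂ hx, by rw [hge x hx]; rfl⟩⟩
    have hkey : ∀ x ∈ N, ∃ k ∈ S₁.prod S₂, ∀ y ∈ A₀,
        pairFun g₁ g₂ (x * y * x⁻¹) = k * pairFun g₁ g₂ y * k⁻¹ := fun x hx => by
      obtain ⟨-, hn, k, hk, he⟩ := (hN x).1 hx
      refine ⟨k, hk, fun y hy => ?_⟩
      rw [← hge y hy, ← hge _ ((Subgroup.mem_normalizer_iff.1 hn y).1 hy)]
      exact he y hy
    have hext₁ : ∀ z ∈ prj₁ N, InExt S₁ (prj₁ A₀) g₁ z := by
      rintro _ ⟨x, hx, rfl⟩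
      obtain ⟨hxS, hn, -⟩ := (hN x).1 hx
      obtain ⟨k, hk, he⟩ := hkey x hx
      refine ⟨hxS.1, Subgroup.le_normalizer_map _ ⟨x, hn, rfl⟩, k.1, hk.1, ?_⟩
      rintro _ ⟨y, hy, rfl⟩
      exact congrArg Prod.fst (he y hy)
    have hext₂ : ∀ z ∈ prj₂ N, InExt S₂ (prj₂ A₀) g₂ z := by
      rintro _ ⟨x, hx, rfl⟩
      obtain ⟨hxS, hn, -⟩ := (hN x).1 hx
      obtain ⟨k, hk, he⟩ := hkey x hx
      refine ⟨hxS.2, Subgroup.le_normalizer_map _ ⟨x, hn, rfl⟩, k.2, hk.2, ?_⟩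
      rintro _ ⟨y, hy, rfl⟩
      exact congrArg Prod.snd (he y hy)
    obtain ⟨G₁, hG₁, hG₁e⟩ := receptive_extend hR₁ hiso₁ hext₁
    obtain ⟨G₂, hG₂, hG₂e⟩ := receptive_extend hR₂ hiso₂ hext₂
    refine ⟨pairFun G₁ G₂, isMap_pair hE (fun x hx => ((hN x).1 hx).1) (hG₁.mono le_sup_left)
      (hG₂.mono le_sup_left), fun y hy => ?_⟩
    rw [hge y hy]
    exact Prod.ext (hG₁e _ (mem_prj₁ hy)) (hG₂e _ (mem_prj₂ hy))

end Cfsg.Agent.H49
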