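import Cfsg.Agent.H49.PStableFusion
import Cfsg.Agent.H48.Qd
import Mathlib

/-!
No family of isomorphism-invariant functors controls strong fusion in `Qd(p)`.
-/

set_option autoImplicit false
set_option linter.style.haveILetI false
set_option linter.unusedSectionVars false

namespace Cfsg.Agent.H49

open Subgroup
open Cfsg.Agent.H48
open scoped MatrixGroups

universe u

variable {p : ℕ} [hp : Fact p.Prime]

/-- The entry `(i, j)` of an element of `Qd(p)`. -/
def qdEnt (M : ↥(qd p)) (i j : Fin 3) : ZMod p :=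
  ((M : SL(3, ZMod p)) : Matrix (Fin 3) (Fin 3) (ZMod p)) i j

theorem qdEnt_mul (A B : ↥(qd p)) (i j : Fin 3) : qdEnt (A * B) i j =
    qdEnt A i 0 * qdEnt B 0 j + qdEnt A i 1 * qdEnt B 1 j + qdEnt A i 2 * qdEnt B 2 j := by
  simp [qdEnt, Matrix.mul_apply, Fin.sum_univ_three]

theorem qdEnt_last (A : ↥(qd p)) : qdEnt A 2 0 = 0 ∧ qdEnt A 2 1 = 0 ∧ qdEnt A 2 2 = 1 :=
  (mem_qd_iff _).mp A.2

theorem qdEnt_det (A : ↥(qd p)) : qdEnt A 0 0 * qdEnt A 1 1 - qdEnt A 0 1 * qdEnt A 1 0 = 1 := by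
  obtain ⟨h0, h1, h2⟩ := qdEnt_last A
  have h := (A : SL(3, ZMod p)).2
  rw [Matrix.det_fin_three] at h
  simp only [qdEnt] at h0 h1 h2 ⊢
  rw [h0, h1, h2] at h
  linear_combination h

theorem qdEnt_ext {A B : ↥(qd p)} (h : ∀ i j, qdEnt A i j = qdEnt B i j) : A = B :=
  Subtype.ext (Subtype.ext (Matrix.ext h))

/-- The element with upper unitriangular block `a` and translation `(x, y)`. -/
def qdUni (a x y : ZMod p) : ↥(qd p) :=
  ⟨⟨!![1, a, x; 0, 1, y; 0, 0, 1], by rw [Matrix.det_fin_three]; simp⟩, (mem_qd_iff _).mpr (by simp)⟩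

theorem qdUni_mul (a x y a' x' y' : ZMod p) :
    qdUni a x y * qdUni a' x' y' = qdUni (a + a') (x + x' + a * y') (y + y') := by
  refine qdEnt_ext fun i j => ?_
  rw [qdEnt_mul]
  fin_cases i <;> fin_cases j <;> simp [qdEnt, qdUni] <;> ring

theorem qdUni_zero : qdUni (0 : ZMod p) 0 0 = 1 := by
  refine qdEnt_ext fun i j => ?_
  fin_cases i <;> fin_cases j <;> simp [qdEnt, qdUni]

theorem qdEnt_uni (a x y : ZMod p) :
    qdEnt (qdUni a x y) 0 1 = a ∧ qdEnt (qdUni a x y) 0 2 = x ∧ qdEnt (qdUni a x y) 1 2 = y := by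
  simp [qdEnt, qdUni]

theorem qdUni_inj {a x y a' x' y' : ZMod p} (h : qdUni a x y = qdUni a' x' y') :
    a = a' ∧ x = x' ∧ y = y' := by
  refine ⟨?_, ?_, ?_⟩
  · simpa [qdEnt, qdUni] using congrArg (fun A => qdEnt A 0 1) h
  · simpa [qdEnt, qdUni] using congrArg (fun A => qdEnt A 0 2) h
  · simpa [qdEnt, qdUni] using congrArg (fun A => qdEnt A 1 2) h

/-- The unitriangular Sylow subgroup. -/
def qdTri (p : ℕ) [Fact p.Prime] : Subgroup ↥(qd p) where
  carrier := {A | ∃ a x y, A = qdUni a x y}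
  one_mem' := ⟨0, 0, 0, qdUni_zero.symm⟩
  mul_mem' := by
    rintro _ _ ⟨a, x, y, rfl⟩ ⟨a', x', y', rfl⟩
    exact ⟨_, _, _, qdUni_mul ..⟩
  inv_mem' := by
    rintro _ ⟨a, x, y, rfl⟩
    refine ⟨-a, -x + a * y, -y, inv_eq_of_mul_eq_one_right ?_⟩
    rw [qdUni_mul, ← qdUni_zero]
    congr 1 <;> ring

/-- Upper triangular block. -/
def qdBorel (p : ℕ) [Fact p.Prime] : Subgroup ↥(qd p) :=
  { carrier := {A | qdEnt A 1 0 = 0}
    one_mem' := by simp [qdEnt]
    mul_mem' := fun {A B} ha hb => by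
      simp only [Set.mem_setOf_eq] at ha hb ⊢
      rw [qdEnt_mul, ha, hb, (qdEnt_last B).1]; ring
    inv_mem' := fun {A} ha => by
      simp only [Set.mem_setOf_eq] at ha ⊢
      have h1 : qdEnt (A⁻¹ * A) 1 0 = 0 := by rw [inv_mul_cancel]; simp [qdEnt]
      rw [qdEnt_mul, ha, (qdEnt_last A).1] at h1
      have hd := qdEnt_det A
      rw [ha] at hd
      linear_combination (qdEnt A 1 1) * h1 - (qdEnt A⁻¹ 1 0) * hd }

theorem qdTri_isPGroup : IsPGroup p ↥(qdTri p) := by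
  have e : ↥(qdTri p) ≃ ZMod p × ZMod p × ZMod p :=
    (Equiv.ofBijective (fun t : ZMod p × ZMod p × ZMod p =>
      (⟨qdUni t.1 t.2.1 t.2.2, _, _, _, rfl⟩ : ↥(qdTri p))) ⟨fun s t h => by
        obtain ⟨h1, h2, h3⟩ := qdUni_inj (congrArg Subtype.val h)
        exact Prod.ext h1 (Prod.ext h2 h3), fun ⟨_, a, x, y, rfl⟩ => ⟨(a, x, y), rfl⟩⟩).symm
  refine IsPGroup.of_card (n := 3) ?_
  rw [Nat.card_congr e, Nat.card_prod, Nat.card_prod, Nat.card_zmod]
  ring

theorem qdTri_isMax {T : Subgroup ↥(qd p)} (hT : IsPGroup p T) (hle : qdTri p ≤ T) : T = qdTri p := by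
  by_contra hne
  have hlt := card_lt_card_inf_normalizer hT hle (Ne.symm hne)
  refine hlt.not_ge (Subgroup.card_le_of_le ?_)
  intro t ht
  -- `t` has upper triangular block
  have hb : t ∈ qdBorel p := by
    obtain ⟨a', x', y', e⟩ := (mem_normalizer_iff.mp ht.2 (qdUni 1 0 0)).mp ⟨1, 0, 0, rfl⟩
    have h1 := congrArg (fun A => qdEnt A 1 1) (mul_inv_eq_iff_eq_mul.mp e)
    simp only [qdEnt_mul, (qdEnt_last t).2.1] at h1
    simp [qdEnt, qdUni] at h1
    exact h1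
  have hpow : ∀ n : ℕ, qdEnt (t ^ n) 1 0 = 0 ∧ qdEnt (t ^ n) 0 0 = qdEnt t 0 0 ^ n := by
    intro n
    induction n with
    | zero => simp [qdEnt]
    | succ n ih =>
      refine ⟨pow_mem hb (n + 1), ?_⟩
      have hb' : qdEnt t 1 0 = 0 := hb
      rw [pow_succ t, qdEnt_mul, ih.2, hb', (qdEnt_last t).1]
      ring
  obtain ⟨k, hk⟩ := hT ⟨t, ht.1⟩
  have hk' : t ^ p ^ k = 1 := by simpa using congrArg Subtype.val hk
  have h00 : qdEnt t 0 0 = 1 := by
    have h1 := (hpow (p ^ k)).2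
    rw [hk', ZMod.pow_card_pow] at h1
    exact h1.symm.trans (by simp [qdEnt])
  have hb' : qdEnt t 1 0 = 0 := hb
  have h11 : qdEnt t 1 1 = 1 := by
    have := qdEnt_det t
    rw [h00, hb'] at this
    linear_combination this
  obtain ⟨l0, l1, l2⟩ := qdEnt_last t
  refine ⟨qdEnt t 0 1, qdEnt t 0 2, qdEnt t 1 2, qdEnt_ext fun i j => ?_⟩
  simp only [qdEnt] at h00 h11 hb' l0 l1 l2 ⊢
  fin_cases i <;> fin_cases j <;> simp [qdUni, h00, h11, hb', l0, l1, l2]

/-- Coordinates on the unitriangular subgroup and the exchange of its two maximal abelian subgroups. -/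
noncomputable def qdSwap : ↥(qdTri p) ≃* ↥(qdTri p) :=
  let f : ↥(qdTri p) → ↥(qdTri p) := fun t =>
    ⟨qdUni (qdEnt t.1 1 2) (qdEnt t.1 0 1 * qdEnt t.1 1 2 - qdEnt t.1 0 2) (qdEnt t.1 0 1), _, _, _, rfl⟩
  have hf : ∀ t, f (f t) = t := fun ⟨_, a, x, y, rfl⟩ => Subtype.ext (by
    refine qdEnt_ext fun i j => ?_
    fin_cases i <;> fin_cases j <;> simp [f, qdEnt, qdUni] <;> ring)
  { toFun := f
    invFun := f
    left_inv := hf
    right_inv := hf
    map_mul' := by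
      rintro ⟨_, a, x, y, rfl⟩ ⟨_, a', x', y', rfl⟩
      refine Subtype.ext ?_
      show qdUni _ _ _ = qdUni _ _ _ * qdUni _ _ _
      rw [Subgroup.coe_mul, qdUni_mul, qdUni_mul]
      simp only [(qdEnt_uni _ _ _).1, (qdEnt_uni _ _ _).2.1, (qdEnt_uni _ _ _).2.2]
      congr 1 <;> ring }

/-- A subgroup of the unitriangular subgroup invariant under the exchange has normalizer in the Borel
subgroup. -/
theorem normalizer_le_qdBorel {U : Subgroup ↥(qdTri p)} (hU : U ≠ ⊥)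
    (hσ : U.map (qdSwap (p := p)).toMonoidHom = U) :
    normalizer ((U.map (qdTri p).subtype : Subgroup ↥(qd p)) : Set ↥(qd p)) ≤ qdBorel p := by
  intro n hn
  have hconj : ∀ u ∈ U, ∃ a' x' y', ((qdUni a' x' y' ∈ U.map (qdTri p).subtype) ∧
      n * (u : ↥(qd p)) = qdUni a' x' y' * n) := by
    intro u hu
    have h1 := (mem_normalizer_iff.mp hn (u : ↥(qd p))).mp ⟨u, hu, rfl⟩
    obtain ⟨u', hu', e⟩ := h1
    obtain ⟨a', x', y', h'⟩ := u'.2
    refine ⟨a', x', y', ⟨u', hu', h'⟩, ?_⟩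
    rw [← h']
    exact (mul_inv_eq_iff_eq_mul.mp (e : ((u' : ↥(qd p))) = _).symm)
  obtain ⟨l0, l1, l2⟩ := qdEnt_last n
  simp only [qdEnt] at l0 l1 l2
  show qdEnt n 1 0 = 0
  by_cases hcase : ∃ u ∈ U, qdEnt (u : ↥(qd p)) 0 1 ≠ 0
  · obtain ⟨⟨_, a, x, y, rfl⟩, hu, ha⟩ := hcase
    obtain ⟨a', x', y', -, e⟩ := hconj _ hu
    have h1 := congrArg (fun A => qdEnt A 1 1) e
    simp only [qdEnt_mul] at h1
    simp [qdEnt, qdUni, l1] at h1 ha ⊢
    exact h1.resolve_right ha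
  · push Not at hcase
    have hy : ∀ u ∈ U, qdEnt (u : ↥(qd p)) 1 2 = 0 := fun u hu => by
      have := hcase (qdSwap u) (hσ ▸ ⟨u, hu, rfl⟩)
      simpa [qdSwap, qdEnt, qdUni] using this
    obtain ⟨⟨_, a, x, y, rfl⟩, hu, hne⟩ := U.bot_or_exists_ne_one.resolve_left hU
    have ha := hcase _ hu
    have hy0 := hy _ hu
    simp [qdEnt, qdUni] at ha hy0
    subst ha hy0
    obtain ⟨a', x', y', ⟨u', hu', h'⟩, e⟩ := hconj _ hu
    have hy' := hy u' hu'
    rw [show (u' : ↥(qd p)) = qdUni a' x' y' from h'] at hy'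
    simp [qdEnt, qdUni] at hy'
    have h1 := congrArg (fun A => qdEnt A 1 2) e
    simp only [qdEnt_mul] at h1
    simp [qdEnt, qdUni, l2, hy'] at h1
    refine h1.resolve_right fun hx => hne (Subtype.ext ?_)
    rw [hx]
    exact qdUni_zero

/-- No family of isomorphism-invariant functors controls strong fusion in `Qd(p)`. -/
theorem not_sfc_qd {M : Type u} [Group M] [Finite M] (e : M ≃* ↥(qd p))
    {𝓦 : Set (∀ (Q : Type u) [Group Q], Subgroup Q)} (h𝓦 : ∀ W ∈ 𝓦, IsCharPFunctor.{u} p W) :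
    ¬ SFC 𝓦 p M := by
  intro hctl
  set T : Subgroup M := (qdTri p).map e.symm.toMonoidHom with hT
  have hTp : IsPGroup p T := qdTri_isPGroup.map _
  obtain ⟨S, hS⟩ := hTp.exists_le_sylow
  have hST : (S : Subgroup M) = T := by
    have h1 := qdTri_isMax (T := (S : Subgroup M).map e.toMonoidHom) (S.isPGroup'.map _) (by
      refine le_trans (le_of_eq ?_) (Subgroup.map_mono hS)
      rw [hT, Subgroup.map_map]
      ext x
      simp)
    rw [hT, ← h1, Subgroup.map_map]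
    ext x
    simp
  have hin : ∀ t : ↥(qdTri p), e.symm (t : ↥(qd p)) ∈ T := fun t => ⟨t, t.2, rfl⟩
  set z : ↥(qd p) := qdUni 0 1 0 with hz
  set g : ↥(qd p) := ⟨⟨!![0, -1, 0; 1, 0, 0; 0, 0, 1], by rw [Matrix.det_fin_three]; simp⟩,
    (mem_qd_iff _).mpr (by simp)⟩ with hg
  have hgz : g * z * g⁻¹ = qdUni 0 0 1 := by
    rw [mul_inv_eq_iff_eq_mul]
    refine qdEnt_ext fun i j => ?_
    rw [qdEnt_mul, qdEnt_mul]
    fin_cases i <;> fin_cases j <;> simp [qdEnt, qdUni, hz, hg]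
  obtain ⟨m, hm, he⟩ := hctl S {e.symm z} (e.symm g)
    (by rw [hST]; rintro _ rfl; exact hin ⟨z, 0, 1, 0, rfl⟩) (by
      rw [hST]; rintro _ ⟨_, rfl, rfl⟩
      show e.symm g * e.symm z * (e.symm g)⁻¹ ∈ T
      rw [← map_inv, ← map_mul, ← map_mul, hgz]
      exact hin ⟨_, 0, 0, 1, rfl⟩)
  have hsteps : ∀ x ∈ stepSet 𝓦 (S : Subgroup M), e x ∈ qdBorel p := by
    rintro x ⟨W, hW, hx⟩
    rw [hST] at hx
    obtain ⟨i, hi⟩ : ∃ i : ↥(qdTri p) ≃* ↥T, ∀ a, ((i a : ↥T) : M) = e.symm (a : ↥(qd p)) :=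
      ⟨e.symm.subgroupMap (qdTri p), fun a => rfl⟩
    set U : Subgroup ↥(qdTri p) := (W ↥T).comap i.toMonoidHom with hU
    have hinv : ∀ φ : ↥T ≃* ↥T, (W ↥T).map φ.toMonoidHom = W ↥T := fun φ =>
      (h𝓦 W hW).2 ↥T ↥T hTp φ
    have hUne : U ≠ ⊥ := fun hb => by
      haveI : Nontrivial ↥T := (nontrivial_iff_ne_bot T).mpr fun hTb => by
        have h1 : e.symm z = 1 := mem_bot.mp (hTb ▸ hin ⟨z, 0, 1, 0, rfl⟩)
        rw [map_eq_one_iff _ e.symm.injective, ← qdUni_zero] at h1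
        exact one_ne_zero (qdUni_inj h1).2.1
      refine (h𝓦 W hW).1 ↥T hTp inferInstance ?_
      rw [← map_comap_eq_self_of_surjective (f := i.toMonoidHom) i.surjective (W ↥T), ← hU, hb,
        Subgroup.map_bot]
    have hmapU : U.map i.toMonoidHom = W ↥T :=
      map_comap_eq_self_of_surjective (f := i.toMonoidHom) i.surjective _
    have hσ : U.map (qdSwap (p := p)).toMonoidHom = U := by
      apply Subgroup.map_injective (f := i.toMonoidHom) i.injective
      rw [hmapU]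
      conv_rhs => rw [← hinv ((i.symm.trans qdSwap).trans i), ← hmapU]
      rw [Subgroup.map_map, Subgroup.map_map]
      congr 1
      refine MonoidHom.ext fun a => ?_
      show i (qdSwap a) = i (qdSwap (i.symm (i a)))
      rw [i.symm_apply_apply]
    refine normalizer_le_qdBorel hUne hσ ?_
    have e1 : U.map (qdTri p).subtype = (inducedFunctor W T).map e.toMonoidHom := by
      rw [inducedFunctor, ← hmapU, Subgroup.map_map, Subgroup.map_map]
      congr 1
      refine MonoidHom.ext fun a => ?_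
      show (a : ↥(qd p)) = e ((i a : ↥T) : M)
      rw [hi, e.apply_symm_apply]
    rw [e1]
    exact le_normalizer_map e.toMonoidHom ⟨x, hx, rfl⟩
  have hall : ∀ {A : Set M} {k : M},
      Steps (stepSet 𝓦 (S : Subgroup M)) ((S : Subgroup M) : Set M) A k → e k ∈ qdBorel p := by
    intro A k hk
    induction hk with
    | nil A _ => rw [map_one]; exact one_mem _
    | cons A x k _ hx _ ih => rw [map_mul]; exact mul_mem ih (hsteps x hx)
  have hmem : e m ∈ qdBorel p := hall hm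
  have h1 := congrArg e (he (e.symm z) rfl)
  simp only [map_mul, map_inv, MulEquiv.apply_symm_apply, hgz] at h1
  have h2 := congrArg (fun A => qdEnt A 1 2) (mul_inv_eq_iff_eq_mul.mp h1)
  simp only [qdEnt_mul] at h2
  have hb : qdEnt (e m) 1 0 = 0 := hmem
  obtain ⟨l0, l1, l2⟩ := qdEnt_last (e m)
  simp only [qdEnt] at hb l0 l1 l2
  simp [qdEnt, qdUni, hz, hb, l2] at h2

end Cfsg.Agent.H49
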