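import Cfsg.Prelude.Def_EvenType
import Cfsg.Agent.Thompson.SL2
import Mathlib

/-!
Automorphism groups of groups of order `p²` with more than one Sylow `p`-subgroup.
-/

set_option autoImplicit false
set_option linter.unusedSectionVars false
set_option linter.style.haveILetI false

namespace Cfsg.Agent.H49

open Subgroup
open scoped MatrixGroups

variable {p : ℕ} [hp : Fact p.Prime]

theorem pow_val_add {V : Type*} [Group V] {e : V} (he : e ^ p = 1) (a b : ZMod p) :
    e ^ (a + b).val = e ^ a.val * e ^ b.val := by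
  rw [← pow_add, ZMod.val_add, ← pow_eq_pow_mod _ he]

theorem pow_val_mul {V : Type*} [Group V] {e : V} (he : e ^ p = 1) (a b : ZMod p) :
    e ^ (a * b).val = (e ^ a.val) ^ b.val := by
  rw [← pow_mul, ZMod.val_mul, ← pow_eq_pow_mod _ he]

/-- A strongly `p`-embedded subgroup gives two Sylow subgroups. -/
theorem exists_two_sylow {X : Type*} [Group X] [Finite X] (E : Subgroup X)
    (h : Cfsg.IsStronglyPEmbedded p E) : ∃ P P' : Sylow p X, P ≠ P' := by
  obtain ⟨hdvd, hne, P, hP⟩ := h
  by_contra hcon
  push Not at hcon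
  have hn : (P : Subgroup X).Normal := by
    haveI : Subsingleton (Sylow p X) := ⟨fun a b => hcon a b⟩
    exact P.normal_of_subsingleton
  refine hne (eq_top_iff.2 ?_)
  have hrk : ¬ Cfsg.PRankLE p (1 - 1) (P : Subgroup X) := by
    intro hle
    obtain ⟨x, hx⟩ := exists_prime_orderOf_dvd_card' (G := (P : Subgroup X)) p
      (P.dvd_card_of_dvd_card hdvd)
    have := hle (zpowers x) inferInstance (fun a ha => by
      obtain ⟨i, rfl⟩ := ha
      rw [← zpow_natCast, ← zpow_mul, mul_comm, zpow_mul, zpow_natCast,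
        orderOf_dvd_iff_pow_eq_one.1 hx.dvd, one_zpow])
    rw [Nat.card_zpowers, hx] at this
    simp at this
    exact absurd this (not_le.2 hp.out.one_lt)
  refine le_trans (le_trans ?_ (le_iSup (fun Q : {Q : Subgroup X // Q ≤ (P : Subgroup X) ∧
    ¬ Cfsg.PRankLE p (1 - 1) Q} => normalizer ((Q : Subgroup X) : Set X)) ⟨P, le_rfl, hrk⟩)) hP
  exact (Subgroup.normalizer_eq_top (H := (P : Subgroup X))).ge

variable {V : Type*} [Group V] [Finite V]

theorem exists_fixed_line (hV : Nat.card V = p ^ 2) (T : Subgroup (MulAut V)) (hT : IsPGroup p T) :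
    ∃ e : V, e ≠ 1 ∧ ∀ t ∈ T, t e = e := by
  have hdvd : p ∣ Nat.card V := by rw [hV]; exact dvd_pow_self p two_ne_zero
  let _ : MulAction T V := MulAction.compHom V T.subtype
  have h1 : (1 : V) ∈ MulAction.fixedPoints T V := fun t => map_one (t : MulAut V)
  obtain ⟨e, he, hne⟩ := hT.exists_fixed_point_of_prime_dvd_card_of_fixed_point V hdvd h1
  exact ⟨e, hne.symm, fun t ht => he ⟨t, ht⟩⟩

/-- In a group of order `p²` and exponent `p`, `p`-automorphisms fixing `e` are transvections. -/
theorem transvection_of_pGroup (hV : Nat.card V = p ^ 2) (he' : ∀ v : V, v ^ p = 1) {e : V} (he : e ≠ 1)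
    {t : MulAut V} (hte : t e = e) (ht : ∃ k, t ^ p ^ k = 1) :
    ∀ v, v⁻¹ * t v ∈ zpowers e := by
  haveI : IsMulCommutative V := IsPGroup.isMulCommutative_of_card_eq_prime_sq hV
  set Z := zpowers e
  have hZc : Nat.card Z = p := by
    rw [Nat.card_zpowers]
    exact orderOf_eq_prime (he' e) he
  have hq : Nat.card (V ⧸ Z) = p := by
    have h := Z.card_eq_card_quotient_mul_card_subgroup
    rw [hV, hZc, sq] at h
    exact (Nat.eq_of_mul_eq_mul_right hp.out.pos h).symm
  have hmap : Z.map (t : V ≃* V).toMonoidHom = Z := by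
    rw [MonoidHom.map_zpowers]
    exact congrArg zpowers hte
  let tq : MulAut (V ⧸ Z) := QuotientGroup.congr Z Z (t : V ≃* V) hmap
  have hcomm : ∀ (n : ℕ) (v : V), (tq ^ n) (QuotientGroup.mk v) = QuotientGroup.mk ((t ^ n) v) := by
    intro n
    induction n with
    | zero => intro v; rfl
    | succ n ih =>
      intro v
      rw [pow_succ', pow_succ', MulAut.mul_apply, MulAut.mul_apply, ih]
      rfl
  obtain ⟨k, hk⟩ := ht
  have hone : tq = 1 := by
    have h1 : tq ^ p ^ k = 1 := MulEquiv.ext fun x => by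
      obtain ⟨v, rfl⟩ := QuotientGroup.mk_surjective x
      rw [hcomm, hk]
      rfl
    haveI : IsCyclic (V ⧸ Z) := isCyclic_of_prime_card hq
    have h2 : Nat.card (MulAut (V ⧸ Z)) = p - 1 := by
      rw [IsCyclic.card_mulAut, hq, Nat.totient_prime hp.out]
    refine orderOf_eq_one_iff.1 (Nat.eq_one_of_dvd_coprimes ?_ (orderOf_dvd_of_pow_eq_one h1)
      (h2 ▸ orderOf_dvd_natCard tq))
    refine Nat.Coprime.pow_left k (hp.out.coprime_iff_not_dvd.2 fun hd => ?_)
    have := Nat.le_of_dvd (Nat.sub_pos_of_lt hp.out.one_lt) hd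
    have := hp.out.two_le
    omega
  intro v
  have h := hcomm 1 v
  rw [pow_one, pow_one, hone, MulAut.one_apply] at h
  exact QuotientGroup.eq.1 h

/-- The automorphisms fixing `e` and acting trivially modulo `⟨e⟩`. -/
def transvections (e : V) : Subgroup (MulAut V) where
  carrier := {t | t e = e ∧ ∀ v, v⁻¹ * t v ∈ zpowers e}
  one_mem' := ⟨rfl, fun v => by simp⟩
  mul_mem' := fun {a b} ha hb => ⟨by rw [MulAut.mul_apply, hb.1, ha.1], fun v => by
    rw [MulAut.mul_apply, show v⁻¹ * a (b v) = (v⁻¹ * b v) * ((b v)⁻¹ * a (b v)) by group]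
    exact mul_mem (hb.2 v) (ha.2 _)⟩
  inv_mem' := fun {a} ha => ⟨by rw [MulAut.inv_def, MulEquiv.symm_apply_eq, ha.1], fun v => by
    have h := ha.2 (a⁻¹ v)
    rw [show a (a⁻¹ v) = v from MulAut.apply_inv_self _ _ v] at h
    simpa using inv_mem h⟩

theorem isPGroup_transvections (he' : ∀ v : V, v ^ p = 1) (e : V) :
    IsPGroup p (transvections e) := fun ⟨t, hte, htv⟩ => ⟨1, Subtype.ext (MulEquiv.ext fun v => by
    obtain ⟨i, hi⟩ := htv v
    have hpow : ∀ n : ℕ, (t ^ n) v = v * (e ^ i) ^ n := by
      intro n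
      induction n with
      | zero => simp
      | succ n ih =>
        rw [pow_succ', MulAut.mul_apply, ih, map_mul, map_pow, map_zpow, hte, pow_succ', ← mul_assoc]
        congr 1
        rw [show e ^ i = v⁻¹ * t v from hi, mul_inv_cancel_left]
    rw [pow_one]
    show (t ^ p) v = v
    rw [hpow, he', mul_one])⟩

/-- Two Sylow subgroups of automorphisms of an elementary group of order `p²` leave no line invariant. -/
theorem no_invariant_line (hV : Nat.card V = p ^ 2) (he' : ∀ v : V, v ^ p = 1)
    (A : Subgroup (MulAut V)) (P P' : Sylow p A) (hne : P ≠ P') (L : Subgroup V)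
    (hL : Nat.card L = p) (hinv : ∀ a ∈ A, ∀ x ∈ L, a x ∈ L) : False := by
  haveI : Finite (MulAut V) :=
    Finite.of_injective (fun a : MulAut V => ((a : V ≃* V) : V → V)) DFunLike.coe_injective
  haveI : Nontrivial L := Finite.one_lt_card_iff_nontrivial.1 (hL ▸ hp.out.one_lt)
  obtain ⟨e, he⟩ := exists_ne (1 : L)
  have he1 : (e : V) ≠ 1 := fun h => he (Subtype.ext h)
  have hle : ∀ Q : Sylow p A, (Q : Subgroup A) ≤ (transvections (e : V)).subgroupOf A := by
    intro Q a ha
    let _ : MulAction (Q : Subgroup A) L :=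
      { smul := fun t x => ⟨((t : A) : MulAut V) x, hinv _ (t : A).2 _ x.2⟩
        one_smul := fun x => rfl
        mul_smul := fun s t x => rfl }
    have h1 : (1 : L) ∈ MulAction.fixedPoints (Q : Subgroup A) L :=
      fun t => Subtype.ext (map_one ((t : A) : MulAut V))
    obtain ⟨c, hc, hc1⟩ := Q.isPGroup'.exists_fixed_point_of_prime_dvd_card_of_fixed_point L
      (dvd_of_eq hL.symm) h1
    have hz : (e : V) ∈ zpowers (c : V) := by
      obtain ⟨i, hi⟩ := mem_zpowers_iff.1 (show e ∈ zpowers c from
        mem_zpowers_of_prime_card hL hc1.symm)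
      exact ⟨i, congrArg Subtype.val hi⟩
    have hfix : (a : MulAut V) e = e := by
      obtain ⟨i, hi⟩ := mem_zpowers_iff.1 hz
      rw [← hi, map_zpow, show (a : MulAut V) c = c from congrArg Subtype.val (hc ⟨a, ha⟩)]
    obtain ⟨k, hk⟩ := Q.isPGroup' ⟨a, ha⟩
    exact ⟨hfix, transvection_of_pGroup hV he' he1 hfix
      ⟨k, congrArg (fun x : (Q : Subgroup A) => ((x : A) : MulAut V)) hk⟩⟩
  have hp' := (isPGroup_transvections he' (e : V)).comap_of_injective A.subtype A.subtype_injective
  exact hne (Sylow.ext ((P.is_maximal' hp' (hle P)).symm.trans (P'.is_maximal' hp' (hle P'))))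

/-- Two Sylow subgroups of a group of automorphisms of an elementary group of order `p²` give `SL₂(p)`. -/
theorem exists_SL2_of_two_sylow (hV : Nat.card V = p ^ 2) (he' : ∀ v : V, v ^ p = 1)
    (A : Subgroup (MulAut V)) (P P' : Sylow p A) (hne : P ≠ P') :
    ∃ K : Subgroup A, Nonempty (K ≃* Matrix.SpecialLinearGroup (Fin 2) (ZMod p)) := by
  haveI : IsMulCommutative V := IsPGroup.isMulCommutative_of_card_eq_prime_sq hV
  haveI : Finite (MulAut V) :=
    Finite.of_injective (fun a : MulAut V => ((a : V ≃* V) : V → V)) DFunLike.coe_injective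
  obtain ⟨e, he, hPe⟩ := exists_fixed_line hV ((P : Subgroup A).map A.subtype) (P.isPGroup'.map _)
  obtain ⟨f, hf, hPf⟩ := exists_fixed_line hV ((P' : Subgroup A).map A.subtype) (P'.isPGroup'.map _)
  have hpel : ∀ (Q : Sylow p A) (a : A), a ∈ (Q : Subgroup A) → ∃ k, (a : MulAut V) ^ p ^ k = 1 :=
    fun Q a ha => by
      obtain ⟨k, hk⟩ := Q.isPGroup' ⟨a, ha⟩
      exact ⟨k, congrArg (fun x : (Q : Subgroup A) => ((x : A) : MulAut V)) hk⟩
  set Te := transvections e with hTe
  have hTp : IsPGroup p Te := isPGroup_transvections he' e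
  have hef : f ∉ zpowers e := by
    intro hfe
    refine hne ?_
    have hP'e : ∀ t ∈ (P' : Subgroup A).map A.subtype, t e = e := by
      intro t ht
      obtain ⟨i, hi⟩ := hfe
      have he2 : e ∈ zpowers f := by
        have h1 : zpowers f = zpowers e := by
          refine Subgroup.eq_of_le_of_card_ge (zpowers_le.2 ⟨i, hi⟩) ?_
          rw [Nat.card_zpowers, Nat.card_zpowers, orderOf_eq_prime (he' e) he,
            orderOf_eq_prime (he' f) hf]
        exact h1 ▸ mem_zpowers e
      obtain ⟨j, rfl⟩ := he2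
      rw [map_zpow, hPf t ht]
    have h1 : (P : Subgroup A) ≤ Te.subgroupOf A := fun a ha => ⟨hPe _ ⟨a, ha, rfl⟩,
      transvection_of_pGroup hV he' he (hPe _ ⟨a, ha, rfl⟩) (hpel P a ha)⟩
    have h2 : (P' : Subgroup A) ≤ Te.subgroupOf A := fun a ha => ⟨hP'e _ ⟨a, ha, rfl⟩,
      transvection_of_pGroup hV he' he (hP'e _ ⟨a, ha, rfl⟩) (hpel P' a ha)⟩
    have hp' := hTp.comap_of_injective A.subtype A.subtype_injective
    exact Sylow.ext ((P.is_maximal' hp' h1).symm.trans (P'.is_maximal' hp' h2))
  have hfe : e ∉ zpowers f := by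
    intro h
    refine hef ?_
    have h1 : zpowers e = zpowers f := by
      refine Subgroup.eq_of_le_of_card_ge (zpowers_le.2 h) ?_
      rw [Nat.card_zpowers, Nat.card_zpowers, orderOf_eq_prime (he' e) he,
        orderOf_eq_prime (he' f) hf]
    exact h1 ▸ mem_zpowers f
  -- coordinates
  let ψ : Multiplicative (ZMod p × ZMod p) →* V := MonoidHom.mk'
    (fun x => e ^ (Multiplicative.toAdd x).1.val * f ^ (Multiplicative.toAdd x).2.val) fun a b => by
      show e ^ (_ + _ : ZMod p).val * f ^ (_ + _ : ZMod p).val = _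
      rw [pow_val_add (he' e), pow_val_add (he' f)]
      rw [mul_assoc, mul_assoc, ← mul_assoc (e ^ _) (f ^ _), mul_comm' (e ^ _) (f ^ _), mul_assoc]
  have hψe : ψ (Multiplicative.ofAdd (1, 0)) = e := by
    show e ^ (1 : ZMod p).val * f ^ (0 : ZMod p).val = e
    rw [ZMod.val_one, ZMod.val_zero, pow_one, pow_zero, mul_one]
  have hψf : ψ (Multiplicative.ofAdd (0, 1)) = f := by
    show e ^ (0 : ZMod p).val * f ^ (1 : ZMod p).val = f
    rw [ZMod.val_one, ZMod.val_zero, pow_one, pow_zero, one_mul]
  have hψ : Function.Surjective ψ := by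
    rw [← MonoidHom.range_eq_top]
    have hle : zpowers e < ψ.range := by
      refine SetLike.lt_iff_le_and_exists.2
        ⟨zpowers_le.2 (MonoidHom.mem_range.2 ⟨_, hψe⟩), f, MonoidHom.mem_range.2 ⟨_, hψf⟩, hef⟩
    have hd : Nat.card ψ.range ∣ p ^ 2 := hV ▸ card_subgroup_dvd_card _
    obtain ⟨i, hi, hc⟩ := (Nat.dvd_prime_pow hp.out).1 hd
    have hlt : p < Nat.card ψ.range := by
      by_contra hle'
      refine hle.ne (Subgroup.eq_of_le_of_card_ge hle.le ?_)
      rw [Nat.card_zpowers, orderOf_eq_prime (he' e) he]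
      exact not_lt.1 hle'
    refine Subgroup.eq_top_of_card_eq _ ?_
    interval_cases i
    · rw [hc, pow_zero] at hlt; exact absurd hlt (not_lt.2 hp.out.pos)
    · rw [hc, pow_one] at hlt; exact absurd hlt (lt_irrefl _)
    · rw [hc, hV]
  have hψb : Function.Bijective ψ :=
    (Nat.bijective_iff_surjective_and_card ψ).2 ⟨hψ, by
      rw [hV, Nat.card_congr Multiplicative.toAdd, Nat.card_prod, Nat.card_zmod, sq]⟩
  let eq : Multiplicative (ZMod p × ZMod p) ≃* V := MulEquiv.ofBijective ψ hψb
  let act : SL(2, ZMod p) →* MulAut (Multiplicative (ZMod p × ZMod p)) :=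
    { toFun := fun M =>
        { toFun := fun x => Multiplicative.ofAdd
            (M 0 0 * (Multiplicative.toAdd x).1 + M 0 1 * (Multiplicative.toAdd x).2,
              M 1 0 * (Multiplicative.toAdd x).1 + M 1 1 * (Multiplicative.toAdd x).2)
          invFun := fun x => Multiplicative.ofAdd
            (M⁻¹ 0 0 * (Multiplicative.toAdd x).1 + M⁻¹ 0 1 * (Multiplicative.toAdd x).2,
              M⁻¹ 1 0 * (Multiplicative.toAdd x).1 + M⁻¹ 1 1 * (Multiplicative.toAdd x).2)
          left_inv := fun x => by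
            have hd := Thompson.sl_det_eq M
            refine Multiplicative.toAdd.injective (Prod.ext ?_ ?_) <;>
              simp [Matrix.SpecialLinearGroup.coe_inv, Matrix.adjugate_fin_two] <;>
              first
              | linear_combination (Multiplicative.toAdd x).1 * hd
              | linear_combination (Multiplicative.toAdd x).2 * hd
          right_inv := fun x => by
            have hd := Thompson.sl_det_eq M
            refine Multiplicative.toAdd.injective (Prod.ext ?_ ?_) <;>
              simp [Matrix.SpecialLinearGroup.coe_inv, Matrix.adjugate_fin_two] <;>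
              first
              | linear_combination (Multiplicative.toAdd x).1 * hd
              | linear_combination (Multiplicative.toAdd x).2 * hd
          map_mul' := fun x y => Multiplicative.toAdd.injective (Prod.ext
            (by simp; ring) (by simp; ring)) }
      map_one' := MulEquiv.ext fun x => Multiplicative.toAdd.injective (Prod.ext (by simp) (by simp))
      map_mul' := fun M N => MulEquiv.ext fun x => Multiplicative.toAdd.injective (Prod.ext
        (by simp [Thompson.sl_mul_apply]; ring) (by simp [Thompson.sl_mul_apply]; ring)) }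
  let Φ : SL(2, ZMod p) →* MulAut V := (MulAut.congr eq).toMonoidHom.comp act
  have hΦ : ∀ (M : SL(2, ZMod p)) x, Φ M (eq x) = eq (act M x) := fun M x => by
    show eq (act M (eq.symm (eq x))) = _
    rw [MulEquiv.symm_apply_apply]
  have hΦinj : Function.Injective Φ := by
    refine (MulAut.congr eq).injective.comp fun M N h => ?_
    have h1 := congrArg Multiplicative.toAdd
      (congrFun (congrArg DFunLike.coe h) (Multiplicative.ofAdd ((1 : ZMod p), (0 : ZMod p))))
    have h2 := congrArg Multiplicative.toAdd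
      (congrFun (congrArg DFunLike.coe h) (Multiplicative.ofAdd ((0 : ZMod p), (1 : ZMod p))))
    simp [act, Prod.ext_iff] at h1 h2
    exact Thompson.sl2_ext h1.1 h2.1 h1.2 h2.2
  -- the two transvections
  obtain ⟨a, ha, ha1⟩ : ∃ a ∈ (P : Subgroup A), (a : MulAut V) ≠ 1 := by
    by_contra h
    push Not at h
    refine hne (Sylow.ext (P.is_maximal' P'.isPGroup' fun a ha => ?_).symm)
    rw [show a = 1 from Subtype.ext (h a ha)]
    exact one_mem _
  obtain ⟨b, hb, hb1⟩ : ∃ b ∈ (P' : Subgroup A), (b : MulAut V) ≠ 1 := by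
    by_contra h
    push Not at h
    refine hne (Sylow.ext (P'.is_maximal' P.isPGroup' fun a ha => ?_))
    rw [show a = 1 from Subtype.ext (h a ha)]
    exact one_mem _
  have hae := hPe _ ⟨a, ha, rfl⟩
  have hbf := hPf _ ⟨b, hb, rfl⟩
  obtain ⟨s, hs⟩ := mem_zpowers_iff.1 (transvection_of_pGroup hV he' he hae (hpel P a ha) f)
  obtain ⟨t, ht⟩ := mem_zpowers_iff.1 (transvection_of_pGroup hV he' hf hbf (hpel P' b hb) e)
  have hzp : ∀ (u : V) (i : ℤ), u ^ i = u ^ ((i : ZMod p)).val := fun u i => by
    rw [← zpow_natCast, ZMod.val_intCast, ← zpow_eq_zpow_emod' _ (he' u)]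
  have hext : ∀ α β : MulAut V, α e = β e → α f = β f → α = β := fun α β h1 h2 =>
    MulEquiv.ext fun v => by
      obtain ⟨x, rfl⟩ := hψ v
      show α (e ^ _ * f ^ _) = β (e ^ _ * f ^ _)
      rw [map_mul, map_mul, map_pow, map_pow, map_pow, map_pow, h1, h2]
  have hcomm : ∀ u v : V, u * v = v * u := fun u v => mul_comm' u v
  have hup : Φ (Thompson.up (s : ZMod p)) = a := by
    refine hext _ _ ?_ ?_
    · rw [show e = eq (Multiplicative.ofAdd (1, 0)) from hψe.symm, hΦ]
      show ψ _ = (a : MulAut V) (ψ _)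
      rw [show act (Thompson.up (s : ZMod p)) (Multiplicative.ofAdd (1, 0)) =
        Multiplicative.ofAdd (1, 0) from Multiplicative.toAdd.injective (by simp [act, Thompson.up_coe]),
        hψe]
      exact hae.symm
    · rw [show f = eq (Multiplicative.ofAdd (0, 1)) from hψf.symm, hΦ]
      show ψ _ = (a : MulAut V) (ψ _)
      rw [show act (Thompson.up (s : ZMod p)) (Multiplicative.ofAdd (0, 1)) =
        Multiplicative.ofAdd ((s : ZMod p), 1) from
          Multiplicative.toAdd.injective (by simp [act, Thompson.up_coe]), hψf]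
      show e ^ (s : ZMod p).val * f ^ (1 : ZMod p).val = _
      rw [ZMod.val_one, pow_one, ← hzp, hs, hcomm, mul_inv_cancel_left]
      rfl
  have hlow : Φ (Thompson.low (t : ZMod p)) = b := by
    refine hext _ _ ?_ ?_
    · rw [show e = eq (Multiplicative.ofAdd (1, 0)) from hψe.symm, hΦ]
      show ψ _ = (b : MulAut V) (ψ _)
      rw [show act (Thompson.low (t : ZMod p)) (Multiplicative.ofAdd (1, 0)) =
        Multiplicative.ofAdd (1, (t : ZMod p)) from
          Multiplicative.toAdd.injective (by simp [act, Thompson.low_coe]), hψe]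
      show e ^ (1 : ZMod p).val * f ^ (t : ZMod p).val = _
      rw [ZMod.val_one, pow_one, ← hzp, ht, mul_inv_cancel_left]
      rfl
    · rw [show f = eq (Multiplicative.ofAdd (0, 1)) from hψf.symm, hΦ]
      show ψ _ = (b : MulAut V) (ψ _)
      rw [show act (Thompson.low (t : ZMod p)) (Multiplicative.ofAdd (0, 1)) =
        Multiplicative.ofAdd (0, 1) from Multiplicative.toAdd.injective (by simp [act, Thompson.low_coe]),
        hψf]
      exact hbf.symm
  have hs0 : (s : ZMod p) ≠ 0 := fun h => ha1 (by rw [← hup, h, Thompson.up_zero, map_one])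
  have ht0 : (t : ZMod p) ≠ 0 := fun h => hb1 (by rw [← hlow, h, Thompson.low_zero, map_one])
  have hrange : Φ.range ≤ A := by
    rw [MonoidHom.range_eq_map, ← Thompson.closure_up_low p ht0, MonoidHom.map_closure, closure_le]
    rintro _ ⟨M, hM | hM, rfl⟩
    · subst hM
      have h1 : Thompson.up (1 : ZMod p) = Thompson.up (s : ZMod p) ^ (1 / (s : ZMod p)).val := by
        rw [Thompson.up_pow, ZMod.natCast_zmod_val, div_mul_cancel₀ _ hs0]
      rw [h1, map_pow, hup]
      exact pow_mem a.2 _
    · obtain rfl : M = _ := hM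
      rw [hlow]
      exact b.2
  exact ⟨Φ.range.subgroupOf A,
    ⟨(subgroupOfEquivOfLe hrange).trans (MonoidHom.ofInjective hΦinj).symm⟩⟩

end Cfsg.Agent.H49
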