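import Cfsg.Agent.H49.RankTwoEssential
import Cfsg.Agent.PGroups.Extraspecial
import Cfsg.Agent.PGroups.Commutator

/-!
Essential subgroups of small rank.
-/

set_option autoImplicit false
set_option linter.unusedSectionVars false
set_option linter.style.haveILetI false

namespace Cfsg.Agent.H49

open Subgroup
open Cfsg
open scoped commutatorElement

variable {Ω : Type*} [Group Ω] {S : Subgroup Ω} [Finite S] {p : ℕ} [hp : Fact p.Prime]

/-- The automorphism group of an essential subgroup. -/
theorem essential_data {F : FusionSystem S} {H : Subgroup Ω}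
    (hH : F.IsEssential p H) :
    (∃ P P' : Sylow p (F.autGroup H), P ≠ P') ∧
      ∀ N : Subgroup (F.autGroup H), N.Normal → IsPGroup p N → N ≤ (Inn H).subgroupOf (F.autGroup H) := by
  haveI := FusionSys.finite_autGroup F hH.1.1
  obtain ⟨-, -, hN, E, hE⟩ := hH
  refine ⟨two_sylow_of_quotient _ E hE, fun N hn hNp => ?_⟩
  haveI : (N.map (QuotientGroup.mk' ((Inn H).subgroupOf (F.autGroup H)))).Normal :=
    hn.map _ (QuotientGroup.mk'_surjective _)
  have h := FusionSys.pCore_eq_bot_of_stronglyEmbedded hE
    (N := N.map (QuotientGroup.mk' ((Inn H).subgroupOf (F.autGroup H)))) (hNp.map _)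
  rwa [Subgroup.map_eq_bot_iff, QuotientGroup.ker_mk'] at h

theorem inn_eq_bot {G : Type*} [Group G] (hG : ∀ a b : G, a * b = b * a) : Inn G = ⊥ := by
  refine eq_bot_iff.2 ?_
  rintro _ ⟨g, rfl⟩
  exact Subgroup.mem_bot.2 (MulEquiv.ext fun x => by
    rw [MulAut.conj_apply, hG g x, mul_inv_cancel_right]; rfl)

/-- Nonabelian groups of order `p³` with several Sylow subgroups of automorphisms. -/
theorem order_cube {G : Type*} [Group G] [Finite G] (hcard : Nat.card G = p ^ 3)
    (hna : ¬ IsMulCommutative G) (A : Subgroup (MulAut G)) (P P' : Sylow p A) (hne : P ≠ P') :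
    (Odd p ∧ IsExtraspecial p G ∧ ∀ x : G, x ^ p = 1) ∨
      (p = 2 ∧ Nonempty (G ≃* QuaternionGroup 2)) := by
  have hG : IsPGroup p G := IsPGroup.of_card hcard
  have hp1 := hp.out.one_lt
  obtain ⟨j, hj⟩ := IsPGroup.iff_card.1 (hG.to_subgroup (center G))
  have hci : Nat.card (center G) * (center G).index = p ^ 3 := by rw [Subgroup.card_mul_index, hcard]
  have hj1 : j = 1 := by
    have hle : j ≤ 3 := (Nat.pow_dvd_pow_iff_le_right hp1).1 (hj ▸ hcard ▸ card_subgroup_dvd_card _)
    rw [hj] at hci
    interval_cases j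
    · exfalso
      haveI : Nontrivial G := Finite.one_lt_card_iff_nontrivial.1 (hcard ▸ Nat.one_lt_pow (by norm_num) hp1)
      haveI := hG.center_nontrivial
      exact absurd hj (ne_of_gt (by rw [pow_zero]; exact Finite.one_lt_card))
    · rfl
    · exfalso
      refine PGroups.center_index_ne_prime (p := p) (G := G) (Nat.eq_of_mul_eq_mul_left (pow_pos hp.out.pos 2) ?_)
      rw [hci]; ring
    · exfalso
      refine hna ⟨⟨fun a b => (Subgroup.mem_center_iff.1 ?_ a)⟩⟩
      rw [Subgroup.eq_top_of_card_eq _ (hj.trans hcard.symm)]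
      exact mem_top b
  subst hj1
  rw [pow_one] at hj
  have hi : (center G).index = p ^ 2 := Nat.eq_of_mul_eq_mul_left hp.out.pos (by
    rw [hj] at hci; rw [hci]; ring)
  have hcomm : commutator G ≤ center G := PGroups.commutator_le_of_index_dvd_sq _ (dvd_of_eq hi)
  have hcomm' : commutator G = center G := by
    refine (Subgroup.eq_of_le_of_card_ge hcomm ?_)
    rw [hj]
    refine Nat.le_of_dvd Nat.card_pos (PGroups.dvd_card_of_ne_bot hG fun h => hna ?_)
    refine ⟨⟨fun a b => commutatorElement_eq_one_iff_mul_comm.1 ?_⟩⟩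
    exact Subgroup.mem_bot.1 (h ▸ commutator_mem_commutator (mem_top a) (mem_top b))
  have hpow : ∀ x : G, x ^ p ∈ center G := by
    intro x
    rw [← QuotientGroup.eq_one_iff, QuotientGroup.mk_pow]
    set q : G ⧸ center G := QuotientGroup.mk x
    obtain ⟨k, hk, hk'⟩ := (Nat.dvd_prime_pow hp.out).1
      (hi ▸ Subgroup.index_eq_card (center G) ▸ orderOf_dvd_natCard q)
    refine orderOf_dvd_iff_pow_eq_one.1 (hk' ▸ ?_)
    rcases hk.lt_or_eq with h | rfl
    · exact (pow_dvd_pow p (by omega : k ≤ 1)).trans (by rw [pow_one])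
    · exfalso
      haveI : IsCyclic (G ⧸ center G) :=
        isCyclic_of_orderOf_eq_card q (by rw [hk', ← Subgroup.index_eq_card, hi])
      exact hna ⟨⟨(MonoidHom.isMulCommutative_of_isCyclic_of_ker_le_center (QuotientGroup.mk' (center G))
        (le_of_eq (QuotientGroup.ker_mk' _))).is_comm.comm⟩⟩
  have hΦ : frattini G = center G :=
    le_antisymm (PGroups.frattini_le_of_commutator_le (p := p) _ hcomm hpow)
      (hcomm' ▸ PGroups.commutator_le_frattini hG)
  have hiΦ : (frattini G).index = p ^ 2 := by rw [hΦ, hi]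
  have hes : IsExtraspecial p G := ⟨⟨hG, hΦ, hcomm'⟩, hj⟩
  rcases hp.out.eq_two_or_odd' with rfl | hodd
  · refine Or.inr ⟨rfl, ?_⟩
    obtain ⟨x, hx⟩ : ∃ x : G, x ^ 2 ≠ 1 := by
      by_contra h
      push Not at h
      refine hna ⟨⟨fun a b => ?_⟩⟩
      have hinv : ∀ c : G, c⁻¹ = c := fun c => inv_eq_of_mul_eq_one_right (by rw [← sq, h])
      calc a * b = (a * b)⁻¹ := (hinv _).symm
        _ = b * a := by rw [mul_inv_rev, hinv, hinv]
    have ho : orderOf x = 2 * 2 := by
      have h4 : x ^ 2 ^ 2 = 1 := by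
        rw [sq 2, pow_mul]
        have := orderOf_dvd_natCard (⟨x ^ 2, hpow x⟩ : center G)
        rw [hj, orderOf_dvd_iff_pow_eq_one] at this
        exact congrArg Subtype.val this
      have h := orderOf_eq_prime_pow (p := 2) (x := x) (n := 1) (by simpa using hx) h4
      simpa using h
    have hcz : center G = zpowers (x ^ 2) :=
      (PGroups.zpowers_eq_of_card_eq hj (hpow x) hx).symm
    have hxi : (zpowers x).index = 2 := by
      have := (zpowers x).card_mul_index
      rw [hcard, Nat.card_zpowers, ho] at this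
      omega
    obtain ⟨y, hy, hy2⟩ : ∃ y, y ∉ zpowers x ∧ y ^ 2 ≠ 1 := by
      by_contra h
      push Not at h
      refine no_between hG hiΦ A P P' hne (zpowers x) ?_ ?_ ?_
      · rw [hΦ, hcz]
        refine lt_of_le_of_ne (zpowers_le.2 (pow_mem (mem_zpowers x) 2)) fun h => ?_
        have := congrArg (fun K : Subgroup G => Nat.card K) h
        simp only [← hcz, hj, Nat.card_zpowers, ho] at this
        omega
      · intro h
        rw [h, Subgroup.index_top] at hxi
        omega
      · intro a _ z hz
        obtain ⟨i, rfl⟩ := mem_zpowers_iff.1 hz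
        rw [map_zpow]
        refine zpow_mem ?_ i
        by_contra hax
        refine hx ((a : MulAut G).injective ?_)
        rw [map_pow, map_one]
        exact h _ hax
    have hy2' : y ^ 2 = x ^ 2 := by
      have hm : y ^ 2 ∈ zpowers (x ^ 2) := hcz ▸ hpow y
      obtain ⟨i, hi'⟩ := mem_zpowers_iff.1 hm
      have hx4 : (x ^ 2) ^ (2 : ℤ) = 1 := by
        rw [zpow_two, ← pow_add, show 2 + 2 = orderOf x from ho.symm, pow_orderOf_eq_one]
      rcases Int.emod_two_eq i with h0 | h0
      · exfalso
        apply hy2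
        rw [← hi', zpow_eq_zpow_emod' i (n := 2) (by rw [← zpow_natCast]; exact hx4)]
        simp [h0]
      · rw [← hi', zpow_eq_zpow_emod' i (n := 2) (by rw [← zpow_natCast]; exact hx4)]
        simp [h0]
    refine PGroups.nonempty_mulEquiv_quaternion ho hy hy2' ?_ hcard
    have hc : ⁅y, x⁆ ∈ zpowers (x ^ 2) := hcz ▸ PGroups.commutatorElement_mem_center hcomm y x
    have hne1 : ⁅y, x⁆ ≠ 1 := by
      intro h1
      rw [commutatorElement_eq_one_iff_mul_comm] at h1
      have hgen : zpowers x ⊔ zpowers y = ⊤ := by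
        rw [← Subgroup.index_eq_one]
        have h2 := Subgroup.relIndex_mul_index (le_sup_left (a := zpowers x) (b := zpowers y))
        rw [hxi] at h2
        rcases Nat.prime_two.eq_one_or_self_of_dvd _ (Dvd.intro_left _ h2) with h3 | h3
        · exact h3
        · exfalso
          rw [h3] at h2
          have h4 : (zpowers x).relIndex (zpowers x ⊔ zpowers y) = 1 :=
            Nat.eq_of_mul_eq_mul_right two_pos (by rw [h2, one_mul])
          exact hy (Subgroup.relIndex_eq_one.1 h4 (mem_sup_right (mem_zpowers y)))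
      refine hna ⟨⟨fun a b => ?_⟩⟩
      have hle : ∀ g : G, g ∈ centralizer ({x, y} : Set G) → g ∈ center G := fun g hg => by
        refine Subgroup.mem_center_iff.2 fun c => ?_
        have hc' : zpowers x ⊔ zpowers y ≤ centralizer ({g} : Set G) := by
          obtain ⟨e1, e2⟩ := PGroups.mem_centralizer_pair.1 hg
          rw [commutatorElement_eq_one_iff_mul_comm] at e1 e2
          refine sup_le (zpowers_le.2 ?_) (zpowers_le.2 ?_)
          · exact mem_centralizer_singleton_iff.2 e1.symm
          · exact mem_centralizer_singleton_iff.2 e2.symm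
        exact mem_centralizer_singleton_iff.1 (hc' (hgen ▸ mem_top c))
      have hxc : x ∈ center G := hle x (PGroups.mem_centralizer_pair.2 ⟨commutatorElement_self x,
        commutatorElement_eq_one_iff_mul_comm.2 h1.symm⟩)
      exact absurd (Nat.le_of_dvd Nat.card_pos (Subgroup.orderOf_dvd_natCard _ hxc))
        (by rw [ho, hj]; omega)
    obtain ⟨i, hi'⟩ := mem_zpowers_iff.1 hc
    have hx4 : (x ^ 2) ^ (2 : ℤ) = 1 := by
      rw [zpow_two, ← pow_add, show 2 + 2 = orderOf x from ho.symm, pow_orderOf_eq_one]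
    have hce : ⁅y, x⁆ = x ^ 2 := by
      rw [← hi', zpow_eq_zpow_emod' i (n := 2) (by rw [← zpow_natCast]; exact hx4)]
      rcases Int.emod_two_eq i with h0 | h0
      · exfalso
        apply hne1
        rw [← hi', zpow_eq_zpow_emod' i (n := 2) (by rw [← zpow_natCast]; exact hx4)]
        simp [h0]
      · simp [h0]
    calc y * x * y⁻¹ = ⁅y, x⁆ * x := by rw [commutatorElement_def]; group
      _ = x ^ 2 * x := by rw [hce]
      _ = x⁻¹ := by
        refine (inv_eq_of_mul_eq_one_left ?_).symm
        rw [← pow_succ, ← pow_succ, show 2 + 1 + 1 = orderOf x from ho.symm, pow_orderOf_eq_one]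
  · refine Or.inl ⟨hodd, hes, ?_⟩
    by_contra hne1
    push Not at hne1
    obtain ⟨z, hz⟩ := hne1
    have hcp : ∀ c ∈ center G, c ^ p = 1 := fun c hc => PGroups.isSpecial_center_pow hes.1 hc
    have hchoose : p ∣ p.choose 2 := hp.out.dvd_choose_self two_ne_zero (by
      obtain ⟨m, hm⟩ := hodd
      omega)
    let ψ : G →* center G := MonoidHom.mk' (fun x => ⟨x ^ p, hpow x⟩) fun a b => Subtype.ext (by
      show (a * b) ^ p = a ^ p * b ^ p
      rw [PGroups.mul_pow_of_commutator_mem_center (PGroups.commutatorElement_mem_center hcomm b a)]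
      obtain ⟨d, hd⟩ := hchoose
      rw [hd, pow_mul, hcp _ (PGroups.commutatorElement_mem_center hcomm b a), one_pow, mul_one])
    refine no_between hG hiΦ A P P' hne ψ.ker ?_ ?_ ?_
    · rw [hΦ]
      refine lt_of_le_of_ne (fun c hc => MonoidHom.mem_ker.2 (Subtype.ext (hcp c hc))) fun h => ?_
      have h1 := Subgroup.card_mul_index ψ.ker
      rw [Subgroup.index_ker, hcard, ← h, hj] at h1
      have h2 : Nat.card ψ.range ≤ p := hj ▸ Nat.card_le_card_of_injective _ Subtype.val_injective
      have := hp.out.two_le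
      nlinarith
    · intro h
      have h1 : z ∈ ψ.ker := h ▸ mem_top z
      exact hz (congrArg Subtype.val (MonoidHom.mem_ker.1 h1))
    · intro a _ c hc
      have hc' : c ^ p = 1 := congrArg Subtype.val (MonoidHom.mem_ker.1 hc)
      refine MonoidHom.mem_ker.2 (Subtype.ext ?_)
      show ((a : MulAut G) c) ^ p = 1
      rw [← map_pow (a : MulAut G), hc', map_one (a : MulAut G)]

end Cfsg.Agent.H49
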