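import Cfsg.Agent.H49.LocalModel
import Cfsg.Agent.H48.SylowIn
import Mathlib

/-!
Freeness from a section passes to normalizer systems.
-/

set_option autoImplicit false
set_option linter.unusedSectionVars false
set_option linter.style.haveILetI false

namespace Cfsg.Agent.H49

open Cfsg Cfsg.FusionSystem Cfsg.Agent.FusionSys

universe u v

variable {Ω : Type u} [Group Ω] {S : Subgroup Ω} [Finite S] {p : ℕ} [hp : Fact p.Prime]
  {F : FusionSystem S}

theorem isSectionFree_normalizer {H : Type v} [Group H] (hS : IsPGroup p S) (hF : F.IsSaturated p)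
    (hfree : F.IsSectionFree p H) {Q : Subgroup Ω} (hQ : F.IsFullyNormalized Q)
    {N : FusionSystem (normalizerIn S Q)} (hN : F.IsNormalizerSystem Q N) :
    N.IsSectionFree p H := by
  intro R hRn hRc N' hN' L _ ι hL
  haveI : Finite (normalizerIn S Q) := finite_of_le (S := S) normalizerIn_le
  have hT : IsPGroup p (normalizerIn S Q) := isPGroup_normalizerIn hS Q
  have hK := isKSys_normalizer_iff.1 hN
  have hK' := isKSys_normalizer_iff.1 hN'
  have hNsat := isSaturated_normalizer hS hF hQ hN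
  have hQT : Q ≤ (normalizerIn S Q) := le_normalizerIn_self hQ.1
  have hRT : R ≤ (normalizerIn S Q) := hRn.1
  set X := R ⊔ Q with hXdef
  have hXT : X ≤ (normalizerIn S Q) := sup_le hRT hQT
  have hXS : X ≤ S := hXT.trans normalizerIn_le
  -- `X` is centric
  have hX : F.IsCentric X := by
    refine ⟨hXS, fun X₃ hX₃ c hc => ?_⟩
    obtain ⟨f, hf⟩ := isConj_iff.1 hX₃
    have hfQ := (hf.isMap.mono (le_sup_right : Q ≤ X)).isIso
    obtain ⟨g, hg, hgQ, hgT⟩ := exists_normalizer_map hS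
      (isFullyAutomized_of_isFullyNormalized hS hF hQ) (receptive_of_isFullyNormalized hS hF hQ)
      (isConj_symm hfQ.isConj)
    have hfN : ∀ x ∈ X, f x ∈ normalizerIn S (imgSub f Q) := fun x hx =>
      hf.isMap.mem_normalizerIn le_sup_right hx (hXT hx).2
    have hcomp := hf.isMap.comp hg hfN
    have himg : (g ∘ f) '' (Q : Set Ω) = Q := by
      rw [Set.image_comp, hfQ.image_eq, hgQ.image_eq]
    have hmap : IsMap N X (g ∘ f) := by
      refine (hK.map_iff _ _).2 ⟨hXT, fun x hx => hgT _ (hfN x hx), g ∘ f,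
        by rwa [sup_eq_left.2 (le_sup_right : Q ≤ X)], fun _ _ => rfl,
        (onQ_top_iff hcomp le_sup_right).2 himg⟩
    have hmapR := hmap.mono (le_sup_left : R ≤ X)
    obtain ⟨hcS, hcc⟩ := mem_centralizerIn.1 hc
    have hcN : c ∈ normalizerIn S (imgSub f Q) :=
      centralizerIn_le_normalizerIn (mem_centralizerIn.2 ⟨hcS, fun y hy => by
        obtain ⟨x, hx, rfl⟩ := hfQ.exists_preimage hy
        exact hcc _ (hf.mem (le_sup_right (a := R) hx))⟩)
    have hgc : g c ∈ centralizerIn (normalizerIn S Q) (imgSub (g ∘ f) R) := mem_centralizerIn.2 ⟨hgT c hcN, fun y hy => by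
      obtain ⟨r, hr, rfl⟩ := hmapR.mem_imgSub.1 hy
      have hrX : r ∈ X := le_sup_left (b := Q) hr
      show g (f r) * g c = g c * g (f r)
      rw [← hg.map_mul (hfN r hrX) hcN, ← hg.map_mul hcN (hfN r hrX), hcc _ (hf.mem hrX)]⟩
    obtain ⟨r, hr, hrc⟩ := hmapR.mem_imgSub.1 (hRc.2 _ hmapR.isIso.isConj hgc)
    have hrX : r ∈ X := le_sup_left (b := Q) hr
    rw [← hg.injOn (hfN r hrX) hcN hrc]
    exact hf.mem hrX
  obtain ⟨M, _, b, _, hfreeM, hb, hfwd, hbwd, hcent⟩ := exists_localModel hS hF hfree hX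
  haveI : Finite (normalizerIn S X) := finite_of_le (S := S) normalizerIn_le
  haveI := finite_of_le hXS
  haveI := finite_of_le hQ.1
  haveI := finite_of_le (hRT.trans (normalizerIn_le (S := S) (P := Q)))
  haveI : Finite (normalizerIn (normalizerIn S Q) R) := finite_of_le (S := (normalizerIn S Q)) normalizerIn_le
  have hT'NX : (normalizerIn (normalizerIn S Q) R) ≤ (normalizerIn S X) := fun t ht => by
    obtain ⟨⟨htS, htQ⟩, htR⟩ := ht
    refine ⟨htS, H48.mem_normalizer_of_cj_eq ?_⟩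
    rw [H48.cj, hXdef, Subgroup.map_sup, show R.map _ = R from H48.cj_eq_of_mem_normalizer htR,
      show Q.map _ = Q from H48.cj_eq_of_mem_normalizer htQ]
  have hXNX : X ≤ (normalizerIn S X) := le_normalizerIn_self hXS
  have hRT' : R ≤ (normalizerIn (normalizerIn S Q) R) := le_normalizerIn_self hRT
  -- the subgroup of the model
  set RM := (R.subgroupOf (normalizerIn S X)).map b with hRM
  set QM := (Q.subgroupOf (normalizerIn S X)).map b with hQM
  set M' := Subgroup.normalizer (RM : Set M) ⊓ Subgroup.normalizer (QM : Set M) with hM'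
  have hsubN : ∀ (Y : Subgroup Ω) (w : (normalizerIn S X)), (w : Ω) ∈ Subgroup.normalizer (Y : Set Ω) →
      b w ∈ Subgroup.normalizer ((Y.subgroupOf (normalizerIn S X)).map b : Set M) := fun Y w hw =>
    Subgroup.le_normalizer_map b ⟨w, Subgroup.mem_normalizer_iff.2 fun y => by
      simpa [Subgroup.mem_subgroupOf] using Subgroup.mem_normalizer_iff.1 hw (y : Ω), rfl⟩
  have hκmem : ∀ t : (normalizerIn (normalizerIn S Q) R), b (Subgroup.inclusion hT'NX t) ∈ M' := fun t =>
    ⟨hsubN R _ t.2.2, hsubN Q _ t.2.1.2⟩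
  set κ : (normalizerIn (normalizerIn S Q) R) →* M' := (b.comp (Subgroup.inclusion hT'NX)).codRestrict M' hκmem with hκdef
  have hκ : ∀ t : (normalizerIn (normalizerIn S Q) R), (κ t : M) = b (Subgroup.inclusion hT'NX t) := fun _ => rfl
  have hκinj : Function.Injective κ := fun x y h =>
    Subgroup.inclusion_injective hT'NX (hb (congrArg Subtype.val h))
  -- an element of `M'` gives a map
  have hback : ∀ (P : Subgroup Ω) (m : M'), P ≤ (normalizerIn (normalizerIn S Q) R) →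
      (∀ x : (normalizerIn S X), (x : Ω) ∈ P → ∃ t : (normalizerIn (normalizerIn S Q) R), (m : M) * b x * (m : M)⁻¹ = κ t) →
        ∃ g, IsMap F (P ⊔ X) g ∧ g '' (R : Set Ω) = R ∧ g '' (Q : Set Ω) = Q ∧
          ∀ w : (normalizerIn S X), (w : Ω) ∈ P ⊔ X → ∃ h : g w ∈ (normalizerIn S X), b ⟨g w, h⟩ = m * b w * (m : M)⁻¹ := by
    intro P m hP hm
    have hW : P ⊔ X ≤ (normalizerIn S X) := sup_le (hP.trans hT'NX) hXNX
    have hin : ∀ {Y : Subgroup Ω}, (m : M) ∈ Subgroup.normalizer ((Y.subgroupOf (normalizerIn S X)).map b : Set M) →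
        ∀ w : (normalizerIn S X), (w : Ω) ∈ Y → ∃ y : (normalizerIn S X), (y : Ω) ∈ Y ∧ b y = m * b w * (m : M)⁻¹ :=
      fun {Y} hY w hw => (Subgroup.mem_normalizer_iff.1 hY (b w)).1 ⟨w, hw, rfl⟩
    obtain ⟨g, hg, hgb⟩ := hbwd (P ⊔ X) m le_sup_right hW (fun w hw => by
      have hle : (P ⊔ X).subgroupOf (normalizerIn S X) ≤ b.range.comap ((MulAut.conj (m : M)).toMonoidHom.comp b) := by
        rw [Subgroup.subgroupOf_sup (hP.trans hT'NX) hXNX]
        refine sup_le (fun x hx => ?_) ((Subgroup.subgroupOf_sup (le_sup_left.trans hXNX)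
          (le_sup_right.trans hXNX)).le.trans (sup_le (fun x hx => ?_) fun x hx => ?_))
        · obtain ⟨t, ht⟩ := hm x hx
          exact ⟨Subgroup.inclusion hT'NX t, ht.symm⟩
        · obtain ⟨y, -, hy⟩ := hin m.2.1 x hx
          exact ⟨y, hy⟩
        · obtain ⟨y, -, hy⟩ := hin m.2.2 x hx
          exact ⟨y, hy⟩
      exact hle hw)
    have himg : ∀ {Y : Subgroup Ω}, (m : M) ∈ Subgroup.normalizer ((Y.subgroupOf (normalizerIn S X)).map b : Set M) →
        Y ≤ X → g '' (Y : Set Ω) = Y := fun {Y} hY hYX => by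
      haveI := finite_of_le (hYX.trans hXS)
      refine (hg.mono (hYX.trans le_sup_right)).image_eq_of_mapsTo fun y hy => ?_
      obtain ⟨h, he⟩ := hgb ⟨y, hXNX (hYX hy)⟩ (le_sup_right (a := P) (hYX hy))
      obtain ⟨y', hy', he'⟩ := hin hY ⟨y, hXNX (hYX hy)⟩ hy
      rw [show g y = y' from congrArg Subtype.val (hb (he.trans he'.symm))]
      exact hy'
    exact ⟨g, hg, himg m.2.1 le_sup_left, himg m.2.2 le_sup_right, hgb⟩
  have hreal : N'.IsRealizedBy κ := by
    refine isRealizedBy_of_isMap hκinj (fun P f hf => ?_) fun P φ hP hφ m hm => ?_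
    · obtain ⟨hP, hfT, g, hg, hge, hgR⟩ := (hK'.map_iff _ _).1 hf
      have hgR' : g '' (R : Set Ω) = R := (onQ_top_iff hg le_sup_right).1 hgR
      obtain ⟨-, -, g₂, hg₂, hg₂e, hg₂Q⟩ := (hK.map_iff _ _).1 hg
      have hg₂Q' : g₂ '' (Q : Set Ω) = Q := (onQ_top_iff hg₂ le_sup_right).1 hg₂Q
      have hg₂R : g₂ '' (R : Set Ω) = R := by
        rw [Set.image_congr fun x hx => hg₂e x (le_sup_right (a := P) hx), hgR']
      set W := P ⊔ R ⊔ Q with hW
      have hXW : X ≤ W := sup_le (le_sup_right.trans le_sup_left) le_sup_right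
      have hgX : g₂ '' (X : Set Ω) = X := by
        refine (hg₂.mono hXW).image_eq_of_mapsTo fun x hx => IsMap.mapsTo_sup (hg₂.mono hXW : IsMap F (R ⊔ Q) g₂) (fun x hx => ?_) (fun x hx => ?_) hx
        · exact Subgroup.mem_sup_left (hg₂R.le ⟨x, hx, rfl⟩)
        · exact Subgroup.mem_sup_right (hg₂Q'.le ⟨x, hx, rfl⟩)
      obtain ⟨m, hm⟩ := hfwd W g₂ hXW (sup_le (sup_le (hP.trans hT'NX)
        (le_sup_left.trans hXNX)) (le_sup_right.trans hXNX)) hg₂ hgX
      have hmem : ∀ {Y : Subgroup Ω}, Y ≤ X → g₂ '' (Y : Set Ω) = Y →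
          m ∈ Subgroup.normalizer ((Y.subgroupOf (normalizerIn S X)).map b : Set M) := fun {Y} hYX hY => by
        refine H48.mem_normalizer_of_cj_eq (H48.cj_eq_self_of_le (H48.cj_le.mpr ?_))
        rintro _ ⟨y, hy, rfl⟩
        obtain ⟨h, he⟩ := hm y (hXW (hYX hy))
        exact ⟨⟨g₂ y, h⟩, hY.le ⟨y, hy, rfl⟩, he⟩
      refine ⟨⟨m, hmem le_sup_left hg₂R, hmem le_sup_right hg₂Q'⟩, fun x hx => ?_⟩
      have hfx : g₂ x = f x := (hg₂e x (le_sup_left (b := R) hx)).trans (hge x hx)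
      refine ⟨hfT x hx, Subtype.ext ?_⟩
      obtain ⟨h, he⟩ := hm (Subgroup.inclusion hT'NX x) (le_sup_left (b := Q) (le_sup_left (b := R) hx))
      exact (congrArg b (Subtype.ext hfx.symm)).trans he
    · obtain ⟨g, hg, hgR, hgQ, hgb⟩ := hback P m hP fun x hx =>
        ⟨⟨homFun φ x, hφ x hx⟩, (congrArg Subtype.val (hm ⟨x, hP hx⟩ hx (hφ x hx))).symm⟩
      have he : ∀ x ∈ P, g x = homFun φ x := fun x hx => by
        obtain ⟨h, he⟩ := hgb ⟨x, hT'NX (hP hx)⟩ (le_sup_left (b := X) hx)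
        have h2 := congrArg Subtype.val (hm ⟨x, hP hx⟩ hx (hφ x hx))
        exact congrArg Subtype.val (hb (he.trans h2.symm))
      have hle : P ⊔ R ≤ P ⊔ X := sup_le le_sup_left (le_sup_left.trans le_sup_right)
      have hgN : IsMap N (P ⊔ R) g := by
        refine (hK.map_iff _ _).2 ⟨sup_le (hP.trans normalizerIn_le) hRT, fun x hx => (hg.mono hle).mapsTo_sup
          (fun x hx => normalizerIn_le (he x hx ▸ hφ x hx)) (fun x hx => hRT (hgR.le ⟨x, hx, rfl⟩)) hx,
          g, by rwa [sup_assoc], fun _ _ => rfl, ?_⟩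
        exact (onQ_top_iff (hg.mono (le_sup_right.trans le_sup_right : Q ≤ P ⊔ X)) le_rfl).2 hgQ
      exact (hK'.map_iff _ _).2 ⟨hP, hφ, g, hgN, he, (onQ_top_iff hgN le_sup_right).2 hgR⟩
  -- the centralizer of `R` in `M'`
  set Y : Subgroup M' := (R.subgroupOf (normalizerIn (normalizerIn S Q) R)).map κ with hY
  have hYRM : ∀ r : (normalizerIn S X), (r : Ω) ∈ R → ∃ y ∈ Y, (y : M) = b r := fun r hr =>
    ⟨κ ⟨r, hRT' hr⟩, ⟨⟨r, hRT' hr⟩, hr, rfl⟩, rfl⟩
  haveI hYn : Y.Normal := ⟨by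
    rintro _ ⟨t, ht, rfl⟩ m
    obtain ⟨y, hy, he⟩ := (Subgroup.mem_normalizer_iff.1 m.2.1 (b (Subgroup.inclusion hT'NX t))).1
      ⟨_, ht, rfl⟩
    obtain ⟨z, hz, hze⟩ := hYRM y hy
    convert hz using 1
    exact Subtype.ext (he.symm.trans hze.symm)⟩
  have hYc : Subgroup.centralizer (Y : Set M') ≤ Y := fun m hm => by
    have hmc : ∀ r : (normalizerIn S X), (r : Ω) ∈ R → (m : M) * b r * (m : M)⁻¹ = b r := fun r hr => by
      obtain ⟨y, hy, he⟩ := hYRM r hr
      have h1 := congrArg Subtype.val (Subgroup.mem_centralizer_iff.1 hm y hy)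
      simp only [Subgroup.coe_mul, he] at h1
      rw [← h1, mul_inv_cancel_right]
    obtain ⟨g, hg, hgR, hgQ, hgb⟩ := hback R m hRT' fun r hr => ⟨⟨r, hRT' hr⟩, hmc r hr⟩
    have hgid : ∀ r ∈ R, id r = g r := fun r hr => by
      obtain ⟨h, he⟩ := hgb ⟨r, hXNX (le_sup_left (b := Q) hr)⟩ (le_sup_left (b := X) hr)
      exact (congrArg Subtype.val (hb (he.trans (hmc _ hr)))).symm
    have hgX : g '' (X : Set Ω) = X := by
      refine (hg.mono le_sup_right).image_eq_of_mapsTo fun x hx =>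
        IsMap.mapsTo_sup (hg.mono le_sup_right : IsMap F (R ⊔ Q) g) (fun x hx => ?_) (fun x hx => ?_) hx
      · exact Subgroup.mem_sup_left (hgR.le ⟨x, hx, rfl⟩)
      · exact Subgroup.mem_sup_right (hgQ.le ⟨x, hx, rfl⟩)
    have hgN : IsMap N X g := (hK.map_iff _ _).2 ⟨hXT, fun x hx => hXT (hgX.le ⟨x, hx, rfl⟩), g,
      hg.mono (by rw [sup_eq_left.2 (le_sup_right : Q ≤ X)]; exact le_sup_right), fun _ _ => rfl,
      (onQ_top_iff (hg.mono le_sup_right) (le_sup_right : Q ≤ X)).2 hgQ⟩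
    obtain ⟨z, hz, hzc, hze⟩ := exists_center_twist hT hNsat (le_sup_left : R ≤ X) hRc
      (isMap_id N hXT) hgN hgid
    set zN : (normalizerIn S X) := ⟨z, hXNX (le_sup_left (b := Q) hz)⟩ with hzN
    obtain ⟨w, hw, hwm⟩ := hcent ((b zN)⁻¹ * m) fun x hx => by
      obtain ⟨h, he⟩ := hgb x (le_sup_right (a := R) hx)
      have h2 : (m : M) * b x * (m : M)⁻¹ = b zN * b x * (b zN)⁻¹ := by
        rw [← he, ← map_inv, ← map_mul, ← map_mul]
        exact congrArg b (Subtype.ext (hze x hx))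
      calc b x * ((b zN)⁻¹ * m) = (b zN)⁻¹ * (b zN * b x * (b zN)⁻¹) * m := by group
        _ = (b zN)⁻¹ * m * b x := by rw [← h2]; group
    have hwm' : b (zN * w) = m := by rw [map_mul, hwm, mul_inv_cancel_left]
    have hcomm : ((zN * w : (normalizerIn S X)) : Ω) ∈ centralizerIn (normalizerIn S Q) R := by
      refine mem_centralizerIn.2 ⟨(normalizerIn S Q).mul_mem (hRT hz) (hXT hw), fun r hr => ?_⟩
      have h3 := hmc ⟨r, hXNX (le_sup_left (b := Q) hr)⟩ hr
      rw [← hwm', mul_inv_eq_iff_eq_mul, ← map_mul, ← map_mul] at h3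
      exact (congrArg Subtype.val (hb h3)).symm
    obtain ⟨y, hy, he⟩ := hYRM _ (hRc.2 R (isConj_refl N hRT) hcomm)
    rwa [show m = y from Subtype.ext (hwm'.symm.trans he.symm)]
  -- Sylow
  have hT'p : IsPGroup p (normalizerIn (normalizerIn S Q) R) := hT.to_le normalizerIn_le
  have hYp : IsPGroup p Y := ((hT'p.to_subgroup _).map κ)
  let e : R ≃* Y := (Subgroup.subgroupOfEquivOfLe hRT').symm.trans ((R.subgroupOf (normalizerIn (normalizerIn S Q) R)).equivMapOfInjective κ hκinj)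
  have he : ∀ r : R, ((e r : M') : M) = b ⟨r, hXNX (le_sup_left (b := Q) r.2)⟩ := fun r => rfl
  let π : M' →* MulAut R := (MulAut.congr e.symm).toMonoidHom.comp MulAut.conjNormal
  have hπ : ∀ (m : M') (r : R), ((e (π m r) : M') : M) = m * (e r : M') * (m : M)⁻¹ := fun m r => by
    show ((e (e.symm (MulAut.conjNormal m (e.symm.symm r))) : M') : M) = _
    rw [MulEquiv.apply_symm_apply, MulAut.conjNormal_apply]
    rfl
  have hπaut : ∀ m, π m ∈ N.autGroup R := fun m => by
    obtain ⟨g, hg, hgR, hgQ, hgb⟩ := hback R m hRT' fun r hr => by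
      obtain ⟨y, hy, hye⟩ := hYRM r hr
      obtain ⟨t, -, hte⟩ := hYn.conj_mem y hy m
      exact ⟨t, by rw [hte, ← hye]; rfl⟩
    refine mem_autGroup_of_isMap ?_
    have hgN : IsMap N R g := (hK.map_iff _ _).2 ⟨hRT, fun x hx => hRT (hgR.le ⟨x, hx, rfl⟩), g,
      hg.mono (sup_le le_sup_left (le_sup_right.trans le_sup_right)), fun _ _ => rfl,
      (onQ_top_iff (hg.mono (le_sup_right.trans le_sup_right : Q ≤ R ⊔ X)) le_rfl).2 hgQ⟩
    refine hgN.congr fun r hr => ?_
    obtain ⟨h, hge⟩ := hgb ⟨r, hXNX (le_sup_left (b := Q) hr)⟩ (le_sup_left (b := X) hr)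
    have h2 := hπ m ⟨r, hr⟩
    rw [he, he] at h2
    rw [autMap_apply _ hr]
    exact congrArg Subtype.val (hb (h2.trans hge.symm))
  have hπκ : autInducedBy (normalizerIn S Q) R ≤ κ.range.map π := fun α hα => by
    obtain ⟨t, htT, htn, rfl⟩ := mem_autInducedBy.1 hα
    refine ⟨κ ⟨t, htT, htn⟩, ⟨_, rfl⟩, MulEquiv.ext fun r => e.injective (Subtype.ext (Subtype.ext ?_))⟩
    rw [hπ, he, he, hκ, ← map_inv, ← map_mul, ← map_mul]
    rfl
  have hker : π.ker ≤ κ.range := fun m hm => by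
    refine Subgroup.map_le_range _ _ (hYc (Subgroup.mem_centralizer_iff.2 fun y hy => Subtype.ext ?_))
    obtain ⟨r, hr⟩ := e.surjective ⟨y, hy⟩
    have h2 := hπ m r
    rw [MonoidHom.mem_ker.1 hm, MulAut.one_apply, hr] at h2
    show (y : M) * m = m * y
    nth_rw 1 [h2]
    group
  have hsyl : H48.IsSylowIn p κ.range ⊤ := by
    refine ⟨le_top, hT'p.of_surjective _ κ.rangeRestrict_surjective, ?_⟩
    have h1 : (κ.range.map π).relIndex ((⊤ : Subgroup M').map π) = κ.range.relIndex ⊤ := by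
      rw [Subgroup.relIndex_map_map, sup_eq_left.2 hker, top_sup_eq]
    rw [← h1]
    intro hd
    have hA : ((⊤ : Subgroup M').map π) ≤ N.autGroup R := by
      rintro _ ⟨m, -, rfl⟩
      exact hπaut m
    refine ((isFullyAutomized_iff hT).1 (isFullyAutomized_of_isFullyNormalized hT hNsat hRn)).2
      (hd.trans ((Dvd.intro _ (Subgroup.relIndex_mul_relIndex _ _ _ (Subgroup.map_mono le_top) hA)).trans ?_))
    exact Subgroup.relIndex_dvd_of_le_left _ hπκ
  have hfin : Finite M' := inferInstance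
  have hU : ∃ U : Sylow p M', (U : Subgroup M') = κ.range := by
    refine ⟨IsPGroup.toSylow (hT'p.of_surjective _ κ.rangeRestrict_surjective) ?_, rfl⟩
    rw [← Subgroup.relIndex_top_right]
    exact hsyl.3
  have hM'model : N'.IsModel p M' κ := ⟨hfin, hreal, hU,
    (Subgroup.centralizer_le (Cores.le_pCore hYp)).trans (hYc.trans (Cores.le_pCore hYp))⟩
  exact not_involves_of_models hT'p hL hM'model
    fun h => hfreeM (involves_of_injective M'.subtype M'.subtype_injective h)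

end Cfsg.Agent.H49
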