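import Cfsg.Agent.H54.BNSteinberg

/-!
The Steinberg character of a (B,N)-pair at an element `g` of a parabolic subgroup `P_J` with `J` minimal:
up to sign, the number of fixed points of `g` on one `P_J`-orbit of parabolic cosets.
-/

set_option autoImplicit false
set_option linter.unusedSectionVars false

namespace Cfsg.Agent.H49.StSS

open Cfsg.Agent.H28 Cfsg.Agent.H54 Cfsg.Agent.H54.BNC Cfsg.Agent.H54.BNSt MulAction
open scoped Classical

variable {G : Type*} [Group G] {P : Cfsg.BNPair G}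

/-- `j n` and `n k` agree modulo `B`. -/
def Rel (P : Cfsg.BNPair G) (n j k : G) : Prop := (j * n)⁻¹ * (n * k) ∈ P.B

theorem sup_le_parabolic (X : Set G) : Subgroup.closure X ⊔ (P.B ⊓ P.N) ≤ P.parabolic X :=
  sup_le le_sup_right (inf_le_left.trans le_sup_left)

theorem dc_le_parabolic {X : Set G} {c x : G} (hc : c ∈ Subgroup.closure X ⊔ (P.B ⊓ P.N))
    (hx : x ∈ dc P c) : x ∈ P.parabolic X := by
  obtain ⟨a, ha, b, hb, rfl⟩ := (mem_dc P).1 hx
  exact mul_mem (mul_mem (B_le_parabolic ha) (sup_le_parabolic X hc)) (B_le_parabolic hb)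

theorem len_add_left {J : Set G} (hJ : J ⊆ P.S) {n c : G} (hn : n ∈ P.N) (hL : LFree P J n)
    (hc : c ∈ Subgroup.closure J ⊔ (P.B ⊓ P.N)) : len P (c * n) = len P c + len P n := by
  have hcN : c ∈ P.N := sup_T_le_N hJ hc
  have h1 : RFree P J n⁻¹ := fun s hs => by
    have hsn : s * n ∈ P.N := mul_mem (S_mem_N (hJ hs)) hn
    have e := len_inv hsn
    rw [mul_inv_rev] at e
    rw [len_inv hn]
    have e2 : len P (n⁻¹ * s) = len P (n⁻¹ * s⁻¹) := by
      refine len_congr ?_
      have e3 : (n⁻¹ * s⁻¹)⁻¹ * (n⁻¹ * s) = s * s := by group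
      rw [e3]
      exact P.sq_mem s (hJ hs)
    rw [e2, e]
    exact hL s hs
  have h := len_add_of_RFree hJ (inv_mem hn) h1 (inv_mem hc)
  rw [← mul_inv_rev, len_inv (mul_mem hcN hn), len_inv hn, len_inv hcN] at h
  omega

/-- Deodhar's lemma. -/
theorem deodhar {K : Set G} (hK : K ⊆ P.S) {n a k : G} (hn : n ∈ P.N) (hR : RFree P K n)
    (ha : a ∈ P.S) (hk : k ∈ K) (hup : len P n < len P (a * n))
    (hdown : len P (a * n * k) < len P (a * n)) : Rel P n a k := by
  have haN := S_mem_N ha
  have hkN := S_mem_N (hK hk)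
  have hlen : len P (a * n) = len P n + 1 := by
    have := len_cases ha hn
    omega
  obtain ⟨L0, hL0, hl0⟩ := exists_red hn
  have hrep : Rep P (a :: L0) (a * n) := hL0.cons ha
  obtain ⟨R, hsub, hRl, hR'⟩ := exchange_right (hK hk) (mul_mem haN hn) hrep
    (by rw [List.length_cons, hl0, hlen]) hdown
  rcases List.sublist_cons_iff.1 hsub with h | ⟨r, rfl, h⟩
  · have he : R = L0 := h.eq_of_length (by rw [List.length_cons] at hRl; omega)
    subst he
    have e0 : n⁻¹ * (a * n * k) ∈ P.B := eqv_trans (eqv_symm hL0.2) hR'.2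
    have e1 := eqv_right hn (mul_mem (mul_mem haN hn) hkN) hkN e0
    have e2 : (a * n * k * k)⁻¹ * (a * n) ∈ P.B := by
      have e : (a * n * k * k)⁻¹ * (a * n) = (k * k)⁻¹ := by group
      rw [e]
      exact inv_mem (P.sq_mem k (hK hk))
    exact eqv_symm (eqv_trans e1 e2)
  · exfalso
    have hr : Rep P r (n * k) := by
      refine ⟨fun x hx => hR'.1 x (by simp [hx]), ?_⟩
      have := hR'.2
      rw [List.prod_cons] at this
      simpa [mul_assoc] using this
    have h1 := len_le hr
    have h2 := hR k hk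
    rw [List.length_cons, List.length_cons] at hRl
    omega

/-- The intersection of conjugate parabolic subgroups of a Weyl group. -/
theorem key {J K : Set G} (hJ : J ⊆ P.S) (hK : K ⊆ P.S) {n : G} (hn : n ∈ P.N) (hLn : LFree P J n)
    (hRn : RFree P K n) : ∀ (m : ℕ) (c d : G), c ∈ Subgroup.closure J ⊔ (P.B ⊓ P.N) →
    d ∈ Subgroup.closure K ⊔ (P.B ⊓ P.N) → len P c ≤ m → (c * n)⁻¹ * (n * d) ∈ P.B →
    c ∈ Subgroup.closure {j ∈ J | ∃ k ∈ K, Rel P n j k} ⊔ (P.B ⊓ P.N) ∧
      d ∈ Subgroup.closure {k ∈ K | ∃ j ∈ J, Rel P n j k} ⊔ (P.B ⊓ P.N) := by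
  intro m
  induction m with
  | zero =>
    intro c d hc hd hlc h
    have hcN := sup_T_le_N hJ hc
    have hdN := sup_T_le_N hK hd
    have hl := len_congr h
    rw [len_add_left hJ hn hLn hc, len_add_of_RFree hK hn hRn hd] at hl
    exact ⟨Subgroup.mem_sup_right ⟨mem_B_of_len_eq_zero hcN (by omega), hcN⟩,
      Subgroup.mem_sup_right ⟨mem_B_of_len_eq_zero hdN (by omega), hdN⟩⟩
  | succ m ih =>
    intro c d hc hd hlc h
    rcases Nat.lt_or_ge (len P c) (m + 1) with hlt | hge
    · exact ih c d hc hd (by omega) h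
    have hcN := sup_T_le_N hJ hc
    have hdN := sup_T_le_N hK hd
    obtain ⟨L, hLJ, hL, hLl⟩ := exists_red_of_mem hJ hc
    obtain ⟨a, R, rfl⟩ : ∃ a R, L = a :: R := by
      cases L with
      | nil => simp at hLl; omega
      | cons a R => exact ⟨a, R, rfl⟩
    have haJ : a ∈ J := hLJ a (by simp)
    have ha : a ∈ P.S := hJ haJ
    have haN := S_mem_N ha
    have hr : Rep P R (a⁻¹ * c) := ⟨fun x hx => hL.1 x (by simp [hx]), by simpa [mul_assoc] using hL.2⟩
    have hrl := len_le hr
    rw [List.length_cons] at hLl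
    have hc' : a⁻¹ * c ∈ Subgroup.closure J ⊔ (P.B ⊓ P.N) :=
      mul_mem (inv_mem (Subgroup.mem_sup_left (Subgroup.subset_closure haJ))) hc
    have h1 : (a⁻¹ * (c * n))⁻¹ * (a⁻¹ * (n * d)) ∈ P.B := eqv_left h
    obtain ⟨k, hk, hkd⟩ : ∃ k ∈ K, len P (a * n * k) < len P (a * n) := by
      by_contra hno
      push Not at hno
      have hR2 : RFree P K (a * n) := fun k hk => by
        have := hno k hk
        have := len_cases_right (hK hk) (mul_mem haN hn)
        omega
      have e1 := len_add_of_RFree hK (mul_mem haN hn) hR2 hd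
      have e2 := len_mul_S_inv (mul_mem hn hdN) ha
      have e3 := len_congr h1
      have e4 := len_mul_le (mul_mem (inv_mem haN) hcN) hn
      have e5 := hLn a haJ
      have e6 := len_congr h
      rw [len_add_left hJ hn hLn hc, len_add_of_RFree hK hn hRn hd] at e6
      rw [mul_assoc] at e1 e4
      omega
    have hrel := deodhar hK hn hRn ha hk (hLn a haJ) hkd
    have hkN := S_mem_N (hK hk)
    have e2 : (a⁻¹ * n)⁻¹ * (n * k⁻¹) ∈ P.B := by
      have u1 : n⁻¹ * (a⁻¹ * (n * k)) ∈ P.B := by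
        have := eqv_left (c := a⁻¹) hrel
        simpa [mul_assoc] using this
      have u2 := eqv_right hn (mul_mem (inv_mem haN) (mul_mem hn hkN)) (inv_mem hkN) u1
      have u3 := eqv_symm u2
      simpa [mul_assoc] using u3
    have h2 : (a⁻¹ * c * n)⁻¹ * (n * (k⁻¹ * d)) ∈ P.B := by
      have u1 := eqv_trans h1 (show (a⁻¹ * (n * d))⁻¹ * (n * k⁻¹ * d) ∈ P.B by
        have := eqv_right (mul_mem (inv_mem haN) hn) (mul_mem hn (inv_mem hkN)) hdN e2
        simpa [mul_assoc] using this)
      simpa [mul_assoc] using u1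
    obtain ⟨g1, g2⟩ := ih _ _ hc'
      (mul_mem (inv_mem (Subgroup.mem_sup_left (Subgroup.subset_closure hk))) hd) (by omega) h2
    constructor
    · have e : c = a * (a⁻¹ * c) := by group
      rw [e]
      exact mul_mem (Subgroup.mem_sup_left (Subgroup.subset_closure (show a ∈ {j ∈ J | ∃ k ∈ K, Rel P n j k} from ⟨haJ, k, hk, hrel⟩))) g1
    · have e : d = k * (k⁻¹ * d) := by group
      rw [e]
      exact mul_mem (Subgroup.mem_sup_left (Subgroup.subset_closure (show k ∈ {k ∈ K | ∃ j ∈ J, Rel P n j k} from ⟨hk, a, haJ, hrel⟩))) g2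

/-- `P_J ∩ n P_K n⁻¹` lies in the parabolic subgroups of the related generators. -/
theorem stab {J K : Set G} (hJ : J ⊆ P.S) (hK : K ⊆ P.S) {n u : G} (hn : n ∈ P.N) (hLn : LFree P J n)
    (hRn : RFree P K n) (hu : u ∈ P.parabolic J) (hy : n⁻¹ * u * n ∈ P.parabolic K) :
    u ∈ P.parabolic {j ∈ J | ∃ k ∈ K, Rel P n j k} ∧
      n⁻¹ * u * n ∈ P.parabolic {k ∈ K | ∃ j ∈ J, Rel P n j k} := by
  obtain ⟨c, hc, huc⟩ := mem_parabolic hJ hu
  obtain ⟨d, hd, hyd⟩ := mem_parabolic hK hy
  have h1 := mul_mem_dc_additive (sup_T_le_N hJ hc) hn (len_add_left hJ hn hLn hc) huc (self_mem_dc P n)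
  have h2 := mul_mem_dc_additive hn (sup_T_le_N hK hd) (len_add_of_RFree hK hn hRn hd) (self_mem_dc P n) hyd
  rw [show n * (n⁻¹ * u * n) = u * n by group] at h2
  have h := dc_inj' (mul_mem (sup_T_le_N hJ hc) hn) (mul_mem hn (sup_T_le_N hK hd)) h1 h2
  obtain ⟨g1, g2⟩ := key hJ hK hn hLn hRn _ c d hc hd le_rfl h
  exact ⟨dc_le_parabolic g1 huc, dc_le_parabolic g2 hyd⟩

theorem rel_unique {n j k k' : G} (hk : k ∈ P.S) (hk' : k' ∈ P.S) (h : Rel P n j k)
    (h' : Rel P n j k') : k = k' := by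
  refine P.inj k hk k' hk' ?_
  have := eqv_trans (eqv_symm h) h'
  simpa [mul_assoc] using this

section Finite

variable [Finite G] (P)

/-- The generators related to `J` by `n`. -/
noncomputable def lset (J : Finset G) (w : Idx P) : Finset G :=
  (gens P).filter fun k => ∃ j ∈ J, Rel P (rep P w) j k

/-- The right ascents. -/
noncomputable def aset (w : Idx P) : Finset G :=
  (gens P).filter fun s => len P (rep P w) < len P (rep P w * s)

/-- `w` conjugates `J` into the generators and has no left descents in `J`. -/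
def Good (J : Finset G) (w : Idx P) : Prop :=
  LFree P (J : Set G) (rep P w) ∧ ∀ j ∈ J, ∃ k ∈ P.S, Rel P (rep P w) j k

/-- The fixed cosets in the orbit of `w`. -/
abbrev Fix (g : G) (J : Finset G) (K : Set G) (w : Idx P) :=
  {d : G ⧸ P.parabolic K // g • d = d ∧
    ∃ p ∈ P.parabolic (J : Set G), d = ((p * rep P w : G) : G ⧸ P.parabolic K)}

variable {P}

theorem rfree_iff {K : Finset G} (hK : K ⊆ gens P) (w : Idx P) :
    RFree P (K : Set G) (rep P w) ↔ K ⊆ aset P w :=
  ⟨fun h s hs => Finset.mem_filter.2 ⟨hK hs, h s hs⟩, fun h s hs => (Finset.mem_filter.1 (h hs)).2⟩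

theorem lset_subset_gens (J : Finset G) (w : Idx P) : lset P J w ⊆ gens P := Finset.filter_subset _ _

theorem lset_subset_aset {J : Finset G} (hJ : J ⊆ gens P) {w : Idx P} (hw : Good P J w) :
    lset P J w ⊆ aset P w := by
  intro k hk
  obtain ⟨hkg, j, hj, hrel⟩ := Finset.mem_filter.1 hk
  refine Finset.mem_filter.2 ⟨hkg, ?_⟩
  rw [len_congr hrel]
  exact hw.1 j hj

variable {g : G} {J : Finset G}

/-- Within an orbit the map to larger parabolic cosets is injective. -/
theorem orbit_inj (hJ : J ⊆ gens P) {K : Finset G} (hK : K ⊆ gens P) {w : Idx P} (hw : Good P J w)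
    (hR : RFree P (K : Set G) (rep P w)) {p p' : G}
    (hp : p ∈ P.parabolic (J : Set G)) (hp' : p' ∈ P.parabolic (J : Set G))
    (h : ((p * rep P w : G) : G ⧸ P.parabolic (K : Set G)) = ((p' * rep P w : G) : G ⧸ P.parabolic (K : Set G))) :
    ((p * rep P w : G) : G ⧸ P.parabolic (lset P J w : Set G)) =
      ((p' * rep P w : G) : G ⧸ P.parabolic (lset P J w : Set G)) := by
  rw [QuotientGroup.eq] at h ⊢
  have e : (p * rep P w)⁻¹ * (p' * rep P w) = (rep P w)⁻¹ * (p⁻¹ * p') * rep P w := by group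
  rw [e] at h ⊢
  have hs := (stab (J := (J : Set G)) (K := (K : Set G)) (fun x hx => (mem_gens P).1 (hJ hx))
    (fun x hx => (mem_gens P).1 (hK hx)) (rep_mem P w) hw.1 hR (mul_mem (inv_mem hp) hp') h).2
  refine (sup_le_sup_left (Subgroup.closure_mono ?_) P.B :
    P.parabolic {k ∈ (K : Set G) | ∃ j ∈ (J : Set G), Rel P (rep P w) j k} ≤ P.parabolic (lset P J w : Set G)) hs
  rintro k ⟨hk, j, hj, hrel⟩
  exact Finset.mem_filter.2 ⟨hK hk, j, hj, hrel⟩

/-- The conditions on the orbits containing fixed points. -/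
def Cond (P : Cfsg.BNPair G) (J K : Finset G) (w : Idx P) : Prop :=
  Good P J w ∧ lset P J w ⊆ K ∧ RFree P (K : Set G) (rep P w)

theorem qmap_mk {A B : Subgroup G} (h : A ≤ B) (a : G) :
    Subgroup.quotientMapOfLE h ((a : G) : G ⧸ A) = ((a : G) : G ⧸ B) := rfl

theorem qmap_smul {A B : Subgroup G} (h : A ≤ B) (a : G) (d : G ⧸ A) :
    Subgroup.quotientMapOfLE h (a • d) = a • Subgroup.quotientMapOfLE h d := by
  induction d using QuotientGroup.induction_on with
  | H x => rfl

theorem cond_le {J K : Finset G} {w : Idx P} (h : Cond P J K w) :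
    P.parabolic (lset P J w : Set G) ≤ P.parabolic (K : Set G) :=
  sup_le_sup_left (Subgroup.closure_mono (Finset.coe_subset.2 h.2.1)) P.B

/-- The map of the fixed cosets of one orbit to larger parabolic cosets. -/
noncomputable def fixMap {K : Finset G} (x : Σ w : {w : Idx P // Cond P J K w},
    Fix P g J (lset P J w.1 : Set G) w.1) : fixedBy (G ⧸ P.parabolic (K : Set G)) g :=
  ⟨Subgroup.quotientMapOfLE (cond_le x.1.2) x.2.1,
    (qmap_smul (cond_le x.1.2) g x.2.1).symm.trans
      (congrArg (Subgroup.quotientMapOfLE (cond_le x.1.2)) x.2.2.1)⟩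

theorem card_fix (hJ : J ⊆ gens P) (hg : g ∈ P.parabolic (J : Set G))
    (hmin : ∀ J' ⊆ J, J' ≠ J → ∀ x : G, x⁻¹ * g * x ∉ P.parabolic (J' : Set G))
    {K : Finset G} (hK : K ⊆ gens P) [Fintype (Idx P)] :
    Nat.card (fixedBy (G ⧸ P.parabolic (K : Set G)) g) =
      ∑ w : {w : Idx P // Cond P J K w}, Nat.card (Fix P g J (lset P J w.1 : Set G) w.1) := by
  have hJS : (J : Set G) ⊆ P.S := fun x hx => (mem_gens P).1 (hJ hx)
  have hKS : (K : Set G) ⊆ P.S := fun x hx => (mem_gens P).1 (hK hx)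
  have hΦ : Function.Bijective (fixMap (P := P) (g := g) (J := J) (K := K)) := by
    constructor
    · rintro ⟨⟨w, hw⟩, ⟨d, hd, p, hp, rfl⟩⟩ ⟨⟨w', hw'⟩, ⟨d', hd', p', hp', rfl⟩⟩ h
      have h' : ((p * rep P w : G) : G ⧸ P.parabolic (K : Set G)) =
          ((p' * rep P w' : G) : G ⧸ P.parabolic (K : Set G)) :=
        ((qmap_mk (cond_le hw) (p * rep P w)).symm.trans (congrArg Subtype.val h)).trans (qmap_mk (cond_le hw') _)
      have hpp : InPP P (J : Set G) (K : Set G) (rep P w) (rep P w') :=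
        ⟨p'⁻¹ * p, mul_mem (inv_mem hp') hp, _, QuotientGroup.eq.1 h', by group⟩
      obtain rfl : w = w' := idx_eq P (free_unique hJS hKS (rep_mem P _) (rep_mem P _) hpp hw.1.1
        hw.2.2 hw'.1.1 hw'.2.2)
      exact Sigma.ext rfl (heq_of_eq (Subtype.ext (orbit_inj hJ hK hw.1 hw.2.2 hp hp' h')))
    · rintro ⟨d, hd⟩
      induction d using QuotientGroup.induction_on with
      | H x =>
      obtain ⟨n, hn, ⟨p, hp, q, hq, hpq⟩, -, hL, hR⟩ := exists_min hJS hKS x
      obtain ⟨w, hw⟩ := exists_idx P hn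
      have hL' := hL.congr hJS hw
      have hR' := hR.congr hKS hn (rep_mem P w) hw
      have ex : (x : G ⧸ P.parabolic (K : Set G)) = ((p⁻¹ * rep P w : G) : G ⧸ P.parabolic (K : Set G)) := by
        rw [QuotientGroup.eq]
        have e : x⁻¹ * (p⁻¹ * rep P w) = q * (n⁻¹ * rep P w) := by rw [hpq]; group
        rw [e]
        exact mul_mem hq (B_le_parabolic hw)
      rw [mem_fixedBy] at hd
      rw [ex, MulAction.Quotient.smul_coe, smul_eq_mul, QuotientGroup.eq] at hd
      have hu : p * g * p⁻¹ ∈ P.parabolic (J : Set G) := mul_mem (mul_mem hp hg) (inv_mem hp)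
      have hy : (rep P w)⁻¹ * (p * g * p⁻¹) * rep P w ∈ P.parabolic (K : Set G) := by
        have := inv_mem hd
        simpa [mul_assoc] using this
      have hs := stab hJS hKS (rep_mem P w) hL' hR' hu hy
      have hall : J.filter (fun j => ∃ k ∈ K, Rel P (rep P w) j k) = J := by
        by_contra hne
        refine hmin _ (Finset.filter_subset _ _) hne p⁻¹ ?_
        rw [inv_inv, Finset.coe_filter]
        exact hs.1
      have hgood : Good P J w := ⟨hL', fun j hj => by
        rw [← hall] at hj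
        obtain ⟨-, k, hk, hrel⟩ := Finset.mem_filter.1 hj
        exact ⟨k, hKS hk, hrel⟩⟩
      have hsub : lset P J w ⊆ K := by
        intro k hk
        obtain ⟨hkg, j, hj, hrel⟩ := Finset.mem_filter.1 hk
        rw [← hall] at hj
        obtain ⟨-, k', hk', hrel'⟩ := Finset.mem_filter.1 hj
        rw [rel_unique ((mem_gens P).1 hkg) (hKS hk') hrel hrel']
        exact hk'
      refine ⟨⟨⟨w, hgood, hsub, hR'⟩,
        ⟨((p⁻¹ * rep P w : G) : G ⧸ P.parabolic (lset P J w : Set G)), ?_, p⁻¹, inv_mem hp, rfl⟩⟩,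
        Subtype.ext ((qmap_mk (cond_le (P := P) (J := J) (K := K) (w := w) ⟨hgood, hsub, hR'⟩) (p⁻¹ * rep P w)).trans ex.symm)⟩
      rw [MulAction.Quotient.smul_coe, smul_eq_mul, ← mul_assoc]
      exact orbit_inj hJ hK hgood hR' (mul_mem hg (inv_mem hp)) (inv_mem hp)
        (by rw [mul_assoc]; exact QuotientGroup.eq.2 hd)
  rw [← Nat.card_congr (Equiv.ofBijective _ hΦ), Nat.card_sigma]

theorem sum_interval {L A S : Finset G} (hAS : A ⊆ S) (hLA : L ⊆ A) :
    ∑ K ∈ S.powerset.filter (fun K => L ⊆ K ∧ K ⊆ A), (-1 : ℂ) ^ K.card =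
      if A = L then (-1 : ℂ) ^ L.card else 0 := by
  have h1 : S.powerset.filter (fun K => L ⊆ K ∧ K ⊆ A) = (A \ L).powerset.image (fun T => L ∪ T) := by
    ext K
    simp only [Finset.mem_filter, Finset.mem_powerset, Finset.mem_image]
    constructor
    · rintro ⟨-, hLK, hKA⟩
      exact ⟨K \ L, Finset.sdiff_subset_sdiff hKA (Finset.Subset.refl _), Finset.union_sdiff_of_subset hLK⟩
    · rintro ⟨T, hT, rfl⟩
      have : L ∪ T ⊆ A := Finset.union_subset hLA (hT.trans Finset.sdiff_subset)
      exact ⟨this.trans hAS, Finset.subset_union_left, this⟩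
  rw [h1, Finset.sum_image]
  · have h2 : ∀ T ∈ (A \ L).powerset, (-1 : ℂ) ^ (L ∪ T).card = (-1) ^ L.card * (-1) ^ T.card := by
      intro T hT
      rw [← pow_add, Finset.card_union_of_disjoint]
      exact Finset.disjoint_left.2 fun x hx hx' => (Finset.mem_sdiff.1 (Finset.mem_powerset.1 hT hx')).2 hx
    rw [Finset.sum_congr rfl h2, ← Finset.mul_sum]
    have h3 : (∑ T ∈ (A \ L).powerset, (-1 : ℂ) ^ T.card) = if A \ L = ∅ then 1 else 0 := by
      have := congrArg (fun z : ℤ => (z : ℂ)) (Finset.sum_powerset_neg_one_pow_card (x := A \ L))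
      simpa using this
    rw [h3]
    by_cases h : A = L
    · rw [if_pos h, if_pos (by rw [h, Finset.sdiff_self]), mul_one]
    · rw [if_neg h, if_neg (fun he => h (Finset.Subset.antisymm (Finset.sdiff_eq_empty_iff_subset.1 he) hLA)),
        mul_zero]
  · intro T hT T' hT' he
    simp only [Finset.coe_powerset, Set.mem_preimage, Set.mem_powerset_iff, Finset.coe_subset] at hT hT'
    ext x
    constructor
    · intro hx
      have : x ∈ L ∪ T' := by
        have h' : x ∈ (fun T => L ∪ T) T := Finset.mem_union_right _ hx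
        rw [he] at h'
        exact h'
      exact (Finset.mem_union.1 this).resolve_left (Finset.mem_sdiff.1 (hT hx)).2
    · intro hx
      have : x ∈ L ∪ T := by
        have h' : x ∈ (fun T => L ∪ T) T' := Finset.mem_union_right _ hx
        rw [← he] at h'
        exact h'
      exact (Finset.mem_union.1 this).resolve_left (Finset.mem_sdiff.1 (hT' hx)).2

theorem n0_add_left {x : G} (hx : x ∈ P.N) :
    len P (n0 P) = len P x + len P (x⁻¹ * n0 P) := by
  have hA : AllDesc P (n0 P)⁻¹ := fun s hs => by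
    have e := len_inv (mul_mem (inv_mem (S_mem_N hs)) (n0_mem P))
    rw [mul_inv_rev, inv_inv, len_mul_S_inv (n0_mem P) hs] at e
    rw [len_inv (n0_mem P), e]
    exact n0_left P hs
  have h := len_eq_add_of_allDesc (inv_mem (n0_mem P)) hA (inv_mem hx)
  rw [inv_inv, len_inv (n0_mem P), len_inv hx] at h
  have e := len_inv (mul_mem (inv_mem hx) (n0_mem P))
  rw [mul_inv_rev, inv_inv] at e
  omega

theorem len_mul_S_lt {J : Set G} (hJ : J ⊆ P.S) {x : G} (hx : x ∈ Subgroup.closure J ⊔ (P.B ⊓ P.N))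
    (hmax : ∀ y ∈ Subgroup.closure J ⊔ (P.B ⊓ P.N), len P y ≤ len P x) {j : G} (hj : j ∈ J) :
    len P (x * j) < len P x := by
  have h1 := hmax (x * j) (mul_mem hx (Subgroup.mem_sup_left (Subgroup.subset_closure hj)))
  have h2 := len_cases_right (hJ hj) (sup_T_le_N hJ hx)
  omega

/-- Good representatives all of whose ascents come from `J`. -/
theorem exists_unique_top (hJ : J ⊆ gens P) :
    ∃ w, Good P J w ∧ aset P w = lset P J w ∧
      ∀ w', Good P J w' → aset P w' = lset P J w' → w' = w := by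
  have hJS : (J : Set G) ⊆ P.S := fun x hx => (mem_gens P).1 (hJ hx)
  obtain ⟨⟨x, hx⟩, hmax'⟩ := Finite.exists_max
    (fun y : ↥(Subgroup.closure (J : Set G) ⊔ (P.B ⊓ P.N)) => len P (y : G))
  have hmax : ∀ y ∈ Subgroup.closure (J : Set G) ⊔ (P.B ⊓ P.N), len P y ≤ len P x :=
    fun y hy => hmax' ⟨y, hy⟩
  have hxN := sup_T_le_N hJS hx
  have htop : ∀ w', Good P J w' → aset P w' = lset P J w' → (n0 P)⁻¹ * (x * rep P w') ∈ P.B := by
    intro w' hw hAL
    have hn := rep_mem P w'
    have hdesc : AllDesc P (x * rep P w') := by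
      intro s hs
      have hxn := len_add_left hJS hn hw.1 hx
      by_cases hsA : s ∈ aset P w'
      · rw [hAL] at hsA
        obtain ⟨-, j, hj, hrel⟩ := Finset.mem_filter.1 hsA
        have e1 : len P (x * (rep P w' * s)) = len P (x * (j * rep P w')) := len_congr (eqv_left hrel)
        have e2 := len_mul_S_lt hJS hx hmax (Finset.mem_coe.2 hj)
        have e3 := len_mul_le (mul_mem hxN (S_mem_N (hJS hj))) hn
        rw [mul_assoc] at e3 ⊢
        omega
      · have e1 : ¬ len P (rep P w') < len P (rep P w' * s) := fun h =>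
          hsA (Finset.mem_filter.2 ⟨(mem_gens P).2 hs, h⟩)
        have e2 := len_cases_right hs hn
        have e3 := len_mul_le hxN (mul_mem hn (S_mem_N hs))
        rw [mul_assoc]
        omega
    obtain ⟨v, hv⟩ := exists_idx P (mul_mem hxN hn)
    have hv' : AllDesc P (rep P v) := fun s hs => by
      rw [len_congr (eqv_right (mul_mem hxN hn) (rep_mem P v) (S_mem_N hs) hv), len_congr hv]
      exact hdesc s hs
    rw [eq_w0 P hv'] at hv
    exact eqv_symm hv
  obtain ⟨w, hw⟩ := exists_idx P (mul_mem (inv_mem hxN) (n0_mem P))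
  set n := rep P w
  have hn : n ∈ P.N := rep_mem P w
  have hxn0 : (x * n)⁻¹ * n0 P ∈ P.B := by
    have := eqv_left (c := x) (eqv_symm hw)
    simpa [mul_assoc] using this
  have hn0 : len P (n0 P) = len P x + len P n := by
    rw [n0_add_left hxN, len_congr hw]
  have hLF : LFree P (J : Set G) n := by
    intro j hj
    have hjS := hJS hj
    have h1 := len_mul_S_lt hJS hx hmax hj
    have h2 := len_mul_le (mul_mem hxN (inv_mem (S_mem_N hjS))) (mul_mem (S_mem_N hjS) hn)
    have e : x * j⁻¹ * (j * n) = x * n := by group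
    rw [e, ← len_congr hxn0] at h2
    have e2 : len P (x * j⁻¹) = len P (x * j) := by
      refine (len_congr ?_).symm
      have e3 : (x * j⁻¹)⁻¹ * (x * j) = j * j := by group
      rw [e3]
      exact P.sq_mem j hjS
    omega
  have hgood : Good P J w := by
    refine ⟨hLF, fun j hj => ?_⟩
    have hjS := hJS (Finset.mem_coe.2 hj)
    have hjN := S_mem_N hjS
    have hk : n⁻¹ * j * n ∈ P.N := mul_mem (mul_mem (inv_mem hn) hjN) hn
    have h1 := len_eq_add_of_allDesc (n0_mem P) (n0_allDesc P) hk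
    have e1 : len P (n0 P * (n⁻¹ * j * n)⁻¹) = len P (x * j⁻¹ * n) := by
      have hkk := inv_mem hk
      have := len_congr (eqv_right (mul_mem hxN hn) (n0_mem P) hkk hxn0)
      rw [this]
      congr 1
      group
    have e2 : len P (x * j⁻¹ * n) = len P (x * j⁻¹) + len P n :=
      len_add_left hJS hn hLF (mul_mem hx (inv_mem (Subgroup.mem_sup_left (Subgroup.subset_closure hj))))
    have e3 : len P (x * j⁻¹) = len P (x * j) := by
      refine (len_congr ?_).symm
      have e4 : (x * j⁻¹)⁻¹ * (x * j) = j * j := by group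
      rw [e4]
      exact P.sq_mem j hjS
    have e5 := len_mul_S_lt hJS hx hmax (Finset.mem_coe.2 hj)
    have e6 := len_cases_right hjS hxN
    have hk1 : len P (n⁻¹ * j * n) = 1 := by omega
    obtain ⟨L, hL, hLl⟩ := exists_red hk
    rw [hk1] at hLl
    obtain ⟨k, rfl⟩ := List.length_eq_one_iff.1 hLl
    refine ⟨k, hL.1 k (by simp), ?_⟩
    have := eqv_symm hL.2
    simpa [Rel, mul_assoc] using this
  have hwA : aset P w = lset P J w := by
    refine Finset.Subset.antisymm ?_ (lset_subset_aset hJ hgood)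
    intro s hs
    obtain ⟨hsg, hup⟩ := Finset.mem_filter.1 hs
    have hsS := (mem_gens P).1 hsg
    have hns := mul_mem hn (S_mem_N hsS)
    replace hup : len P n < len P (n * s) := hup
    by_cases hLFs : LFree P (J : Set G) (n * s)
    · exfalso
      have e1 := len_add_left hJS hns hLFs hx
      have e2 := n0_allDesc P s hsS
      rw [len_congr (eqv_right (mul_mem hxN hn) (n0_mem P) (S_mem_N hsS) hxn0), mul_assoc] at e2
      have := len_cases_right hsS hn
      omega
    · unfold LFree at hLFs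
      push Not at hLFs
      obtain ⟨j, hj, hjle⟩ := hLFs
      have hjS := hJS hj
      have hjns := len_cases hjS hns
      have hRF : RFree P (J : Set G) n⁻¹ := by
        intro i hi
        have hiS := hJS hi
        have e := len_inv (mul_mem (inv_mem (S_mem_N hiS)) hn)
        rw [mul_inv_rev, inv_inv, len_mul_S_inv hn hiS] at e
        rw [len_inv hn, e]
        exact hLF i hi
      have hd := deodhar hJS (inv_mem hn) hRF hsS hj
        (by rw [len_inv hn, len_inv_mul hn hsS]; exact hup) (by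
          rw [len_inv_mul hn hsS]
          have hsn : s * n⁻¹ ∈ P.N := mul_mem (S_mem_N hsS) (inv_mem hn)
          have f1 := len_inv (mul_mem hsn (S_mem_N hjS))
          rw [mul_inv_rev, mul_inv_rev, inv_inv, len_mul_S_inv (mul_mem hn (inv_mem (S_mem_N hsS))) hjS] at f1
          have f2 : len P (j * (n * s⁻¹)) = len P (j * (n * s)) := by
            refine (len_congr ?_).symm
            have f3 : (j * (n * s⁻¹))⁻¹ * (j * (n * s)) = s * s := by group
            rw [f3]
            exact P.sq_mem s hsS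
          omega)
      refine Finset.mem_filter.2 ⟨hsg, j, hj, ?_⟩
      have u1 := eqv_inv (mul_mem (S_mem_N hsS) (inv_mem hn)) (mul_mem (inv_mem hn) (S_mem_N hjS)) hd
      have u2 : s * n⁻¹ * j⁻¹ * n ∈ P.B ⊓ P.N := by
        refine Subgroup.mem_inf.2 ⟨by simpa [mul_assoc] using u1, ?_⟩
        exact mul_mem (mul_mem (mul_mem (S_mem_N hsS) (inv_mem hn)) (inv_mem (S_mem_N hjS))) hn
      have u3 := (conj_T' (S_mem_N hsS) u2).1
      have u4 : (j * n)⁻¹ * (n * s) = s⁻¹ * (s * n⁻¹ * j⁻¹ * n) * s := by group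
      show (j * n)⁻¹ * (n * s) ∈ P.B
      rw [u4]
      exact u3
  refine ⟨w, hgood, hwA, fun w' hw' hAL => ?_⟩
  have h1 := eqv_trans (eqv_symm (htop w' hw' hAL)) (htop w hgood hwA)
  exact idx_eq P (by simpa [mul_assoc] using h1)

/-- The value at an element of a minimal parabolic subgroup. -/
theorem st_minimal (hJ : J ⊆ gens P) (hg : g ∈ P.parabolic (J : Set G))
    (hmin : ∀ J' ⊆ J, J' ≠ J → ∀ x : G, x⁻¹ * g * x ∉ P.parabolic (J' : Set G)) :
    ∃ w : Idx P, ∃ L : Finset G, L ⊆ gens P ∧ (∀ j ∈ J, ∃ k ∈ L, Rel P (rep P w) j k) ∧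
      (st P g = (Nat.card (Fix P g J (L : Set G) w) : ℂ) ∨
        st P g = -(Nat.card (Fix P g J (L : Set G) w) : ℂ)) := by
  haveI : Fintype (Idx P) := Fintype.ofFinite _
  obtain ⟨w, hw, hwA, huniq⟩ := exists_unique_top (P := P) hJ
  refine ⟨w, lset P J w, lset_subset_gens J w, fun j hj => ?_, ?_⟩
  · obtain ⟨k, hk, hrel⟩ := hw.2 j hj
    exact ⟨k, Finset.mem_filter.2 ⟨(mem_gens P).2 hk, j, hj, hrel⟩, hrel⟩
  let F : Idx P → ℂ := fun v => (Nat.card (Fix P g J (lset P J v : Set G) v) : ℂ)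
  have h1 : ∀ K ∈ (gens P).powerset, (-1 : ℂ) ^ K.card * fixedPointCharacter (P.parabolic (K : Set G)) g =
      ∑ v : Idx P, (if Cond P J K v then (-1 : ℂ) ^ K.card * F v else 0) := by
    intro K hK
    rw [fixedPointCharacter, card_fix hJ hg hmin (Finset.mem_powerset.1 hK), Nat.cast_sum,
      Finset.mul_sum, ← Finset.sum_filter,
      Finset.sum_subtype (p := fun v : Idx P => Cond P J K v) (Finset.univ.filter fun v => Cond P J K v)
        (by simp) (fun v => (-1 : ℂ) ^ K.card * F v)]
  have h2 : ∀ v : Idx P, ∑ K ∈ (gens P).powerset, (if Cond P J K v then (-1 : ℂ) ^ K.card * F v else 0) =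
      if Good P J v ∧ aset P v = lset P J v then (-1 : ℂ) ^ (lset P J v).card * F v else 0 := by
    intro v
    by_cases hv : Good P J v
    · rw [← Finset.sum_filter, ← Finset.sum_mul, Finset.filter_congr
        (q := fun K => lset P J v ⊆ K ∧ K ⊆ aset P v) (fun K hK => by
          simp only [Cond, hv, true_and, rfree_iff (Finset.mem_powerset.1 hK)]),
        sum_interval (S := gens P) (A := aset P v) (Finset.filter_subset _ _) (lset_subset_aset hJ hv)]
      simp only [hv, true_and, ite_mul, zero_mul]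
    · simp [Cond, hv]
  have h3 : st P g = (-1 : ℂ) ^ (lset P J w).card * F w := by
    rw [st, Finset.sum_congr rfl h1, Finset.sum_comm, Finset.sum_congr rfl (fun v _ => h2 v),
      Finset.sum_eq_single w, if_pos ⟨hw, hwA⟩]
    · intro v _ hne
      exact if_neg fun h => hne (huniq v h.1 h.2)
    · simp
  rw [h3]
  rcases neg_one_pow_eq_or ℂ (lset P J w).card with h | h <;> rw [h]
  · exact Or.inl (one_mul _)
  · exact Or.inr (neg_one_mul _)

end Finite

end Cfsg.Agent.H49.StSS
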