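import Cfsg.Agent.H48.Local
import Cfsg.Agent.H49.WeakClosure
import Cfsg.Agent.Fusion.TransferInduction
import Cfsg.Agent.Fusion.PComplement
import Cfsg.Agent.Cores.PCore
import Mathlib

/-!
Strong fusion controlled by isomorphism-invariant functors, from the constrained sections to all sections.
-/

set_option autoImplicit false
set_option linter.style.haveILetI false
set_option linter.unusedSectionVars false

namespace Cfsg.Agent.H48

open Subgroup

/-! ### Generalities on `Steps` and `Agree` -/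

section Basic

variable {G : Type*} [Group G] {M M' T T' : Set G}

theorem Agree.of_mem {A : Set G} {x : G} (hA : A ⊆ T) (hA' : limg A x ⊆ T) (hx : x ∈ M) :
    Agree M T A x :=
  ⟨1 * x, Steps.cons A x 1 hA hx (Steps.nil _ hA'), fun a _ => by rw [one_mul]⟩

theorem Agree.refl {A : Set G} (hA : A ⊆ T) : Agree M T A 1 :=
  ⟨1, Steps.nil A hA, fun _ _ => rfl⟩

theorem Agree.congr {A : Set G} {g h : G} (h1 : Agree M T A g)
    (e : ∀ a ∈ A, g * a * g⁻¹ = h * a * h⁻¹) : Agree M T A h := by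
  obtain ⟨k, hk, e'⟩ := h1
  exact ⟨k, hk, fun a ha => (e' a ha).trans (e a ha)⟩

/-- Replace every step by a composite of other steps. -/
theorem Agree.bind (hT : T ⊆ T')
    (hM : ∀ x ∈ M, ∀ B : Set G, B ⊆ T → limg B x ⊆ T → Agree M' T' B x) {A : Set G} {h : G}
    (hA : Agree M T A h) : Agree M' T' A h := by
  obtain ⟨g, hg, e⟩ := hA
  refine Agree.congr ?_ e
  clear e
  induction hg with
  | nil A hA => exact Agree.refl (hA.trans hT)
  | cons A x g hA hx h ih => exact (hM x hx A hA h.subset).trans ih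

theorem Steps.symm (hM : ∀ x ∈ M, x⁻¹ ∈ M) {A : Set G} {g : G} (h : Steps M T A g) :
    Steps M T (limg A g) g⁻¹ := by
  induction h with
  | nil A hA => simpa [limg_one] using Steps.nil (M := M) A hA
  | cons A x g hA hx h ih =>
    rw [mul_inv_rev, ← limg_limg]
    refine ih.trans ?_
    rw [limg_limg, inv_mul_cancel, limg_one]
    simpa using Steps.cons (T := T) (limg A x) x⁻¹ 1 h.subset (hM x hx)
      (Steps.nil _ (by rw [limg_limg, inv_mul_cancel, limg_one]; exact hA))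

theorem Steps.map {H : Type*} [Group H] (f : G →* H) {M₂ T₂ : Set H} (hM : ∀ x ∈ M, f x ∈ M₂)
    (hT : ∀ x ∈ T, f x ∈ T₂) {A : Set G} {g : G} (h : Steps M T A g) :
    Steps M₂ T₂ (f '' A) (f g) := by
  induction h with
  | nil A hA => rw [map_one]; exact Steps.nil _ (Set.image_subset_iff.mpr fun a ha => hT a (hA ha))
  | cons A x g hA hx h ih =>
    rw [map_mul]
    refine Steps.cons _ _ _ (Set.image_subset_iff.mpr fun a ha => hT a (hA ha)) (hM x hx) ?_
    have e : f '' limg A x = limg (f '' A) (f x) := by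
      simp only [limg, Set.image_image, map_mul, map_inv]
    rwa [e] at ih

theorem Agree.map {H : Type*} [Group H] (f : G →* H) {M₂ T₂ : Set H} (hM : ∀ x ∈ M, f x ∈ M₂)
    (hT : ∀ x ∈ T, f x ∈ T₂) {A : Set G} {g : G} (h : Agree M T A g) :
    Agree M₂ T₂ (f '' A) (f g) := by
  obtain ⟨k, hk, e⟩ := h
  refine ⟨f k, hk.map f hM hT, ?_⟩
  rintro _ ⟨a, ha, rfl⟩
  simp only [← map_inv, ← map_mul, e a ha]

end Basic

end Cfsg.Agent.H48

namespace Cfsg.Agent.H49

open Subgroup
open Cfsg.Agent.H48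

universe u

/-! ### Control of strong fusion by a family of functors -/

variable (𝓦 : Set (∀ (Q : Type u) [Group Q], Subgroup Q))

/-- The union of the normalizers of the `W(S)`. -/
def stepSet {G : Type u} [Group G] (S : Subgroup G) : Set G :=
  {x | ∃ W ∈ 𝓦, x ∈ normalizer ((inducedFunctor W S : Subgroup G) : Set G)}

/-- The family controls strong fusion in `G`, at every Sylow `p`-subgroup. -/
def SFC (p : ℕ) (G : Type u) [Group G] : Prop :=
  ∀ S : Sylow p G, ∀ (A : Set G) (h : G), A ⊆ (S : Subgroup G) → limg A h ⊆ (S : Subgroup G) →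
    Agree (stepSet 𝓦 (S : Subgroup G)) ((S : Subgroup G) : Set G) A h

variable {𝓦} {p : ℕ} [hp : Fact p.Prime]

theorem stepSet_inv {G : Type u} [Group G] (S : Subgroup G) :
    ∀ x ∈ stepSet 𝓦 S, x⁻¹ ∈ stepSet 𝓦 S := fun _ ⟨W, hW, hx⟩ => ⟨W, hW, inv_mem hx⟩

theorem mem_stepSet_of_mem {G : Type u} [Group G] [Finite G] (h𝓦 : ∀ W ∈ 𝓦, IsCharPFunctor.{u} p W)
    (hne : 𝓦.Nonempty) {S : Subgroup G} (hS : IsPGroup p S) {x : G}
    (hx : x ∈ normalizer (S : Set G)) : x ∈ stepSet 𝓦 S := by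
  obtain ⟨W, hW⟩ := hne
  exact ⟨W, hW, Fusion.normalizer_le_normalizer_inducedFunctor (h𝓦 W hW) hS hx⟩

/-- Strong fusion inside a subgroup, seen in the group. -/
theorem agree_of_subgroup {G : Type u} [Group G] [Finite G] (h𝓦 : ∀ W ∈ 𝓦, IsCharPFunctor.{u} p W)
    {H R : Subgroup G} (hR : IsSylowIn p R H) (hH : SFC 𝓦 p ↥H) {A : Set G} {h : G} (hh : h ∈ H)
    (hA : A ⊆ (R : Set G)) (hA' : limg A h ⊆ (R : Set G)) :
    Agree {x | x ∈ H ∧ x ∈ stepSet 𝓦 R} (R : Set G) A h := by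
  have hcoe : (hR.toSylow : Subgroup H) = R.subgroupOf H := hR.coe_toSylow
  have hAH : A ⊆ (H : Set G) := hA.trans hR.le
  have e : A = H.subtype '' (H.subtype ⁻¹' A) := by
    rw [Set.image_preimage_eq_inter_range, Set.inter_eq_left.mpr]
    exact hAH.trans (fun a ha => ⟨⟨a, ha⟩, rfl⟩)
  have h1 := hH hR.toSylow (H.subtype ⁻¹' A) ⟨h, hh⟩ (fun a ha => by rw [hcoe]; exact hA ha) (by
    rintro _ ⟨a, ha, rfl⟩
    rw [hcoe]
    exact hA' ⟨(a : G), ha, rfl⟩)
  rw [hcoe] at h1
  have h2 := h1.map H.subtype (M₂ := {x | x ∈ H ∧ x ∈ stepSet 𝓦 R}) (T₂ := (R : Set G)) ?_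
    (fun x hx => hx)
  · rwa [← e] at h2
  · rintro x ⟨W, hW, hx⟩
    refine ⟨x.2, W, hW, ?_⟩
    have he := Fusion.inducedFunctor_map (h𝓦 W hW) H.subtype H.subtype_injective
      (P := R.subgroupOf H) hR.isPGroup.comap_subtype
    rw [map_subgroupOf_eq_of_le hR.le] at he
    rw [he]
    exact le_normalizer_map H.subtype ⟨x, hx, rfl⟩

/-- Strong fusion inside a subgroup containing the Sylow subgroup. -/
theorem agree_of_le {G : Type u} [Group G] [Finite G] (h𝓦 : ∀ W ∈ 𝓦, IsCharPFunctor.{u} p W)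
    (S : Sylow p G) {H : Subgroup G} (hle : (S : Subgroup G) ≤ H) (hH : SFC 𝓦 p ↥H) {A : Set G}
    {h : G} (hh : h ∈ H) (hA : A ⊆ (S : Subgroup G)) (hA' : limg A h ⊆ (S : Subgroup G)) :
    Agree (stepSet 𝓦 (S : Subgroup G)) ((S : Subgroup G) : Set G) A h := by
  have hR : IsSylowIn p (S : Subgroup G) H := ⟨hle, S.isPGroup', fun hd =>
    S.not_dvd_index (hd.trans (Subgroup.relIndex_dvd_index_of_le hle))⟩
  exact (agree_of_subgroup h𝓦 hR hH hh hA hA').bind le_rfl
    fun x hx B hB hB' => Agree.of_mem hB hB' hx.2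

/-! ### The three reductions -/

variable {X : Type u} [Group X] [Finite X]

/-- No nontrivial normal `p`-subgroup: induction over the local subgroups. -/
theorem sfc_of_pCore_eq_bot (h𝓦 : ∀ W ∈ 𝓦, IsCharPFunctor.{u} p W) (hQ : pCore p X = ⊥)
    (ih : ∀ H : Subgroup X, H ≠ ⊤ → SFC 𝓦 p ↥H) : SFC 𝓦 p X := by
  intro S A h hA hA'
  have hS := S.isPGroup'
  set P : Subgroup X := (S : Subgroup X) with hP
  have hprop : ∀ V : Subgroup X, V ≤ P → V ≠ ⊥ → normalizer (V : Set X) ≠ ⊤ := fun V hV hne he => by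
    haveI : V.Normal := normalizer_eq_top_iff.mp he
    exact hne (le_bot_iff.mp (hQ ▸ Cores.le_pCore (hS.to_le hV)))
  let Rel : Set X → X → Prop := fun B y => Agree (stepSet 𝓦 P) (P : Set X) B y
  let Φ : Subgroup X → Prop := fun V => ∀ (B : Set X) (y : X), y ∈ normalizer (V : Set X) →
    B ⊆ ((P ⊓ normalizer (V : Set X) : Subgroup X) : Set X) →
    limg B y ⊆ ((P ⊓ normalizer (V : Set X) : Subgroup X) : Set X) → Rel B y
  have hkey := local_induction S Rel Φ (fun _ _ _ h1 h2 => h1.trans h2)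
    (fun _ _ _ h1 h2 => h1.mono h2) ?_ (fun V _ _ _ hΦ B y hy h1 h2 => hΦ B y hy h1 h2) ?_
  · by_cases hT : Subgroup.closure A = ⊥
    · refine (Agree.refl hA).congr fun a ha => ?_
      have : a = 1 := mem_bot.mp (hT ▸ subset_closure ha)
      subst this; simp
    refine (hkey.1 (Subgroup.closure A) ((closure_le P).mpr hA) hT h ?_).mono subset_closure
    rw [show cj h (Subgroup.closure A) = _ from MonoidHom.map_closure _ A, closure_le]
    exact hA'
  · intro V hV hne hR hrec B y hy hB hB'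
    refine (agree_of_subgroup h𝓦 hR (ih _ (hprop V hV hne)) hy hB hB').bind
      (fun x hx => hx.1) ?_
    rintro x ⟨hxV, W, hW, hxW⟩ C hC hC'
    set R := P ⊓ normalizer (V : Set X)
    by_cases hRS : R = P
    · exact Agree.of_mem (fun c hc => (hC hc).1) (fun c hc => (hC' hc).1) ⟨W, hW, hRS ▸ hxW⟩
    · have hWR : inducedFunctor W R ≤ P := (Fusion.inducedFunctor_le R).trans inf_le_left
      have hRne : R ≠ ⊥ := fun hb => hne (le_bot_iff.mp (hb ▸ le_inf hV le_normalizer))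
      have hle : P ⊓ normalizer (R : Set X) ≤
          P ⊓ normalizer ((inducedFunctor W R : Subgroup X) : Set X) :=
        inf_le_inf_left _ (Fusion.normalizer_le_normalizer_inducedFunctor (h𝓦 W hW)
          (hS.to_le inf_le_left))
      have hRle : R ≤ P ⊓ normalizer ((inducedFunctor W R : Subgroup X) : Set X) :=
        (le_inf inf_le_left le_normalizer).trans hle
      exact hrec _ hWR (Fusion.inducedFunctor_ne_bot (h𝓦 W hW) (hS.to_le inf_le_left) hRne)
        ((card_lt_card_inf_normalizer hS inf_le_left hRS).trans_le (Subgroup.card_le_of_le hle))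
        C x hxW (hC.trans hRle) (hC'.trans hRle)
  · intro V k hV hne hle hsyl h1 h2 hΦ B y hy hB hB'
    have hy' : k * y * k⁻¹ ∈ normalizer ((cj k V : Subgroup X) : Set X) := by
      rw [← cj_normalizer]; exact conj_mem_cj hy
    have hsub : ∀ C : Set X, C ⊆ ((P ⊓ normalizer (V : Set X) : Subgroup X) : Set X) →
        limg C k ⊆ ((cj k (P ⊓ normalizer (V : Set X)) : Subgroup X) : Set X) := by
      rintro C hC _ ⟨c, hc, rfl⟩; exact conj_mem_cj (hC hc)
    have hB1 : Rel B k := h1.mono hB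
    have hB2 : Rel (limg B k) (k * y * k⁻¹) := by
      refine hΦ _ _ hy' ((hsub B hB).trans hle) ?_
      rw [limg_limg, inv_mul_cancel_right, ← limg_limg]
      exact (hsub _ hB').trans hle
    have hB3 : Rel (limg (limg B k) (k * y * k⁻¹)) k⁻¹ := by
      refine h2.mono ?_
      rw [limg_limg, inv_mul_cancel_right, ← limg_limg]
      exact hsub _ hB'
    have h4 : Rel B (k⁻¹ * (k * y * k⁻¹ * k)) := (hB1.trans hB2).trans (by
      rw [← limg_limg]; exact hB3)
    simpa [mul_assoc] using h4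

/-- The normalizer of the image of `W(S)` modulo a normal `p'`-subgroup. -/
theorem normalizer_inducedFunctor_quotient {W : ∀ (Q : Type u) [Group Q], Subgroup Q}
    (hW : IsCharPFunctor.{u} p W) (S : Sylow p X) (M : Subgroup X) [M.Normal]
    (hM : ¬ p ∣ Nat.card M) {x : X}
    (hx : QuotientGroup.mk' M x ∈ normalizer
      ((inducedFunctor W ((S : Subgroup X).map (QuotientGroup.mk' M)) : Subgroup (X ⧸ M)) : Set (X ⧸ M))) :
    ∃ n ∈ normalizer ((inducedFunctor W (S : Subgroup X) : Subgroup X) : Set X),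
      QuotientGroup.mk' M n = QuotientGroup.mk' M x := by
  set q := QuotientGroup.mk' M
  set U := inducedFunctor W (S : Subgroup X) with hU
  have hUS : U ≤ (S : Subgroup X) := Fusion.inducedFunctor_le _
  have hinj : ∀ z ∈ (S : Subgroup X), q z = 1 → z = 1 := fun z hz hz1 => by
    have hzM : z ∈ M := (QuotientGroup.eq_one_iff z).mp hz1
    obtain ⟨k, hk⟩ := S.isPGroup' ⟨z, hz⟩
    have hzk : z ^ p ^ k = 1 := by simpa using congrArg Subtype.val hk
    exact orderOf_eq_one_iff.mp (Nat.eq_one_of_dvd_coprimes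
      (Nat.Coprime.pow_left k (hp.out.coprime_iff_not_dvd.mpr hM))
      (orderOf_dvd_of_pow_eq_one hzk) (M.orderOf_dvd_natCard hzM))
  rw [Fusion.inducedFunctor_map_of_injOn hW q S.isPGroup' hinj] at hx
  set Y := (U.map q).comap q with hY
  have hUY : U ≤ Y := fun z hz => ⟨z, hz, rfl⟩
  have hUsyl : IsSylowIn p U Y := by
    refine ⟨hUY, S.isPGroup'.to_le hUS, fun hd => hM ?_⟩
    have hY' : Y = U ⊔ M := by rw [hY, comap_map_eq, QuotientGroup.ker_mk']
    rw [hY'] at hd
    have e1 := Subgroup.relIndex_mul_relIndex ⊥ U (U ⊔ M) bot_le le_sup_left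
    have e2 := Subgroup.relIndex_mul_relIndex ⊥ M (U ⊔ M) bot_le le_sup_right
    rw [relIndex_bot_left, relIndex_bot_left] at e1 e2
    rw [Subgroup.relIndex_sup_right, ← e1] at e2
    obtain ⟨r, hr⟩ := hd
    obtain ⟨t, ht⟩ := Subgroup.relIndex_dvd_card (H := M) (K := U)
    refine ⟨r * t, Nat.eq_of_mul_eq_mul_right (Nat.pos_of_ne_zero
      (right_ne_zero_of_mul (a := Nat.card M) (b := M.relIndex U) ?_)) ?_⟩
    · rw [e2, hr]
      exact (Nat.mul_pos Nat.card_pos (hr ▸ Nat.pos_of_ne_zero Subgroup.index_ne_zero_of_finite)).ne'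
    · rw [e2, hr, ht]; ring
  have hxY : cj x Y = Y := by
    have hx' : x ∈ normalizer (Y : Set X) := by
      rw [hY, ← comap_normalizer_eq_of_surjective _ (QuotientGroup.mk'_surjective M)]
      exact hx
    exact cj_eq_of_mem_normalizer hx'
  obtain ⟨y, hy, hyx⟩ := (hxY ▸ hUsyl.cj x).exists_conj hUsyl
  rw [cj_cj] at hyx
  obtain ⟨w, hw, hwy⟩ := hy
  refine ⟨w⁻¹ * (y * x), mul_mem (inv_mem (le_normalizer hw)) (mem_normalizer_of_cj_eq hyx), ?_⟩
  rw [map_mul, map_mul, map_inv, hwy, inv_mul_cancel_left]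

/-- A nontrivial normal subgroup of order prime to `p`. -/
theorem sfc_of_pPrime (h𝓦 : ∀ W ∈ 𝓦, IsCharPFunctor.{u} p W) (M : Subgroup X) [M.Normal]
    (hM : ¬ p ∣ Nat.card M) (ih : SFC 𝓦 p (X ⧸ M)) : SFC 𝓦 p X := by
  intro S A h hA hA'
  set q := QuotientGroup.mk' M with hq
  set P : Subgroup X := (S : Subgroup X) with hP
  let S' : Sylow p (X ⧸ M) := S.mapSurjective (QuotientGroup.mk'_surjective M)
  have hS' : (S' : Subgroup (X ⧸ M)) = P.map q := rfl
  have key : ∀ {B' : Set (X ⧸ M)} {g' : X ⧸ M}, Steps (stepSet 𝓦 (P.map q)) (P.map q : Set (X ⧸ M)) B' g' →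
      ∀ B : Set X, B ⊆ (P : Set X) → q '' B = B' →
      ∃ g, Steps (stepSet 𝓦 P) (P : Set X) B g ∧ ∀ b ∈ B, q (g * b * g⁻¹) = g' * q b * g'⁻¹ := by
    intro B' g' hst
    induction hst with
    | nil B' _ => exact fun B hB _ => ⟨1, Steps.nil B hB, fun b _ => by simp⟩
    | cons B' x' g' hB'' hx hrest ihs =>
      intro B hB hBB
      obtain ⟨W, hW, hxW⟩ := hx
      obtain ⟨x, rfl⟩ := QuotientGroup.mk'_surjective M x'
      obtain ⟨n, hn, hnx'⟩ := normalizer_inducedFunctor_quotient (h𝓦 W hW) S M hM hxW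
      have hnx : q n = q x := hnx'
      set N0 := normalizer ((inducedFunctor W P : Subgroup X) : Set X) with hN0
      have hPN : P ≤ N0 := Fusion.le_normalizer_inducedFunctor (h𝓦 W hW) S.isPGroup'
      set Y := (P ⊔ M) ⊓ N0
      have hPY : P ≤ Y := le_inf le_sup_left hPN
      have hC : cj n (Subgroup.closure B) ≤ Y := by
        rw [show cj n (Subgroup.closure B) = _ from MonoidHom.map_closure _ B, closure_le]
        rintro _ ⟨b, hb, rfl⟩
        refine ⟨?_, N0.mul_mem (N0.mul_mem hn (hPN (hB hb))) (N0.inv_mem hn)⟩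
        rw [← QuotientGroup.ker_mk' M, ← comap_map_eq]
        show q (n * b * n⁻¹) ∈ P.map q
        rw [map_mul, map_mul, map_inv, hnx]
        exact hrest.subset ⟨q b, hBB ▸ ⟨b, hb, rfl⟩, rfl⟩
      have hsyl : IsSylowIn p P Y := ⟨hPY, S.isPGroup', fun hd =>
        S.not_dvd_index (hd.trans (relIndex_dvd_index_of_le hPY))⟩
      have hCp : IsPGroup p ↥(cj n (Subgroup.closure B)) :=
        isPGroup_cj (S.isPGroup'.to_le ((closure_le P).mpr hB))
      obtain ⟨d, hd, hdC⟩ := hsyl.exists_cj_le hCp hC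
      obtain ⟨s, hs, m, hm, hsm⟩ := mem_sup_of_normal_right.mp hd.1
      have hm' : m ∈ N0 := by
        have h1 := mul_mem (inv_mem (hPN hs)) hd.2
        rwa [← hsm, inv_mul_cancel_left] at h1
      have hz : m * n ∈ stepSet 𝓦 P := ⟨W, hW, mul_mem hm' hn⟩
      have hzB : limg B (m * n) ⊆ (P : Set X) := by
        rintro _ ⟨b, hb, rfl⟩
        have h1 : d * (n * b * n⁻¹) * d⁻¹ ∈ P :=
          hdC (conj_mem_cj (conj_mem_cj (subset_closure hb)))
        have e : m * n * b * (m * n)⁻¹ = s⁻¹ * (d * (n * b * n⁻¹) * d⁻¹) * s := by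
          rw [← hsm]; group
        show m * n * b * (m * n)⁻¹ ∈ P
        rw [e]
        exact mul_mem (mul_mem (inv_mem hs) h1) hs
      have hmq : q m = 1 := (QuotientGroup.eq_one_iff m).mpr hm
      have hqz : ∀ b : X, q (m * n * b * (m * n)⁻¹) = q x * q b * (q x)⁻¹ := fun b => by
        simp only [map_mul, map_inv, hmq, one_mul, hnx]
      obtain ⟨g, hg, hgq⟩ := ihs (limg B (m * n)) hzB (by
        rw [← hBB]
        simp only [limg, Set.image_image]
        exact Set.image_congr' hqz)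
      refine ⟨g * (m * n), Steps.cons B _ g hB hz hg, fun b hb => ?_⟩
      have h1 := hgq _ ⟨b, hb, rfl⟩
      rw [hqz] at h1
      calc q (g * (m * n) * b * (g * (m * n))⁻¹) = q (g * (m * n * b * (m * n)⁻¹) * g⁻¹) := by
            congr 1; group
        _ = g' * (q x * q b * (q x)⁻¹) * g'⁻¹ := h1
        _ = g' * q x * q b * (g' * q x)⁻¹ := by group
  obtain ⟨g', hg', he'⟩ := ih S' (q '' A) (q h)
    (by rw [hS', Subgroup.coe_map]; exact Set.image_mono hA) (by
      rw [hS', Subgroup.coe_map]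
      rintro _ ⟨_, ⟨a, ha, rfl⟩, rfl⟩
      exact ⟨_, hA' ⟨a, ha, rfl⟩, by simp⟩)
  rw [hS'] at hg'
  obtain ⟨g, hg, hgq⟩ := key hg' A hA rfl
  refine ⟨g, hg, fun a ha => ?_⟩
  have h1 : q (g * a * g⁻¹) = q (h * a * h⁻¹) := by
    rw [hgq a ha, he' _ ⟨a, ha, rfl⟩]; simp
  have h2 : (g * a * g⁻¹)⁻¹ * (h * a * h⁻¹) ∈ M := QuotientGroup.eq.mp h1
  have h3 : (g * a * g⁻¹)⁻¹ * (h * a * h⁻¹) ∈ P :=
    mul_mem (inv_mem (hg.subset_limg ⟨a, ha, rfl⟩)) (hA' ⟨a, ha, rfl⟩)
  obtain ⟨k, hk⟩ := S.isPGroup' ⟨_, h3⟩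
  exact inv_mul_eq_one.mp (orderOf_eq_one_iff.mp (Nat.eq_one_of_dvd_coprimes
    (Nat.Coprime.pow_left k (hp.out.coprime_iff_not_dvd.mpr hM))
    (orderOf_dvd_of_pow_eq_one (by simpa using congrArg Subtype.val hk))
    (M.orderOf_dvd_natCard h2)))

/-- A central extension modulo `p`: every element of order prime to `p` centralizes `O_p`. -/
theorem sfc_of_sup_eq_top (h𝓦 : ∀ W ∈ 𝓦, IsCharPFunctor.{u} p W) (hne : 𝓦.Nonempty)
    (S : Sylow p X) (hSQ : (S : Subgroup X) ≠ pCore p X)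
    (htop : (S : Subgroup X) ⊔ centralizer ((pCore p X : Subgroup X) : Set X) = ⊤)
    (ihq : SFC 𝓦 p (X ⧸ pCore p X)) (ih : ∀ H : Subgroup X, H ≠ ⊤ → SFC 𝓦 p ↥H)
    (A : Set X) (h : X) (hA : A ⊆ (S : Subgroup X)) (hA' : limg A h ⊆ (S : Subgroup X)) :
    Agree (stepSet 𝓦 (S : Subgroup X)) ((S : Subgroup X) : Set X) A h := by
  set P : Subgroup X := (S : Subgroup X) with hP
  set Q := pCore p X with hQ
  set q := QuotientGroup.mk' Q with hq
  have hS := S.isPGroup'
  have hQP : Q ≤ P := Cores.pCore_le_sylow S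
  have hcm : (P.map q).comap q = P := comap_map_eq_self (by rwa [QuotientGroup.ker_mk'])
  let S' : Sylow p (X ⧸ Q) := S.mapSurjective (QuotientGroup.mk'_surjective Q)
  have hS' : (S' : Subgroup (X ⧸ Q)) = P.map q := rfl
  have hne' : P.map q ≠ ⊥ := fun hb => hSQ (le_antisymm
    (by rwa [Subgroup.map_eq_bot_iff, QuotientGroup.ker_mk'] at hb) hQP)
  -- lift the chains of `X / Q`
  have key : ∀ {B' : Set (X ⧸ Q)} {g' : X ⧸ Q}, Steps (stepSet 𝓦 (P.map q)) (P.map q : Set (X ⧸ Q)) B' g' →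
      ∀ B : Set X, B ⊆ (P : Set X) → q '' B = B' →
      ∃ g, Agree (stepSet 𝓦 P) (P : Set X) B g ∧ ∀ b ∈ B, q (g * b * g⁻¹) = g' * q b * g'⁻¹ := by
    intro B' g' hst
    induction hst with
    | nil B' _ => exact fun B hB _ => ⟨1, Agree.refl hB, fun b _ => by simp⟩
    | cons B' x' g' hB'' hx hrest ihs =>
      intro B hB hBB
      obtain ⟨W, hW, hxW⟩ := hx
      obtain ⟨x, rfl⟩ := QuotientGroup.mk'_surjective Q x'
      set K := (inducedFunctor W (P.map q)).comap q with hK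
      have hWle : inducedFunctor W (P.map q) ≤ P.map q := Fusion.inducedFunctor_le _
      have hxK : x ∈ normalizer (K : Set X) := by
        rw [hK, ← comap_normalizer_eq_of_surjective _ (QuotientGroup.mk'_surjective Q)]
        exact hxW
      have hPK : P ≤ normalizer (K : Set X) := by
        rw [hK, ← comap_normalizer_eq_of_surjective _ (QuotientGroup.mk'_surjective Q)]
        intro s hs
        exact Fusion.le_normalizer_inducedFunctor (h𝓦 W hW) (hS.map q) ⟨s, hs, rfl⟩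
      have hKtop : normalizer (K : Set X) ≠ ⊤ := fun he => by
        haveI hKn : K.Normal := normalizer_eq_top_iff.mp he
        have hle : K ≤ Q := Cores.le_pCore (hS.to_le ((comap_mono hWle).trans hcm.le))
        refine Fusion.inducedFunctor_ne_bot (h𝓦 W hW) (hS.map q) hne' ?_
        rw [← map_comap_eq_self_of_surjective (QuotientGroup.mk'_surjective Q)
          (inducedFunctor W (P.map q)), ← hK, Subgroup.map_eq_bot_iff, QuotientGroup.ker_mk']
        exact hle
      have hBx : limg B x ⊆ (P : Set X) := by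
        rintro _ ⟨b, hb, rfl⟩
        rw [SetLike.mem_coe, ← hcm, mem_comap]
        rw [map_mul, map_mul, map_inv]
        exact hrest.subset ⟨q b, hBB ▸ ⟨b, hb, rfl⟩, rfl⟩
      obtain ⟨g, hg, hgq⟩ := ihs (limg B x) hBx (by
        rw [← hBB]
        simp only [limg, Set.image_image, map_mul, map_inv]
        rfl)
      refine ⟨g * x, (agree_of_le h𝓦 S hPK (ih _ hKtop) hxK hB hBx).trans hg, fun b hb => ?_⟩
      calc q (g * x * b * (g * x)⁻¹) = q (g * (x * b * x⁻¹) * g⁻¹) := by congr 1; group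
        _ = g' * q (x * b * x⁻¹) * g'⁻¹ := hgq _ ⟨b, hb, rfl⟩
        _ = g' * q x * q b * (g' * q x)⁻¹ := by simp only [map_mul, map_inv]; group
  have lift : ∀ (E : Subgroup X) (k : X), Q ≤ E → E ≤ P → cj k E ≤ P →
      ∃ g, Agree (stepSet 𝓦 P) (P : Set X) (E : Set X) g ∧
        (∀ e ∈ E, q (g * e * g⁻¹) = q (k * e * k⁻¹)) ∧ cj g E = cj k E := by
    intro E k hQE hE hkE
    obtain ⟨g', hg', he'⟩ := ihq S' (q '' (E : Set X)) (q k)
      (by rw [hS', Subgroup.coe_map]; exact Set.image_mono hE) (by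
        rw [hS', Subgroup.coe_map]
        rintro _ ⟨_, ⟨a, ha, rfl⟩, rfl⟩
        exact ⟨_, hkE (conj_mem_cj ha), by simp⟩)
    rw [hS'] at hg'
    obtain ⟨g, hg, hgq⟩ := key hg' (E : Set X) hE rfl
    have hq' : ∀ e ∈ E, q (g * e * g⁻¹) = q (k * e * k⁻¹) := fun e he => by
      rw [hgq e he, he' _ ⟨e, he, rfl⟩]; simp
    refine ⟨g, hg, hq', eq_of_le_of_card_le (cj_le.mpr fun e he => ?_) (by rw [card_cj, card_cj])⟩
    have h2 : (g * e * g⁻¹)⁻¹ * (k * e * k⁻¹) ∈ cj k E := by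
      have h3 : (g * e * g⁻¹)⁻¹ * (k * e * k⁻¹) ∈ Q := QuotientGroup.eq.mp (hq' e he)
      have hQk : Q ≤ cj k E := fun z hz => mem_cj.mpr
        (hQE (by simpa using (inferInstance : Q.Normal).conj_mem z hz k⁻¹))
      exact hQk h3
    have e3 : g * e * g⁻¹ = k * e * k⁻¹ * ((g * e * g⁻¹)⁻¹ * (k * e * k⁻¹))⁻¹ := by group
    rw [e3]
    exact mul_mem (conj_mem_cj (g := k) he) (inv_mem h2)
  set E := Subgroup.closure A ⊔ Q with hE
  have hQE : Q ≤ E := le_sup_right
  have hAE : A ⊆ (E : Set X) := fun a ha => (le_sup_left : Subgroup.closure A ≤ E) (subset_closure ha)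
  have hEP : E ≤ P := sup_le ((closure_le P).mpr hA) hQP
  have hhE : cj h E ≤ P := by
    rw [hE, show cj h (Subgroup.closure A ⊔ Q) = _ from Subgroup.map_sup _ _ _]
    refine sup_le ?_ ?_
    · rw [MonoidHom.map_closure, closure_le]; exact hA'
    · refine cj_le.mpr fun z hz => hQP ((inferInstance : Q.Normal).conj_mem z hz h)
  suffices hfull : Agree (stepSet 𝓦 P) (P : Set X) (E : Set X) h from hfull.mono hAE
  obtain ⟨g0, hg0, hq0, hc0⟩ := lift E h hQE hEP hhE
  set x := g0⁻¹ * h with hx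
  -- a fully normalized conjugate of `E`
  obtain ⟨k, hk⟩ := exists_isWellPlaced (W := id) S
    (fun R _ => ⟨le_rfl, fun h => h, fun g => rfl⟩) hEP
  have hsyl := IsWellPlaced.isSylowIn hS hk
  obtain ⟨g1, hg1, -, hc1⟩ := lift E k hQE hEP hk.1
  set E0 := cj k E with hE0
  have hxE : cj x E = E := by rw [hx, ← cj_cj, ← hc0, cj_inv_cj]
  have hxq : ∀ e ∈ E, q (x * e * x⁻¹) = q e := fun e he => by
    have h1 := (hq0 e he).symm
    simp only [map_mul, map_inv] at h1 ⊢
    rw [hx, map_mul, map_inv]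
    calc (q g0)⁻¹ * q h * q e * ((q g0)⁻¹ * q h)⁻¹ = (q g0)⁻¹ * (q h * q e * (q h)⁻¹) * q g0 := by group
      _ = (q g0)⁻¹ * (q g0 * q e * (q g0)⁻¹) * q g0 := by rw [h1]
      _ = q e := by group
  -- automorphisms of `E₀` trivial modulo `Q`
  let D : Subgroup X :=
    { carrier := {y | y ∈ normalizer (E0 : Set X) ∧ ∀ e ∈ E0, q (y * e * y⁻¹) = q e}
      one_mem' := ⟨one_mem _, fun e _ => by simp⟩
      mul_mem' := fun {a b} ha hb => ⟨mul_mem ha.1 hb.1, fun e he => by
        calc q (a * b * e * (a * b)⁻¹) = q (a * (b * e * b⁻¹) * a⁻¹) := by congr 1; group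
          _ = q (b * e * b⁻¹) := ha.2 _ ((mem_normalizer_iff.mp hb.1 e).mp he)
          _ = q e := hb.2 e he⟩
      inv_mem' := fun {a} ha => ⟨inv_mem ha.1, fun e he => by
        have h1 := ha.2 _ ((mem_normalizer_iff''.mp ha.1 e).mp he)
        rw [show a * (a⁻¹ * e * a) * a⁻¹ = e by group] at h1
        rw [inv_inv, h1]⟩ }
  have hDN : D ≤ normalizer (E0 : Set X) := fun y hy => hy.1
  have hDnorm : normalizer (E0 : Set X) ≤ normalizer (D : Set X) := by
    rw [le_normalizer_iff]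
    rintro n hn y ⟨hy1, hy2⟩
    refine ⟨mul_mem (mul_mem hn hy1) (inv_mem hn), fun e he => ?_⟩
    have he' : n⁻¹ * e * n ∈ E0 := (mem_normalizer_iff''.mp hn e).mp he
    calc q (n * y * n⁻¹ * e * (n * y * n⁻¹)⁻¹)
        = q n * q (y * (n⁻¹ * e * n) * y⁻¹) * (q n)⁻¹ := by
          rw [← map_inv, ← map_mul, ← map_mul]; congr 1; group
      _ = q e := by rw [hy2 _ he', ← map_inv, ← map_mul, ← map_mul]; congr 1; group
  have hR := isSylowIn_inf hsyl hDN hDnorm
  set R := P ⊓ normalizer (E0 : Set X) ⊓ D with hRdef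
  set C0 := D ⊓ centralizer (E0 : Set X) with hC0
  have hpel : ∀ y : X, (orderOf y).Coprime p → y ∈ centralizer ((Q : Subgroup X) : Set X) := by
    intro y hy
    set C := centralizer ((Q : Subgroup X) : Set X) with hC
    obtain ⟨s, hs, c, hc, rfl⟩ := mem_sup_of_normal_right.mp (show y ∈ P ⊔ C from htop ▸ mem_top y)
    obtain ⟨i, hi⟩ := hS ⟨s, hs⟩
    have hsi : s ^ p ^ i = 1 := by simpa using congrArg Subtype.val hi
    rw [← QuotientGroup.eq_one_iff, ← orderOf_eq_one_iff]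
    refine Nat.eq_one_of_dvd_coprimes (hy.pow_right i) ?_ (orderOf_dvd_of_pow_eq_one ?_)
    · exact orderOf_map_dvd (QuotientGroup.mk' C) (s * c)
    · rw [QuotientGroup.mk_mul, (QuotientGroup.eq_one_iff c).mpr hc, mul_one, ← QuotientGroup.mk_pow,
        hsi, QuotientGroup.mk_one]
  have hDC : ∀ y ∈ D, (orderOf y).Coprime p → y ∈ C0 := by
    intro y hy hyc
    refine ⟨hy, mem_centralizer_iff.mpr fun e he => ?_⟩
    set z := e⁻¹ * (y * e * y⁻¹) with hz
    have hzQ : z ∈ Q := QuotientGroup.eq.mp (hy.2 e he).symm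
    have hzy : y * z * y⁻¹ = z := by
      rw [← mem_centralizer_iff.mp (hpel y hyc) z hzQ, mul_inv_cancel_right]
    have hpow : ∀ n : ℕ, y ^ n * e * (y ^ n)⁻¹ = e * z ^ n := by
      intro n
      induction n with
      | zero => simp
      | succ n ihn =>
        calc y ^ (n + 1) * e * (y ^ (n + 1))⁻¹ = y * (y ^ n * e * (y ^ n)⁻¹) * y⁻¹ := by
              rw [pow_succ']; group
          _ = y * (e * z ^ n) * y⁻¹ := by rw [ihn]
          _ = (y * e * y⁻¹) * (y * z ^ n * y⁻¹) := by group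
          _ = e * z * z ^ n := by rw [← conj_pow, hzy, hz, mul_inv_cancel_left]
          _ = e * z ^ (n + 1) := by rw [mul_assoc, ← pow_succ']
    have h1 := hpow (orderOf y)
    rw [pow_orderOf_eq_one, one_mul, inv_one, mul_one] at h1
    obtain ⟨i, hi⟩ := (Cores.pCore_isPGroup (p := p) (G := X)) ⟨z, hzQ⟩
    have hz1 : z = 1 := orderOf_eq_one_iff.mp (Nat.eq_one_of_dvd_coprimes (hyc.pow_right i)
      (orderOf_dvd_of_pow_eq_one (mul_eq_left.mp h1.symm))
      (orderOf_dvd_of_pow_eq_one (by simpa using congrArg Subtype.val hi)))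
    have h2 : e = y * e * y⁻¹ := inv_mul_eq_one.mp hz1
    exact (eq_mul_inv_iff_mul_eq.mp h2)
  have hDdec : ∀ y ∈ D, ∃ s ∈ P, s ∈ normalizer (E0 : Set X) ∧
      ∀ e ∈ E0, y * e * y⁻¹ = s * e * s⁻¹ := by
    intro y hy
    haveI : (C0.subgroupOf D).Normal := by
      refine normal_subgroupOf_of_le_normalizer ?_
      rw [le_normalizer_iff]
      rintro d hd c ⟨hc1, hc2⟩
      refine ⟨D.mul_mem (D.mul_mem hd hc1) (D.inv_mem hd), mem_centralizer_iff.mpr fun e he => ?_⟩
      have he' : d⁻¹ * e * d ∈ E0 := (mem_normalizer_iff''.mp hd.1 e).mp he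
      calc e * (d * c * d⁻¹) = d * ((d⁻¹ * e * d) * c) * d⁻¹ := by group
        _ = d * (c * (d⁻¹ * e * d)) * d⁻¹ := by rw [mem_centralizer_iff.mp hc2 _ he']
        _ = d * c * d⁻¹ * e := by group
    set qD := QuotientGroup.mk' (C0.subgroupOf D) with hqD
    have hquot : IsPGroup p (↥D ⧸ C0.subgroupOf D) := by
      intro z
      obtain ⟨d, rfl⟩ := QuotientGroup.mk'_surjective _ z
      obtain ⟨i, hi⟩ := Fusion.exists_pow_coprime (p := p) d
      refine ⟨i, ?_⟩
      rw [← map_pow]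
      refine (QuotientGroup.eq_one_iff _).mpr (mem_subgroupOf.mpr (hDC _ (d ^ p ^ i).2 ?_))
      rw [Subgroup.orderOf_coe]
      exact hi
    have htopR : (R.subgroupOf D).map qD = ⊤ := by
      obtain ⟨n, hn⟩ := IsPGroup.iff_card.mp hquot
      rw [← index_eq_one]
      have h1 : ((R.subgroupOf D).map qD).index ∣ p ^ n := hn ▸ Subgroup.index_dvd_card _
      have h2 : ((R.subgroupOf D).map qD).index ∣ (R.subgroupOf D).index :=
        Subgroup.index_map_dvd _ (QuotientGroup.mk'_surjective _)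
      refine Nat.eq_one_of_dvd_coprimes ?_ h1 h2
      exact Nat.Coprime.pow_left n (hp.out.coprime_iff_not_dvd.mpr hR.ndvd)
    obtain ⟨r, hr, hre⟩ := (htopR ▸ mem_top (qD ⟨y, hy⟩) : qD ⟨y, hy⟩ ∈ (R.subgroupOf D).map qD)
    have hc : (r : X)⁻¹ * y ∈ C0 := mem_subgroupOf.mp (QuotientGroup.eq.mp hre)
    refine ⟨r, hr.1.1, hr.1.2, fun e he => ?_⟩
    have h1 := mem_centralizer_iff.mp hc.2 e he
    calc y * e * y⁻¹ = r * ((r : X)⁻¹ * y * e) * y⁻¹ := by group
      _ = r * (e * ((r : X)⁻¹ * y)) * y⁻¹ := by rw [h1]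
      _ = r * e * (r : X)⁻¹ := by group
  have hg1' : Agree (stepSet 𝓦 P) (P : Set X) (E0 : Set X) g1⁻¹ := by
    obtain ⟨g, hg, he⟩ := hg1
    have hlim : limg (E : Set X) g = (E0 : Set X) := by
      rw [limg_congr he, limg_coe, hc1]
    refine ⟨g⁻¹, hlim ▸ hg.symm (stepSet_inv P), fun e he' => ?_⟩
    rw [← hlim] at he'
    obtain ⟨a, ha, rfl⟩ := he'
    simp only [inv_inv]
    nth_rw 2 [he a ha]
    group
  set y0 := g1 * x * g1⁻¹ with hy0
  have hy0D : y0 ∈ D := by
    refine ⟨mem_normalizer_of_cj_eq ?_, fun e he => ?_⟩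
    · rw [hy0, ← cj_cj, ← cj_cj, ← hc1, cj_inv_cj, hxE]
    · rw [← hc1, mem_cj] at he
      calc q (g1 * x * g1⁻¹ * e * (g1 * x * g1⁻¹)⁻¹)
          = q g1 * q (x * (g1⁻¹ * e * g1) * x⁻¹) * (q g1)⁻¹ := by
            rw [← map_inv, ← map_mul, ← map_mul]; congr 1; group
        _ = q e := by rw [hxq _ he, ← map_inv, ← map_mul, ← map_mul]; congr 1; group
  obtain ⟨s, hs, hsN, hse⟩ := hDdec y0 hy0D
  have hlim1 : limg (E : Set X) g1 = (E0 : Set X) := by rw [limg_coe, hc1]
  have hlim0 : limg (E0 : Set X) y0 = (E0 : Set X) := by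
    rw [limg_coe, cj_eq_of_mem_normalizer hy0D.1]
  have hy0A : Agree (stepSet 𝓦 P) (P : Set X) (E0 : Set X) y0 := by
    refine (Agree.of_mem (x := s) hk.1 ?_ (mem_stepSet_of_mem h𝓦 hne hS (le_normalizer hs))).congr
      fun e he => (hse e he).symm
    rw [limg_coe, cj_eq_of_mem_normalizer hsN]
    exact hk.1
  have hxA : Agree (stepSet 𝓦 P) (P : Set X) (E : Set X) x := by
    have h1 := hg1.trans (hlim1.symm ▸ hy0A)
    have h2 := h1.trans (k := g1⁻¹) (by rw [← limg_limg, hlim1, hlim0]; exact hg1')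
    simpa [hy0, mul_assoc] using h2
  have hlimx : limg (E : Set X) x = (E : Set X) := by rw [limg_coe, hxE]
  have h3 := hxA.trans (k := g0) (by rw [hlimx]; exact hg0)
  simpa [hx] using h3

/-- The self-centralizing case fails only for a nontrivial normal `p'`-subgroup or when the centralizer of
`O_p` has a Sylow subgroup outside `O_p`. -/
theorem centralizer_le_of_inf_le (hM : pPrimeCore p X = ⊥) (S : Sylow p X)
    (hR : (S : Subgroup X) ⊓ centralizer ((pCore p X : Subgroup X) : Set X) ≤ pCore p X) :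
    centralizer ((pCore p X : Subgroup X) : Set X) ≤ pCore p X := by
  set C := centralizer ((pCore p X : Subgroup X) : Set X) with hC
  haveI : C.Normal := inferInstance
  have hsyl := isSylowIn_inf (isSylowIn_sylow S) (le_top : C ≤ ⊤)
    (by rw [normalizer_eq_top_iff.mpr ‹C.Normal›])
  have hcen : normalizer ((hsyl.toSylow : Subgroup ↥C) : Set ↥C) ≤
      centralizer ((hsyl.toSylow : Subgroup ↥C) : Set ↥C) := by
    intro c _
    refine mem_centralizer_iff.mpr fun r hr => Subtype.ext ?_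
    rw [SetLike.mem_coe, hsyl.coe_toSylow, mem_subgroupOf] at hr
    exact mem_centralizer_iff.mp c.2 (r : X) (hR hr)
  obtain ⟨P₁, N, hN, hc⟩ := Fusion.hasNormalPComplement_of_normalizer_le_centralizer _ hcen
  haveI := hN
  have hNchar : N.Characteristic := by
    rw [Fusion.eq_pResidual (Fusion.not_dvd_card_of_isComplement' P₁ hc)
      (Fusion.isPGroup_quotient_of_isComplement' P₁ hc)]
    infer_instance
  haveI := hNchar
  have hNbot : N = ⊥ := by
    have h1 : N.map C.subtype ≤ pPrimeCore p X := by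
      haveI : (N.map C.subtype).Normal := ConjAct.normal_of_characteristic_of_normal
      refine Cores.le_pPrimeCore ?_
      rw [card_map_of_injective C.subtype_injective]
      exact (hp.out.coprime_iff_not_dvd.mpr (Fusion.not_dvd_card_of_isComplement' P₁ hc)).symm
    rw [hM, le_bot_iff] at h1
    exact (map_eq_bot_iff_of_injective _ C.subtype_injective).mp h1
  refine Cores.le_pCore (IsPGroup.of_equiv (isPGroup_quotient_of_bot ?_) (MulEquiv.refl _))
  exact hNbot ▸ Fusion.isPGroup_quotient_of_isComplement' P₁ hc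
where
  isPGroup_quotient_of_bot {H : Type u} [Group H] (h : IsPGroup p (H ⧸ (⊥ : Subgroup H))) :
      IsPGroup p H := h.of_equiv QuotientGroup.quotientBot

/-- **Strong fusion from constrained sections to all sections.** -/
theorem sfc_sections {G : Type u} [Group G] [Finite G] (h𝓦 : ∀ W ∈ 𝓦, IsCharPFunctor.{u} p W)
    (hne : 𝓦.Nonempty)
    (hcons : ∀ (X : Type u) [Group X] [Finite X], Fusion.IsSec G X →
      centralizer ((pCore p X : Subgroup X) : Set X) ≤ pCore p X → SFC 𝓦 p X) :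
    ∀ (n : ℕ) (X : Type u) [Group X] [Finite X], Nat.card X = n → Fusion.IsSec G X → SFC 𝓦 p X := by
  intro n
  induction n using Nat.strong_induction_on with
  | _ n ih =>
  intro X _ _ hn hX
  have ihsub : ∀ H : Subgroup X, H ≠ ⊤ → SFC 𝓦 p ↥H := fun H hH =>
    ih _ (hn ▸ lt_of_le_of_ne (card_le_card_group H) fun h => hH (eq_top_of_card_eq H h)) ↥H rfl
      (hX.subgroup H)
  have ihquot : ∀ (M : Subgroup X) [M.Normal], M ≠ ⊥ → SFC 𝓦 p (X ⧸ M) := fun M _ hM => by
    refine ih _ ?_ _ rfl (hX.quotient M)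
    rw [← hn, M.card_eq_card_quotient_mul_card_subgroup]
    exact lt_mul_of_one_lt_right Nat.card_pos ((one_lt_card_iff_ne_bot _).mpr hM)
  by_cases hQ : pCore p X = ⊥
  · exact sfc_of_pCore_eq_bot h𝓦 hQ ihsub
  by_cases hM : pPrimeCore p X = ⊥
  swap
  · exact sfc_of_pPrime h𝓦 _ Cores.not_dvd_card_pPrimeCore (ihquot _ hM)
  by_cases hcen : centralizer ((pCore p X : Subgroup X) : Set X) ≤ pCore p X
  · exact hcons X hX hcen
  intro S A h hA hA'
  set Q := pCore p X with hQdef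
  set P : Subgroup X := (S : Subgroup X) with hP
  set C := centralizer ((Q : Subgroup X) : Set X) with hC
  by_cases hY : P ⊔ C = ⊤
  · by_cases hSQ : P = Q
    · refine Agree.of_mem hA hA' (mem_stepSet_of_mem h𝓦 hne S.isPGroup' ?_)
      rw [← hP, hSQ, normalizer_eq_top_iff.mpr inferInstance]
      exact mem_top h
    · exact sfc_of_sup_eq_top h𝓦 hne S hSQ hY (ihquot Q hQ) ihsub A h hA hA'
  -- both `S C_G(Q)` and `N(Q (S ∩ C_G(Q)))` are proper
  haveI : C.Normal := inferInstance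
  set R := P ⊓ C with hR
  set N0 := normalizer ((Q ⊔ R : Subgroup X) : Set X) with hN0
  have hQR : Q ⊔ R ≤ P := sup_le (Cores.pCore_le_sylow S) inf_le_left
  have hN0top : N0 ≠ ⊤ := fun he => hcen (centralizer_le_of_inf_le hM S (by
    haveI := normalizer_eq_top_iff.mp he
    exact le_sup_right.trans (Cores.le_pCore (S.isPGroup'.to_le hQR))))
  have hRN : normalizer (R : Set X) ≤ N0 := by
    intro n hn
    refine mem_normalizer_of_cj_eq ?_
    rw [show cj n (Q ⊔ R) = _ from Subgroup.map_sup _ _ _]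
    show cj n Q ⊔ cj n R = Q ⊔ R
    rw [cj_eq_of_mem_normalizer hn, cj_eq_of_mem_normalizer
      (show n ∈ normalizer (Q : Set X) by rw [normalizer_eq_top_iff.mpr inferInstance]; exact mem_top n)]
  have hPN0 : P ≤ N0 := ((le_inf le_normalizer
    (le_top.trans (normalizer_eq_top_iff.mpr ‹C.Normal›).ge)).trans inf_normalizer_le_normalizer_inf).trans hRN
  -- Frattini argument
  have hRsyl := isSylowIn_inf (isSylowIn_sylow S) (le_top : C ≤ ⊤)
    (by rw [normalizer_eq_top_iff.mpr ‹C.Normal›])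
  obtain ⟨n, hn, hc⟩ : ∃ n ∈ N0, n⁻¹ * h ∈ C := by
    have h1 : IsSylowIn p (cj h R) C := by
      have := hRsyl.cj h
      rwa [cj_eq_of_mem_normalizer (show h ∈ normalizer (C : Set X) by
        rw [normalizer_eq_top_iff.mpr ‹C.Normal›]; exact mem_top h)] at this
    obtain ⟨c', hc', he⟩ := h1.exists_conj hRsyl
    rw [cj_cj] at he
    refine ⟨c' * h, hRN (mem_normalizer_of_cj_eq he), ?_⟩
    have := ‹C.Normal›.conj_mem _ (inv_mem hc') h⁻¹
    simpa [mul_assoc] using this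
  set c := n⁻¹ * h with hcdef
  set Y := P ⊔ C with hYdef
  have hPY : P ≤ Y ⊓ N0 := le_inf le_sup_left hPN0
  have hsyl : IsSylowIn p P (Y ⊓ N0) := ⟨hPY, S.isPGroup', fun hd =>
    S.not_dvd_index (hd.trans (relIndex_dvd_index_of_le hPY))⟩
  have hle : cj c (Subgroup.closure A) ≤ Y ⊓ N0 := by
    rw [show cj c (Subgroup.closure A) = _ from MonoidHom.map_closure _ A, closure_le]
    rintro _ ⟨a, ha, rfl⟩
    have hcY : c ∈ Y := (le_sup_right : C ≤ Y) hc
    refine ⟨Y.mul_mem (Y.mul_mem hcY ((le_sup_left : P ≤ Y) (hA ha))) (Y.inv_mem hcY), ?_⟩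
    have e : c * a * c⁻¹ = n⁻¹ * (h * a * h⁻¹) * n := by rw [hcdef]; group
    show c * a * c⁻¹ ∈ N0
    rw [e]
    exact N0.mul_mem (N0.mul_mem (N0.inv_mem hn) (hPN0 (hA' ⟨a, ha, rfl⟩))) hn
  obtain ⟨d, hd, hdc⟩ := hsyl.exists_cj_le
    (isPGroup_cj (S.isPGroup'.to_le ((closure_le P).mpr hA))) hle
  have hA1 : limg A (d * c) ⊆ (P : Set X) := by
    rw [← limg_limg]
    rintro _ ⟨_, ⟨a, ha, rfl⟩, rfl⟩
    exact hdc (conj_mem_cj (conj_mem_cj (subset_closure ha)))
  have s1 := agree_of_le h𝓦 S (le_sup_left : P ≤ Y) (ihsub Y hY)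
    (mul_mem hd.1 ((le_sup_right : C ≤ Y) hc)) hA hA1
  have e : n * d⁻¹ * (d * c) = h := by rw [hcdef]; group
  have s2 := agree_of_le h𝓦 S hPN0 (ihsub N0 hN0top) (mul_mem hn (inv_mem hd.2)) hA1
    (by rw [limg_limg, e]; exact hA')
  exact e ▸ s1.trans s2

theorem sfc_of_constrained {G : Type u} [Group G] [Finite G] (h𝓦 : ∀ W ∈ 𝓦, IsCharPFunctor.{u} p W)
    (hne : 𝓦.Nonempty)
    (hcons : ∀ (X : Type u) [Group X] [Finite X], Fusion.IsSec G X →
      centralizer ((pCore p X : Subgroup X) : Set X) ≤ pCore p X → SFC 𝓦 p X)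
    {X : Type u} [Group X] [Finite X] (hX : Fusion.IsSec G X) : SFC 𝓦 p X :=
  sfc_sections h𝓦 hne hcons _ X rfl hX

end Cfsg.Agent.H49
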