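import Cfsg.Agent.H90.MetaSupersoluble
import Cfsg.Agent.FusionSys.Alperin

/-!
A supersoluble fusion system on a 2-group is the inner system.
-/

set_option autoImplicit false
set_option linter.unusedSectionVars false
set_option linter.style.haveILetI false

namespace Cfsg.Agent.H49

open Cfsg Cfsg.FusionSystem Cfsg.Agent.FusionSys Subgroup

/-- An automorphism of odd order fixing `N` pointwise, with `X / N` cyclic, is trivial. -/
theorem fix_of_cyclic_quotient {X : Type*} [Group X] [Finite X] (hX : IsPGroup 2 X) (N : Subgroup X)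
    [N.Normal] [IsCyclic (X ⧸ N)] (β : MulAut X) {m : ℕ} (hm : Odd m) (hβ : β ^ m = 1)
    (hN : ∀ z ∈ N, β z = z) : β = 1 := by
  haveI : Fact (Nat.Prime 2) := ⟨Nat.prime_two⟩
  have hmap : N.map (β : X ≃* X).toMonoidHom = N := by
    ext z
    constructor
    · rintro ⟨w, hw, rfl⟩
      show β w ∈ N
      rw [hN w hw]; exact hw
    · intro hz
      exact ⟨z, hz, hN z hz⟩
  let γ : MulAut (X ⧸ N) := QuotientGroup.congr N N (β : X ≃* X) hmap
  have hγ : ∀ (j : ℕ) (x : X), (γ ^ j) (QuotientGroup.mk x) = QuotientGroup.mk ((β ^ j) x) := by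
    intro j
    induction j with
    | zero => intro x; rfl
    | succ j ih =>
      intro x
      rw [pow_succ', pow_succ', MulAut.mul_apply, MulAut.mul_apply, ih]
      rfl
  have hγ1 : γ = 1 := by
    have h1 : γ ^ m = 1 := MulEquiv.ext fun q => by
      obtain ⟨x, rfl⟩ := QuotientGroup.mk_surjective q
      rw [hγ, hβ]; rfl
    obtain ⟨k, hk⟩ := IsPGroup.iff_card.1 (hX.to_quotient N)
    have h2 : orderOf γ ∣ Nat.totient (2 ^ k) := by
      rw [← hk, ← IsCyclic.card_mulAut]; exact orderOf_dvd_natCard γ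
    refine orderOf_eq_one_iff.1 (Nat.eq_one_of_dvd_coprimes ?_ (orderOf_dvd_of_pow_eq_one h1) h2)
    rcases k with _ | k
    · simp
    · rw [Nat.totient_prime_pow_succ Nat.prime_two, Nat.add_one_sub_one, mul_one]
      exact Nat.Coprime.pow_right k (Nat.coprime_two_right.2 hm)
  refine MulEquiv.ext fun x => ?_
  have hd : x⁻¹ * β x ∈ N := by
    have h := hγ 1 x
    rw [pow_one, pow_one, hγ1, MulAut.one_apply] at h
    exact QuotientGroup.eq.1 h
  have hpow : ∀ j : ℕ, (β ^ j) x = x * (x⁻¹ * β x) ^ j := by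
    intro j
    induction j with
    | zero => simp
    | succ j ih =>
      rw [pow_succ', MulAut.mul_apply, ih, map_mul, map_pow, hN _ hd, pow_succ', ← mul_assoc]
      group
  have h3 : (x⁻¹ * β x) ^ m = 1 := by
    have h := hpow m
    rw [hβ, MulAut.one_apply] at h
    exact mul_left_cancel (a := x) (by rw [mul_one]; exact h.symm)
  obtain ⟨k, hk⟩ := IsPGroup.iff_orderOf.1 hX (x⁻¹ * β x)
  have h4 : x⁻¹ * β x = 1 := orderOf_eq_one_iff.1 (Nat.eq_one_of_dvd_coprimes
    (Nat.Coprime.pow_left k (Nat.coprime_two_left.2 hm)) (dvd_of_eq hk) (orderOf_dvd_of_pow_eq_one h3))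
  exact (inv_mul_eq_one.1 h4).symm

variable {Ω : Type*} [Group Ω] {S : Subgroup Ω} [Finite S]

theorem eq_inner_of_supersoluble (hS : IsPGroup 2 S) {F : FusionSystem S} (hF : F.IsSaturated 2)
    {n : ℕ} (c : Fin (n + 1) → Subgroup Ω) (hc0 : c 0 = ⊥) (hcS : c (Fin.last n) = S)
    (hsc : ∀ i, F.StronglyClosed (c i))
    (hstep : ∀ i : Fin n, c i.castSucc ≤ c i.succ ∧ ∃ x ∈ S, c i.succ = c i.castSucc ⊔ zpowers x) :
    F = innerFusionSystem S := by
  haveI : Fact (Nat.Prime 2) := ⟨Nat.prime_two⟩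
  refine eq_inner_of_isPGroup_autGroup hS hF fun P hP => ?_
  haveI := finite_autGroup F hP
  haveI := finite_of_le hP
  -- it is enough that elements of odd order are trivial
  have key : ∀ (α : MulAut P), α ∈ F.autGroup P → ∀ m : ℕ, Odd m → α ^ m = 1 → α = 1 := by
    intro α hα m hm hαm
    suffices h : ∀ i : Fin (n + 1), ∀ x : P, (x : Ω) ∈ c i → α x = x by
      exact MulEquiv.ext fun x => h (Fin.last n) x (hcS ▸ hP x.2)
    intro i
    induction i using Fin.induction with
    | zero =>
      intro x hx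
      rw [hc0, Subgroup.mem_bot] at hx
      rw [show x = 1 from Subtype.ext hx, map_one]
    | succ i ih =>
      obtain ⟨hle, y, hyS, hy⟩ := hstep i
      let X : Subgroup P := (c i.succ).subgroupOf P
      have hinv : ∀ (γ : MulAut P), γ ∈ F.autGroup P → ∀ x ∈ X, γ x ∈ X := fun γ hγ x hx => by
        have h := (stronglyClosed_iff.1 (hsc i.succ)).2 _ _ inf_le_left
          (((mem_autGroup_iff hP).1 hγ).mono (inf_le_right : c i.succ ⊓ P ≤ P)) (x : Ω) ⟨hx, x.2⟩
        rwa [autMap_coe] at h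
      let β : MulAut X :=
        { toFun := fun x => ⟨α x, hinv α hα x x.2⟩
          invFun := fun x => ⟨α⁻¹ x, hinv _ (inv_mem hα) x x.2⟩
          left_inv := fun x => Subtype.ext (MulAut.inv_apply_self _ _ _)
          right_inv := fun x => Subtype.ext (MulAut.apply_inv_self _ _ _)
          map_mul' := fun a b => Subtype.ext (map_mul α (a : P) b) }
      have hβpow : ∀ (j : ℕ) (x : X), (((β ^ j) x : X) : P) = (α ^ j) x := by
        intro j
        induction j with
        | zero => intro x; rfl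
        | succ j ihj =>
          intro x
          rw [pow_succ', pow_succ', MulAut.mul_apply, MulAut.mul_apply, ← ihj]
          rfl
      have hnorm : ∀ s ∈ S, ∀ z ∈ c i.castSucc, s * z * s⁻¹ ∈ c i.castSucc := fun s hs z hz =>
        (stronglyClosed_iff.1 (hsc i.castSucc)).2 _ _ le_rfl (isMap_conj F (hsc i.castSucc).1 hs) z hz
      let N : Subgroup X := ((c i.castSucc).subgroupOf P).subgroupOf X
      haveI hNn : N.Normal := ⟨fun z hz g => hnorm _ (hP (g : P).2) _ hz⟩
      haveI : ((c i.castSucc).subgroupOf (c i.succ)).Normal :=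
        ⟨fun z hz g => hnorm _ ((hsc i.succ).1 g.2) _ hz⟩
      haveI : IsCyclic (↥(c i.succ) ⧸ (c i.castSucc).subgroupOf (c i.succ)) := by
        have hyc : y ∈ c i.succ := hy ▸ mem_sup_right (mem_zpowers y)
        refine ⟨⟨QuotientGroup.mk ⟨y, hyc⟩, fun q => ?_⟩⟩
        obtain ⟨⟨z, hz⟩, rfl⟩ := QuotientGroup.mk_surjective q
        haveI : ((c i.castSucc).subgroupOf S).Normal := ⟨fun w hw g => hnorm _ g.2 _ hw⟩
        have hz' : (⟨z, (hsc i.succ).1 hz⟩ : S) ∈ (c i.castSucc).subgroupOf S ⊔ zpowers (⟨y, hyS⟩ : S) := by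
          have h : (c i.succ).subgroupOf S =
              (c i.castSucc).subgroupOf S ⊔ (zpowers y).subgroupOf S := by
            rw [hy, subgroupOf_sup (hsc i.castSucc).1 (zpowers_le.2 hyS)]
          have h2 : (⟨z, (hsc i.succ).1 hz⟩ : S) ∈ (c i.succ).subgroupOf S := hz
          rw [h] at h2
          have hle' : (zpowers y).subgroupOf S ≤ zpowers (⟨y, hyS⟩ : S) := by
            intro w hw
            obtain ⟨k, hk⟩ := mem_zpowers_iff.1 (mem_subgroupOf.1 hw)
            exact mem_zpowers_iff.2 ⟨k, Subtype.ext hk⟩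
          exact sup_le_sup_left hle' _ h2
        obtain ⟨d, hd, w, hw, hdw⟩ := Subgroup.mem_sup_of_normal_left.1 hz'
        obtain ⟨k, rfl⟩ := mem_zpowers_iff.1 hw
        refine mem_zpowers_iff.2 ⟨k, ?_⟩
        rw [← QuotientGroup.mk_zpow, QuotientGroup.eq, mem_subgroupOf]
        have he : (d : Ω) * y ^ k = z := congrArg Subtype.val hdw
        show (y ^ k)⁻¹ * z ∈ c i.castSucc
        rw [← he]
        simpa [mul_assoc] using hnorm _ (S.inv_mem (zpow_mem hyS k)) _ hd
      haveI : IsCyclic (↥X ⧸ N) := by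
        refine isCyclic_of_injective (QuotientGroup.map N ((c i.castSucc).subgroupOf (c i.succ))
          ((P.subtype.comp X.subtype).codRestrict (c i.succ) fun x => x.2) fun z hz => hz) ?_
        intro a b hab
        obtain ⟨a, rfl⟩ := QuotientGroup.mk_surjective a
        obtain ⟨b, rfl⟩ := QuotientGroup.mk_surjective b
        exact QuotientGroup.eq.2 (QuotientGroup.eq.1 hab :)
      have hβ1 : β = 1 := fix_of_cyclic_quotient ((hS.of_injective _ (inclusion_injective hP)).to_subgroup X)
        N β hm (MulEquiv.ext fun x => Subtype.ext (by rw [hβpow, hαm]; rfl))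
        fun z hz => Subtype.ext (ih (z : P) hz)
      intro x hx
      exact congrArg Subtype.val (DFunLike.congr_fun hβ1 ⟨x, hx⟩)
  intro a
  have ho : orderOf a ≠ 0 := (isOfFinOrder_of_finite a).orderOf_pos.ne'
  obtain ⟨k, m, hm, hkm⟩ := Nat.exists_eq_two_pow_mul_odd ho
  refine ⟨k, Subtype.ext ?_⟩
  refine key _ ((F.autGroup P).pow_mem a.2 _) m hm ?_
  rw [SubmonoidClass.coe_pow, ← pow_mul, ← hkm, ← SubmonoidClass.coe_pow, pow_orderOf_eq_one]
  rfl

end Cfsg.Agent.H49
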